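import Groth.Agent.GenBC.RankStratumAlg
import Groth.Agent.GrFlat5.FlatAtIso
import Groth.Agent.MorLib.FlatBC
import Groth.Agent.MorLib.IdealFG2
import Groth.Agent.ModPairLib.Basic
import Groth.Agent.ExistEasy.PP.HatLemmas
import Groth.Agent.FittX.Sheaf
import Groth.Agent.PBC.Betti
import Groth.Agent.AssLib.Push

/-!
# The stratum where the direct image is locally free of rank `r` and commutes with base change
-/

set_option autoImplicit false
set_option linter.style.haveILetI false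
set_option linter.unusedSectionVars false
set_option backward.isDefEq.respectTransparency false
set_option backward.isDefEq.respectTransparency.types false
set_option maxHeartbeats 2000000
set_option synthInstance.maxHeartbeats 400000

universe u

open CategoryTheory CategoryTheory.Limits AlgebraicGeometry TopologicalSpace Opposite
open scoped TensorProduct

noncomputable section

namespace Groth.Agent.GenBC.RankStratum

open Groth.Agent Groth.Agent.QCoh

section BaseChange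

variable {X S : Scheme.{u}} {f : X ⟶ S} [IsProper f] [LocallyOfFinitePresentation f] {F : X.Modules}
  {X' T : Scheme.{u}} {g' : X' ⟶ X} {π : X' ⟶ T} {u : T ⟶ S}

/-- A model over an affine open of the base gives one over an affine open of a base change. -/
theorem isModelOn_bc (h : IsPullback g' π f u) (hF : Coh.IsQCoh F) {W : S.Opens} {hW : IsAffineOpen W}
    {P : ChainComplex (ModuleCat.{u} Γ(S, W)) ℤ} (hP : IsModelOn f F hW P) {V : T.Opens} (hV : IsAffineOpen V)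
    (hle : V ≤ u ⁻¹ᵁ W) :
    IsModelOn π ((Scheme.Modules.pullback g').obj F) hV (CohIII.bcCx (u.appLE W V hle).hom P) := by
  haveI : IsProper π := MorphismProperty.of_isPullback h inferInstance
  let φ : Γ(S, W) →+* Γ(T, V) := (u.appLE W V hle).hom
  let a := Spec.map (CommRingCat.ofHom φ)
  let j := hV.fromSpec
  have hag : a ≫ hW.fromSpec = j ≫ u := IsAffineOpen.SpecMap_appLE_fromSpec u hW hV hle
  have hT := isPullback_overSpec (f := π) hV
  have hA : IsPullback ((π ⁻¹ᵁ V).ι ≫ g') (overSpec π hV) f (a ≫ hW.fromSpec) := by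
    rw [hag]; exact hT.paste_horiz h
  have hpb := isPullback_overSpec (f := f) hW
  let g₀ : (π ⁻¹ᵁ V : Scheme.{u}) ⟶ (f ⁻¹ᵁ W : X.Opens) :=
    hpb.lift ((π ⁻¹ᵁ V).ι ≫ g') (overSpec π hV ≫ a) (by rw [Category.assoc]; exact hA.w)
  have hg₀ : g₀ ≫ (f ⁻¹ᵁ W).ι = (π ⁻¹ᵁ V).ι ≫ g' := hpb.lift_fst _ _ _
  have h₀ : IsPullback g₀ (overSpec π hV) (overSpec f hW) a :=
    IsPullback.of_right (by rw [hg₀]; exact hA) (hpb.lift_snd _ _ _) hpb
  letI : ((f ⁻¹ᵁ W : X.Opens) : Scheme.{u}).Over (Spec (CommRingCat.of Γ(S, W))) := ⟨overSpec f hW⟩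
  letI : ((π ⁻¹ᵁ V : X'.Opens) : Scheme.{u}).Over (Spec (CommRingCat.of Γ(T, V))) := ⟨overSpec π hV⟩
  haveI : IsProper (((f ⁻¹ᵁ W : X.Opens) : Scheme.{u}) ↘ Spec (CommRingCat.of Γ(S, W))) := (PBC.proper_overSpec f hW).1
  haveI : CompactSpace ((f ⁻¹ᵁ W : X.Opens) : Scheme.{u}) :=
    QuasiCompact.compactSpace_of_compactSpace (((f ⁻¹ᵁ W : X.Opens) : Scheme.{u}) ↘ Spec (CommRingCat.of Γ(S, W)))
  haveI : ((f ⁻¹ᵁ W : X.Opens) : Scheme.{u}).IsSeparated := ⟨by
    rw [← Limits.terminal.comp_from (((f ⁻¹ᵁ W : X.Opens) : Scheme.{u}) ↘ Spec (CommRingCat.of Γ(S, W)))]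
    infer_instance⟩
  let θ : (Scheme.Modules.pullback g₀).obj ((Scheme.Modules.pullback (f ⁻¹ᵁ W).ι).obj F) ≅
      (Scheme.Modules.pullback (π ⁻¹ᵁ V).ι).obj ((Scheme.Modules.pullback g').obj F) :=
    (Scheme.Modules.pullbackComp g₀ _).app F ≪≫ (Scheme.Modules.pullbackCongr hg₀).app F ≪≫
      ((Scheme.Modules.pullbackComp _ g').app F).symm
  refine ⟨finite_bcCx_X_aux P φ hP.1, fun i => ?_, fun n hn N => ?_, fun p => ?_⟩
  · letI := φ.toAlgebra
    have := hP.2.1 i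
    exact inferInstanceAs (Module.Free Γ(T, V) (Γ(T, V) ⊗[Γ(S, W)] P.X i))
  · obtain ⟨e⟩ := nonempty_bcT_iso P φ n
    haveI : Subsingleton ((CohIII.TFun (CohIII.bcCx φ P) n).obj N) :=
      AddCommGrpCat.subsingleton_of_isZero ((Functor.map_isZero (forget₂ (ModuleCat.{u} Γ(S, W)) AddCommGrpCat.{u})
        (hP.2.2.1 n hn ((ModuleCat.restrictScalars φ).obj N))).of_iso (e.app N))
    exact @ModuleCat.isZero_of_subsingleton _ _ ((CohIII.TFun (CohIII.bcCx φ P) n).obj N) ‹_›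
  · obtain ⟨b⟩ := nonempty_bcT_iso P φ (-(p : ℤ))
    obtain ⟨e₁⟩ := hP.2.2.2 p
    obtain ⟨e₂⟩ := nonempty_HAb_bc_iso φ g₀ h₀ (QCoh.isQCoh_pullback _ hF) p
    exact ⟨b ≪≫ Functor.isoWhiskerLeft _ e₁ ≪≫ e₂.symm ≪≫
      Functor.isoWhiskerRight (Functor.isoWhiskerLeft (tilde.functor (CommRingCat.of Γ(T, V)))
        (Functor.isoWhiskerLeft (Scheme.Modules.pullback
          (((π ⁻¹ᵁ V : X'.Opens) : Scheme.{u}) ↘ Spec (CommRingCat.of Γ(T, V))))
          (DCoh.tensorBi.flip.mapIso θ))) _⟩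

end BaseChange

section Point

variable {X T : Scheme.{u}} (π : X ⟶ T) [IsProper π] [LocallyOfFinitePresentation π] {G : X.Modules}

theorem flat_coker_of_epi (hG : CohB1.IsFP G) {V : T.Opens} (hV : IsAffineOpen V)
    {P : ChainComplex (ModuleCat.{u} Γ(T, V)) ℤ} (hP : IsModelOn π G hV P)
    (h : ∀ t ∈ V, Epi (CohBC.bc0 π (T.fromSpecResidueField t) (π.fiberToSpecResidueField t) (π.fiberι t)
      (π.fiber_fac t) G)) :
    Module.Flat Γ(T, V) (FlatCxLib.Coker P 0 (-1)) := by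
  refine flat_coker_of_splitAt hP.2.1 (show (-1 : ℤ) = 0 - 1 by norm_num) (splitAt_of_locally fun 𝔭 _ => ?_)
  obtain ⟨t, ht, he⟩ := QCoh.exists_point_fromSpec hV ⟨𝔭, ‹_›⟩
  letI : ((π ⁻¹ᵁ V : X.Opens) : Scheme.{u}).Over (Spec (CommRingCat.of Γ(T, V))) := ⟨overSpec π hV⟩
  haveI : IsProper (((π ⁻¹ᵁ V : X.Opens) : Scheme.{u}) ↘ Spec (CommRingCat.of Γ(T, V))) :=
    (PBC.proper_overSpec π hV).1
  obtain ⟨g₀, p₀, h₀, -, hepi⟩ := PBC.exists_fibre_square π hG hV ht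
  obtain ⟨r, H, hr, hH⟩ := PBC.exists_homotopy_of_epi (ModStLib.isFP_pullback (π ⁻¹ᵁ V).ι hG) hP
    (hV.primeIdealOf ⟨t, ht⟩).asIdeal (π.fiber t) g₀ p₀ h₀ (hepi (h t ht))
  refine ⟨r, fun hm => hr (by rw [he]; exact hm), ?_⟩
  exact splitAt_of_hom (q := (0 : ℤ)) (b := (ComplexShape.down ℤ).next (-((0 : ℕ) : ℤ))) (by simp) H hH

theorem exists_good_of_flat_coker (hG : CohB1.IsFP G) {V : T.Opens} (hV : IsAffineOpen V)
    {P : ChainComplex (ModuleCat.{u} Γ(T, V)) ℤ} (hP : IsModelOn π G hV P)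
    (hflat : Module.Flat Γ(T, V) (FlatCxLib.Coker P 0 (-1))) {t : T} (ht : t ∈ V) :
    ∃ r : Γ(T, V), t ∈ T.basicOpen r ∧
      PBC.IsGood0 (overSpec π hV) ((Scheme.Modules.pullback (π ⁻¹ᵁ V).ι).obj G) r := by
  haveI := hflat
  letI : ((π ⁻¹ᵁ V : X.Opens) : Scheme.{u}).Over (Spec (CommRingCat.of Γ(T, V))) := ⟨overSpec π hV⟩
  haveI : IsProper (((π ⁻¹ᵁ V : X.Opens) : Scheme.{u}) ↘ Spec (CommRingCat.of Γ(T, V))) :=
    (PBC.proper_overSpec π hV).1
  have hs : SplitAt P (0 : ℤ) 1 := splitAt_of_flat_coker hP.1 hP.2.1 (show (-1 : ℤ) = 0 - 1 by norm_num)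
  obtain ⟨H, hH⟩ := exists_hom_next (p := -((0 : ℕ) : ℤ)) hs
  obtain ⟨r, hr, hgood⟩ := PBC.exists_isGood0_of_homotopy (ModStLib.isFP_pullback (π ⁻¹ᵁ V).ι hG) hP
    (hV.primeIdealOf ⟨t, ht⟩).asIdeal
    (fun h1 => (hV.primeIdealOf ⟨t, ht⟩).isPrime.ne_top (Ideal.eq_top_iff_one _ |>.2 h1)) hH
  exact ⟨r, (QCoh.mem_basicOpen_iff_notMem hV ht r).2 hr, hgood⟩

theorem fiberRank_eq_of_free (hG : CohB1.IsFP G) {V : T.Opens} (hV : IsAffineOpen V)
    {P : ChainComplex (ModuleCat.{u} Γ(T, V)) ℤ} (hP : IsModelOn π G hV P)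
    (hflat : Module.Flat Γ(T, V) (FlatCxLib.Coker P 0 (-1))) {O : T.Opens} (hle : V ≤ O) {n : ℕ}
    (e : ((Scheme.Modules.pushforward π).obj G).restrict O.ι ≅ FlatMod.freeMod (O : Scheme.{u}) n)
    {t : T} (ht : t ∈ V) : CohIII.fiberRank π G 0 t = n := by
  haveI := hflat
  haveI : HasInjectiveResolutions X.Modules := ExtShX.hasInjRes
  haveI := Groth.Agent.SpObjSS.enoughInjectives_of_hasInjectiveResolutions (C := X.Modules)
  haveI := Groth.Agent.QCoh.preservesFiniteLimits_push π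
  let e' : ((Coh.Rpush π 0).obj G).restrict O.ι ≅ FlatMod.freeMod (O : Scheme.{u}) n :=
    (Scheme.Modules.restrictFunctor O.ι).mapIso
      ((Scheme.Modules.pushforward π).rightDerivedZeroIsoSelf.app G) ≪≫ e
  obtain ⟨ε⟩ := PBC.nonempty_sections_natModel π hG hV hP 0
  obtain ⟨l⟩ := QCoh.free_sections hV hle e'
  rw [(fiberRank_eq_dRank π (QCoh.isQCoh_of_isFP hG) 0 hV hP ht).1]
  exact dRank_eq_of_free hP.2.1 (ε.symm.trans l) _

end Point

section Stratum

variable {X S : Scheme.{u}} (f : X ⟶ S) [IsProper f] [LocallyOfFinitePresentation f] {F : X.Modules} (r : ℕ)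

/-- The direct image after base change is locally free of rank `r` and commutes with further base change. -/
def Stratum (F : X.Modules) ⦃T : Scheme.{u}⦄ (u : T ⟶ S) : Prop :=
  FlatMod.IsFinLocFreeOfRank r ((Scheme.Modules.pushforward (pullback.snd f u)).obj
    ((Scheme.Modules.pullback (pullback.fst f u)).obj F)) ∧
  ∀ ⦃X'' T' : Scheme.{u}⦄ (v' : X'' ⟶ pullback f u) (f'' : X'' ⟶ T') (u' : T' ⟶ T)
    (h : IsPullback v' f'' (pullback.snd f u) u'),
      IsIso (CohBC.bc0 (pullback.snd f u) u' f'' v' h.w ((Scheme.Modules.pullback (pullback.fst f u)).obj F))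

variable {f r}

theorem flatOver_bc (hfl : FlatMod.IsFlatOver f F) {T : Scheme.{u}} (u : T ⟶ S) :
    FlatMod.IsFlatOver (pullback.snd f u) ((Scheme.Modules.pullback (pullback.fst f u)).obj F) := fun x =>
  MorLib.FlatBC.isFlatOverAt_baseChange f (pullback.snd f u) (pullback.fst f u) u
    (IsPullback.of_hasPullback f u) F x (hfl _)

theorem flat_coker_of_stratum (hF : CohB1.IsFP F) {T : Scheme.{u}} {u : T ⟶ S} (hu : Stratum f r F u)
    {W : S.Opens} {hW : IsAffineOpen W} {P : ChainComplex (ModuleCat.{u} Γ(S, W)) ℤ} (hP : IsModelOn f F hW P)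
    {V : T.Opens} (hV : IsAffineOpen V) (hle : V ≤ u ⁻¹ᵁ W) :
    Module.Flat Γ(T, V) (FlatCxLib.Coker (CohIII.bcCx (u.appLE W V hle).hom P) 0 (-1)) :=
  flat_coker_of_epi _ (ModStLib.isFP_pullback _ hF) hV
    (isModelOn_bc (IsPullback.of_hasPullback f u) (QCoh.isQCoh_of_isFP hF) hP hV hle) fun t _ => by
      haveI := hu.2 ((pullback.snd f u).fiberι t) ((pullback.snd f u).fiberToSpecResidueField t)
        (T.fromSpecResidueField t) (IsPullback.of_hasPullback _ _)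
      infer_instance

theorem fiberRank_of_stratum (hF : CohB1.IsFP F) (hfl : FlatMod.IsFlatOver f F) {T : Scheme.{u}} {u : T ⟶ S}
    (hu : Stratum f r F u) (t : T) : CohIII.fiberRank f F 0 (u t) = r := by
  have hq := QCoh.isQCoh_of_isFP hF
  obtain ⟨O, htO, ⟨e⟩⟩ := hu.1 t
  obtain ⟨_, ⟨W, hW, rfl⟩, htW, -⟩ :=
    S.isBasis_affineOpens.exists_subset_of_mem_open (Set.mem_univ (u t)) isOpen_univ
  obtain ⟨P, hP⟩ := exists_isModelOn f F hF hfl (show IsAffineOpen W from hW)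
  obtain ⟨_, ⟨V, hV, rfl⟩, htV, hVle⟩ :=
    T.isBasis_affineOpens.exists_subset_of_mem_open (show t ∈ O ⊓ u ⁻¹ᵁ W from ⟨htO, htW⟩) (O ⊓ u ⁻¹ᵁ W).2
  have hV' : IsAffineOpen V := hV
  have hle : V ≤ u ⁻¹ᵁ W := fun _ h => (hVle h).2
  rw [← PBC.fiberRank_bc (IsPullback.of_hasPullback f u) hq 0 t]
  exact fiberRank_eq_of_free _ (ModStLib.isFP_pullback _ hF) hV'
    (isModelOn_bc (IsPullback.of_hasPullback f u) hq hP hV' hle) (flat_coker_of_stratum hF hu hP hV' hle)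
    (fun _ h => (hVle h).1) e htV

/-- Flat cokernels on a cover and constant fibre dimension give the stratum property. -/
theorem stratum_of_cover (hF : CohB1.IsFP F) (hfl : FlatMod.IsFlatOver f F) {T : Scheme.{u}} {u : T ⟶ S}
    (hr : ∀ t, CohIII.fiberRank f F 0 (u t) = r)
    (h : ∀ t : T, ∃ (W : S.Opens) (hW : IsAffineOpen W) (P : ChainComplex (ModuleCat.{u} Γ(S, W)) ℤ)
      (V : T.Opens) (_ : IsAffineOpen V) (hle : V ≤ u ⁻¹ᵁ W), t ∈ V ∧ IsModelOn f F hW P ∧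
        Module.Flat Γ(T, V) (FlatCxLib.Coker (CohIII.bcCx (u.appLE W V hle).hom P) 0 (-1))) :
    Stratum f r F u := by
  have hq := QCoh.isQCoh_of_isFP hF
  have hG : CohB1.IsFP ((Scheme.Modules.pullback (pullback.fst f u)).obj F) := ModStLib.isFP_pullback _ hF
  choose W hW P V hV hle htV hP hflat using h
  have hgood := fun t => exists_good_of_flat_coker (pullback.snd f u) hG (hV t)
    (isModelOn_bc (IsPullback.of_hasPullback f u) hq (hP t) (hV t) (hle t)) (hflat t) (htV t)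
  choose a hta hgood using hgood
  refine ⟨fun t => ?_, fun X'' T' v' f'' u' h => KFlatLib.isIso_of_isIso_restrict _ fun z => ?_⟩
  · obtain ⟨O, n, htO, ⟨e⟩⟩ := PBC.isFinLocFree_of_good (pullback.snd f u) hG (hV t) (hgood t) t (hta t)
    obtain ⟨_, ⟨V', hV', rfl⟩, htV', hV'le⟩ :=
      T.isBasis_affineOpens.exists_subset_of_mem_open (show t ∈ O ⊓ V t from ⟨htO, htV t⟩) (O ⊓ V t).2
    have hle' : V' ≤ u ⁻¹ᵁ W t := fun _ h => hle t (hV'le h).2
    have hV'' : IsAffineOpen V' := hV'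
    refine ⟨O, htO, ?_⟩
    have hn : CohIII.fiberRank (pullback.snd f u) ((Scheme.Modules.pullback (pullback.fst f u)).obj F) 0 t = n := by
      refine fiberRank_eq_of_free _ hG hV'' (isModelOn_bc (IsPullback.of_hasPullback f u) hq (hP t) hV'' hle')
        ?_ (fun _ h => (hV'le h).1) e htV'
      letI : Algebra Γ(S, W t) Γ(T, V t) := (u.appLE (W t) (V t) (hle t)).hom.toAlgebra
      letI : Algebra Γ(S, W t) Γ(T, V') := (u.appLE (W t) V' hle').hom.toAlgebra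
      let ρ := T.presheaf.map (homOfLE (fun _ h => (hV'le h).2 : V' ≤ V t)).op
      letI : Algebra Γ(T, V t) Γ(T, V') := ρ.hom.toAlgebra
      haveI : IsScalarTower Γ(S, W t) Γ(T, V t) Γ(T, V') := .of_algebraMap_eq' (by
        exact (congrArg CommRingCat.Hom.hom (u.appLE_map (hle t)
          (homOfLE (fun _ h => (hV'le h).2 : V' ≤ V t)).op)).symm)
      haveI := (FlatCxLib.flat_coker_bcCx_iff_aux (P t) (u.appLE (W t) (V t) (hle t)).hom 0 (-1) _ rfl).1 (hflat t)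
      refine (FlatCxLib.flat_coker_bcCx_iff_aux (P t) (u.appLE (W t) V' hle').hom 0 (-1) _ rfl).2 ?_
      exact Module.Flat.of_linearEquiv (TensorProduct.AlgebraTensorModule.cancelBaseChange Γ(S, W t) Γ(T, V t)
        Γ(T, V') Γ(T, V') (FlatCxLib.Coker (P t) 0 (-1))).symm
    rw [PBC.fiberRank_bc (IsPullback.of_hasPullback f u) hq 0 t, hr t] at hn
    exact ⟨e ≪≫ eqToIso (by rw [hn])⟩
  · obtain ⟨_, ⟨W', hW', rfl⟩, hzW, hWr⟩ := T'.isBasis_affineOpens.exists_subset_of_mem_open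
      (show z ∈ u' ⁻¹ᵁ T.basicOpen (a (u' z)) from hta (u' z)) (u' ⁻¹ᵁ T.basicOpen (a (u' z))).2
    exact ⟨W', hzW, PBC.isIso_bc0_of_good (pullback.snd f u) hG (hV (u' z)) (hgood (u' z)) v' f'' u' h hW' hWr⟩

/-- The stratum kills the ideal of a model. -/
theorem stratumIdeal_le_ker (hF : CohB1.IsFP F) (hfl : FlatMod.IsFlatOver f F) {T : Scheme.{u}} {u : T ⟶ S}
    (hu : Stratum f r F u) {W : S.Opens} {hW : IsAffineOpen W} {P : ChainComplex (ModuleCat.{u} Γ(S, W)) ℤ}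
    (hP : IsModelOn f F hW P) {V : T.Opens} (hV : IsAffineOpen V) (hle : V ≤ u ⁻¹ᵁ W) :
    stratumIdeal P r ≤ RingHom.ker (u.appLE W V hle).hom := by
  letI : Algebra Γ(S, W) Γ(T, V) := (u.appLE W V hle).hom.toAlgebra
  rw [← Ideal.map_eq_bot_iff_le_ker]
  refine map_eq_bot_of_flat (B := Γ(T, V)) hP.1 hP.2.1 hP.2.2.1 r
    ((FlatCxLib.flat_coker_bcCx_iff_aux P (u.appLE W V hle).hom 0 (-1) _ rfl).1
      (flat_coker_of_stratum hF hu hP hV hle)) fun y => ?_
  obtain ⟨t, ht, rfl⟩ := QCoh.exists_point_fromSpec hV y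
  have htW : u t ∈ W := hle ht
  rw [show PrimeSpectrum.comap (algebraMap Γ(S, W) Γ(T, V)) (hV.primeIdealOf ⟨t, ht⟩) =
    hW.primeIdealOf ⟨u t, htW⟩ from PrimeSpectrum.ext (AssLib.comap_primeIdealOf u hW hV hle ht)]
  exact ((fiberRank_eq_dRank f (QCoh.isQCoh_of_isFP hF) 0 hW hP htW).1.symm).trans
    (fiberRank_of_stratum hF hfl hu t)

/-- Vanishing of the ideals on a cover inside the open of rank at most `r` gives the stratum property. -/
theorem stratum_of_le_ker (hF : CohB1.IsFP F) (hfl : FlatMod.IsFlatOver f F) {T : Scheme.{u}} {u : T ⟶ S}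
    (hr : ∀ t, CohIII.fiberRank f F 0 (u t) ≤ r)
    (h : ∀ t : T, ∃ (W : S.Opens) (hW : IsAffineOpen W) (P : ChainComplex (ModuleCat.{u} Γ(S, W)) ℤ)
      (V : T.Opens) (_ : IsAffineOpen V) (hle : V ≤ u ⁻¹ᵁ W), t ∈ V ∧ IsModelOn f F hW P ∧
        stratumIdeal P r ≤ RingHom.ker (u.appLE W V hle).hom) :
    Stratum f r F u := by
  have key : ∀ t : T, CohIII.fiberRank f F 0 (u t) = r ∧
      ∃ (W : S.Opens) (hW : IsAffineOpen W) (P : ChainComplex (ModuleCat.{u} Γ(S, W)) ℤ)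
        (V : T.Opens) (_ : IsAffineOpen V) (hle : V ≤ u ⁻¹ᵁ W), t ∈ V ∧ IsModelOn f F hW P ∧
          Module.Flat Γ(T, V) (FlatCxLib.Coker (CohIII.bcCx (u.appLE W V hle).hom P) 0 (-1)) := by
    intro t
    obtain ⟨W, hW, P, V, hV, hle, ht, hP, hI⟩ := h t
    letI : Algebra Γ(S, W) Γ(T, V) := (u.appLE W V hle).hom.toAlgebra
    have hd : ∀ s (hs : s ∈ V), CohIII.dRank P 0
        (PrimeSpectrum.comap (algebraMap Γ(S, W) Γ(T, V)) (hV.primeIdealOf ⟨s, hs⟩)) =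
        CohIII.fiberRank f F 0 (u s) := fun s hs => by
      rw [show PrimeSpectrum.comap (algebraMap Γ(S, W) Γ(T, V)) (hV.primeIdealOf ⟨s, hs⟩) =
        hW.primeIdealOf ⟨u s, hle hs⟩ from PrimeSpectrum.ext (AssLib.comap_primeIdealOf u hW hV hle hs)]
      exact (fiberRank_eq_dRank f (QCoh.isQCoh_of_isFP hF) 0 hW hP (hle hs)).1.symm
    obtain ⟨h1, h2⟩ := flat_and_rank_of_map_eq_bot (B := Γ(T, V)) hP.1 hP.2.1 r
      ((Ideal.map_eq_bot_iff_le_ker _).2 hI) fun y => by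
        obtain ⟨s, hs, rfl⟩ := QCoh.exists_point_fromSpec hV y
        exact (hd s hs).trans_le (hr s)
    exact ⟨(hd t ht).symm.trans (h2 _), W, hW, P, V, hV, hle, ht, hP,
      (FlatCxLib.flat_coker_bcCx_iff_aux P (u.appLE W V hle).hom 0 (-1) _ rfl).2 h1⟩
  exact stratum_of_cover hF hfl (fun t => (key t).1) fun t => (key t).2

end Stratum

end Groth.Agent.GenBC.RankStratum
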