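import Groth.Agent.MorLib.IdealFG2
import Groth.Agent.ModPairLib.Basic
import Groth.Agent.ExistEasy.PP.HatLemmas
import Groth.Agent.FittX.Sheaf

/-!
# Closed subschemes given by a property that affine locally is the vanishing of an ideal
-/

set_option autoImplicit false
set_option linter.style.haveILetI false
set_option backward.isDefEq.respectTransparency false
set_option backward.isDefEq.respectTransparency.types false

universe u

open CategoryTheory CategoryTheory.Limits AlgebraicGeometry TopologicalSpace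

noncomputable section

namespace Groth.Agent.GenBC

open Groth.Agent

theorem exists_closed_of_ideals {U : Scheme.{u}} (Pr : ∀ ⦃T : Scheme.{u}⦄, (T ⟶ U) → Prop)
    (I : ∀ W : U.affineOpens, Ideal Γ(U, W.1)) (hfg : ∀ W, (I W).FG)
    (h1 : ∀ (T : Scheme.{u}) (g : T ⟶ U), Pr g → ∀ (W : U.affineOpens) (V : T.Opens), IsAffineOpen V →
      ∀ hle : V ≤ g ⁻¹ᵁ W.1, I W ≤ RingHom.ker (g.appLE W.1 V hle).hom)
    (h2 : ∀ (T : Scheme.{u}) (g : T ⟶ U), (∀ t : T, ∃ (W : U.affineOpens) (V : T.Opens) (_ : IsAffineOpen V)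
      (hle : V ≤ g ⁻¹ᵁ W.1), t ∈ V ∧ I W ≤ RingHom.ker (g.appLE W.1 V hle).hom) → Pr g) :
    ∃ (Z : Scheme.{u}) (ι : Z ⟶ U), IsClosedImmersion ι ∧ LocallyOfFinitePresentation ι ∧
      ∀ (T : Scheme.{u}) (g : T ⟶ U), Pr g ↔ ∃ g' : T ⟶ Z, g' ≫ ι = g := by
  have hcompat : ∀ (W : U.affineOpens) (a : Γ(U, W.1)),
      (I W).map (U.presheaf.map (homOfLE (U.basicOpen_le a)).op).hom = I (U.affineBasicOpen a) := by
    intro W a
    let D : U.affineOpens := U.affineBasicOpen a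
    let res := U.presheaf.map (homOfLE (U.basicOpen_le a)).op
    have spec : ∀ K : Ideal Γ(U, D.1), ∃ (T : Scheme.{u}) (g : T ⟶ U) (_ : IsAffine T)
        (hD : ⊤ ≤ g ⁻¹ᵁ D.1), RingHom.ker (g.appLE D.1 ⊤ hD).hom = K := by
      intro K
      let φ : Γ(U, D.1) →+* (Γ(U, D.1) ⧸ K) := Ideal.Quotient.mk K
      let g := Spec.map (CommRingCat.ofHom φ) ≫ D.2.fromSpec
      have hD : (⊤ : (Spec (CommRingCat.of (Γ(U, D.1) ⧸ K))).Opens) ≤ g ⁻¹ᵁ D.1 := fun z _ => by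
        show D.2.fromSpec (Spec.map (CommRingCat.ofHom φ) z) ∈ D.1
        rw [← SetLike.mem_coe, ← D.2.range_fromSpec]
        exact ⟨_, rfl⟩
      refine ⟨_, g, inferInstance, hD, ?_⟩
      have e := ExistEasy.appLE_specMap_fromSpec D.2 φ hD
      ext x
      have hx : (Scheme.ΓSpecIso (CommRingCat.of (Γ(U, D.1) ⧸ K))).hom ((g.appLE D.1 ⊤ hD) x) = φ x :=
        congr($e x)
      rw [RingHom.mem_ker, ← Ideal.Quotient.eq_zero_iff_mem]
      change (g.appLE D.1 ⊤ hD) x = 0 ↔ φ x = 0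
      rw [← hx]
      exact (map_eq_zero_iff _
        (Scheme.ΓSpecIso (CommRingCat.of (Γ(U, D.1) ⧸ K))).commRingCatIsoToRingEquiv.injective).symm
    have hle' : ∀ {T : Scheme.{u}} (g : T ⟶ U) (hD : ⊤ ≤ g ⁻¹ᵁ D.1) (hW : ⊤ ≤ g ⁻¹ᵁ W.1),
        RingHom.ker (g.appLE W.1 ⊤ hW).hom = (RingHom.ker (g.appLE D.1 ⊤ hD).hom).comap res.hom := by
      intro T g hD hW
      have e : res ≫ g.appLE D.1 ⊤ hD = g.appLE W.1 ⊤ hW := g.map_appLE hD (homOfLE (U.basicOpen_le a)).op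
      rw [← e, CommRingCat.hom_comp, RingHom.comap_ker]
    refine le_antisymm ?_ ?_
    · obtain ⟨T, g, hT, hD, hk⟩ := spec (I D)
      have hW : ⊤ ≤ g ⁻¹ᵁ W.1 := hD.trans (g.preimage_mono (U.basicOpen_le a))
      have hPr : Pr g := h2 T g fun t => ⟨D, ⊤, isAffineOpen_top T, hD, trivial, hk.ge⟩
      refine Ideal.map_le_iff_le_comap.2 ((h1 T g hPr W ⊤ (isAffineOpen_top T) hW).trans ?_)
      rw [hle' g hD hW, hk]
    · obtain ⟨T, g, hT, hD, hk⟩ := spec ((I W).map res.hom)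
      have hW : ⊤ ≤ g ⁻¹ᵁ W.1 := hD.trans (g.preimage_mono (U.basicOpen_le a))
      have hPr : Pr g := h2 T g fun t => ⟨W, ⊤, isAffineOpen_top T, hW, trivial, by
        rw [hle' g hD hW, hk]; exact Ideal.le_comap_map⟩
      exact (h1 T g hPr D ⊤ (isAffineOpen_top T) hD).trans hk.le
  let J : U.IdealSheafData := { ideal := I, map_ideal_basicOpen := hcompat }
  refine ⟨_, J.subschemeι, inferInstance, MorLib.IdealFG.lfp_subschemeι (K := J) hfg, fun T g => ?_⟩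
  have hfac : (∃ g' : T ⟶ J.subscheme, g' ≫ J.subschemeι = g) ↔ J.comap g = ⊥ := by
    rw [← le_bot_iff, ← Scheme.IdealSheafData.le_map_iff_comap_le, Scheme.IdealSheafData.map_bot]
    constructor
    · rintro ⟨g', rfl⟩
      calc J = J.subschemeι.ker := J.ker_subschemeι.symm
        _ ≤ _ := Scheme.Hom.le_ker_comp _ _
    · intro h
      exact ⟨IsClosedImmersion.lift J.subschemeι g (by rw [Scheme.IdealSheafData.ker_subschemeι]; exact h),
        IsClosedImmersion.lift_fac _ _ _⟩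
  rw [hfac]
  have hcov : ∀ t : T, ∃ (W : U.affineOpens) (V : T.affineOpens), t ∈ V.1 ∧ V.1 ≤ g ⁻¹ᵁ W.1 := fun t => by
    obtain ⟨_, ⟨W, hW, rfl⟩, hgW, -⟩ :=
      U.isBasis_affineOpens.exists_subset_of_mem_open (Set.mem_univ (g t)) isOpen_univ
    obtain ⟨_, ⟨V, hV, rfl⟩, htV, hVle⟩ :=
      T.isBasis_affineOpens.exists_subset_of_mem_open (show t ∈ g ⁻¹ᵁ W from hgW) (g ⁻¹ᵁ W).2
    exact ⟨⟨W, hW⟩, ⟨V, hV⟩, htV, hVle⟩
  constructor
  · intro hPr
    refine FittX.eq_of_cover fun t => ?_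
    obtain ⟨W, V, htV, hle⟩ := hcov t
    refine ⟨V, htV, ?_⟩
    rw [ModPairLib.ideal_comap J g W V hle, Scheme.IdealSheafData.ideal_bot]
    exact (Ideal.map_eq_bot_iff_le_ker _).2 (h1 T g hPr W V.1 V.2 hle)
  · intro h
    refine h2 T g fun t => ?_
    obtain ⟨W, V, htV, hle⟩ := hcov t
    refine ⟨W, V.1, V.2, hle, htV, (Ideal.map_eq_bot_iff_le_ker _).1 ?_⟩
    have := ModPairLib.ideal_comap J g W V hle
    rw [h, Scheme.IdealSheafData.ideal_bot] at this
    exact this.symm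

end Groth.Agent.GenBC
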