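import Groth.Agent.PBC.Mu
import Groth.Agent.QCoh.GodMV

/-!
# Base change of homology through `T_p(A) ⊗ B → T_p(B)`
-/

set_option autoImplicit false
set_option linter.style.haveILetI false
set_option backward.isDefEq.respectTransparency false
set_option backward.isDefEq.respectTransparency.types false
set_option maxHeartbeats 1000000
set_option synthInstance.maxHeartbeats 400000

universe u

open CategoryTheory CategoryTheory.Limits MonoidalCategory
open scoped TensorProduct

noncomputable section

namespace Groth.Agent.GenBC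

open Groth.Agent Groth.Agent.QCoh

variable {A B : Type u} [CommRing A] [CommRing B] [Algebra A B]
  (K : CochainComplex (ModuleCat.{u} A) ℕ) (K' : CochainComplex (ModuleCat.{u} B) ℕ)

/-- A complex over `B` as a complex over `A`. -/
abbrev resCx : CochainComplex (ModuleCat.{u} A) ℕ :=
  ((ModuleCat.restrictScalars (algebraMap A B)).mapHomologicalComplex _).obj K'

/-- Scalars of `B` as endomorphisms of the complex over `A`. -/
def scEnd (b : B) : resCx (A := A) K' ⟶ resCx (A := A) K' :=
  ((ModuleCat.restrictScalars (algebraMap A B)).mapHomologicalComplex _).map (b • 𝟙 K')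

theorem scEnd_apply (b : B) (i : ℕ) (x : K'.X i) : (scEnd (A := A) K' b).f i x = (b • x : K'.X i) := rfl

variable {K K'} (f : K ⟶ resCx (A := A) K')

/-- `c ⊗ b ↦ b • f c`. -/
def psiHom : CohIII.tensorObj K (ModuleCat.of A B) ⟶ resCx (A := A) K' where
  f i := ModuleCat.ofHom (Y := (resCx (A := A) K').X i) (TensorProduct.lift (LinearMap.mk₂ A
    (fun (c : K.X i) (b : B) => (scEnd (A := A) K' b).f i (f.f i c))
    (fun c c' b => by rw [map_add, map_add])
    (fun a c b => by rw [map_smul, map_smul])
    (fun c b b' => by
      show ((b + b') • (show K'.X i from f.f i c) : K'.X i) = _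
      rw [add_smul]
      rfl)
    (fun a c b => by
      show ((a • b) • (show K'.X i from f.f i c) : K'.X i) = algebraMap A B a • (b • (show K'.X i from f.f i c))
      rw [smul_smul, Algebra.smul_def])))
  comm' i j _ := by
    refine ModuleCat.MonoidalCategory.tensor_ext fun c b => ?_
    show (resCx (A := A) K').d i j ((scEnd (A := A) K' b).f i (f.f i c)) =
      (scEnd (A := A) K' b).f j (f.f j (K.d i j c))
    exact (ConcreteCategory.congr_hom ((scEnd (A := A) K' b).comm i j) (f.f i c)).trans
      (congrArg ((scEnd (A := A) K' b).f j) (ConcreteCategory.congr_hom (f.comm i j) c))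

theorem psiHom_tmul (i : ℕ) (c : K.X i) (b : B) :
    ((psiHom f).f i).hom (c ⊗ₜ[A] b) = (scEnd (A := A) K' b).f i (f.f i c) := rfl

theorem bijective_psiHom (i : ℕ) (h : Function.Bijective (adjunct (f.f i))) :
    Function.Bijective ((psiHom f).f i) := by
  let cm : K.X i ⊗[A] B ≃ₗ[A] B ⊗[A] K.X i := TensorProduct.comm A (K.X i) B
  have e : ∀ z : K.X i ⊗[A] B, ((psiHom f).f i).hom z = (show K'.X i from (adjunct (f.f i)).hom (cm z)) := by
    intro z
    induction z using TensorProduct.induction_on with
    | zero => rw [map_zero, map_zero cm, map_zero]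
    | add a b ha hb => rw [map_add, map_add cm, map_add, ha, hb]
    | tmul c b => exact (psiHom_tmul f i c b).trans (adjunct_tmul (f.f i) b c).symm
  rw [show ⇑((psiHom f).f i) = fun z => (show K'.X i from (adjunct (f.f i)).hom (cm z)) from funext e]
  exact h.comp cm.bijective

variable (K) in
/-- `c ⊗ a ↦ a • c`. -/
def ridHom : CohIII.tensorObj K (ModuleCat.of A A) ⟶ K where
  f i := ModuleCat.ofHom (TensorProduct.rid A (K.X i)).toLinearMap
  comm' i j _ := by
    refine ModuleCat.MonoidalCategory.tensor_ext fun c a => ?_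
    show K.d i j (a • c) = a • K.d i j c
    exact map_smul _ _ _

/-- Homology after base change, from bijectivity of `T_p(A) ⊗ B → T_p(B)`. -/
theorem exists_homology_bc (hf : ∀ i, Function.Bijective (adjunct (f.f i))) (p : ℕ) :
    ∃ L : K.homology p ⊗[A] B →+ (resCx (A := A) K').homology p,
      ((Function.Bijective L ↔ Function.Bijective (PBC.muT K p (ModuleCat.of A B))) ∧
        (Function.Surjective L ↔ Function.Surjective (PBC.muT K p (ModuleCat.of A B)))) ∧
      ∀ (h : K.homology p) (b : B), L (h ⊗ₜ b) =
        HomologicalComplex.homologyMap (scEnd (A := A) K' b) p (HomologicalComplex.homologyMap f p h) := by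
  haveI : IsIso (psiHom f) := by
    haveI : ∀ i, IsIso ((psiHom f).f i) := fun i =>
      (ConcreteCategory.isIso_iff_bijective _).2 (bijective_psiHom f i (hf i))
    exact HomologicalComplex.Hom.isIso_of_components _
  haveI : IsIso (ridHom K) := by
    haveI : ∀ i, IsIso ((ridHom K).f i) := fun i =>
      (ConcreteCategory.isIso_iff_bijective _).2 (TensorProduct.rid A (K.X i)).bijective
    exact HomologicalComplex.Hom.isIso_of_components _
  let e : K.homology p ≃ₗ[A] CohIII.T K p (ModuleCat.of A A) :=
    ((HomologicalComplex.homologyFunctor _ _ p).mapIso (asIso (ridHom K))).toLinearEquiv.symm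
  let ψ : CohIII.T K p (ModuleCat.of A B) ≃ₗ[A] (resCx (A := A) K').homology p :=
    ((HomologicalComplex.homologyFunctor _ _ p).mapIso (asIso (psiHom f))).toLinearEquiv
  refine ⟨(ψ.toLinearMap ∘ₗ PBC.muT K p (ModuleCat.of A B) ∘ₗ (e.rTensor B).toLinearMap).toAddMonoidHom,
    ⟨(ψ.comp_bijective _).trans ((e.rTensor B).bijective_comp _),
      (ψ.toEquiv.comp_surjective _).trans ((e.rTensor B).toEquiv.surjective_comp _)⟩, fun h b => ?_⟩
  show ψ (PBC.muT K p (ModuleCat.of A B) (e.rTensor B (h ⊗ₜ b))) = _
  rw [LinearEquiv.rTensor_tmul, PBC.muT_tmul]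
  have hc : CohIII.tensorMap K (PBC.spanHom (ModuleCat.of A B) b) ≫ psiHom f =
      ridHom K ≫ f ≫ scEnd (A := A) K' b := by
    refine HomologicalComplex.hom_ext _ _ fun i => ?_
    refine ModuleCat.MonoidalCategory.tensor_ext fun c a => ?_
    show (scEnd (A := A) K' (a • b)).f i (f.f i c) = (scEnd (A := A) K' b).f i (f.f i (a • c))
    rw [map_smul, map_smul]
    show ((a • b) • (show K'.X i from f.f i c) : K'.X i) = algebraMap A B a • (b • (show K'.X i from f.f i c))
    rw [smul_smul, Algebra.smul_def]
  have h2 := congr(HomologicalComplex.homologyMap $hc p)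
  simp only [HomologicalComplex.homologyMap_comp] at h2
  refine (ConcreteCategory.congr_hom h2 (e h)).trans ?_
  exact congrArg (fun t => HomologicalComplex.homologyMap (scEnd (A := A) K' b) p
    (HomologicalComplex.homologyMap f p t)) (e.symm_apply_apply h)

end Groth.Agent.GenBC
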