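import Groth.Prelude.Def_CohCmp
import Groth.Agent.QCoh.HHExact
import Groth.Agent.QCoh.RpushGod
import Groth.Agent.SiteBase.Top

/-!
# Cohomology of the underlying abelian sheaves: connecting maps and pullback
-/

set_option autoImplicit false
set_option linter.style.haveILetI false
set_option backward.isDefEq.respectTransparency false
set_option backward.isDefEq.respectTransparency.types false
set_option maxHeartbeats 1000000

universe u

open CategoryTheory CategoryTheory.Limits CategoryTheory.Abelian AlgebraicGeometry TopologicalSpace Opposite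

noncomputable section

namespace Groth.Agent.GenBC

open Groth.Agent

section Ab

variable {U : Scheme.{u}} {S T : ShortComplex (CohTop.Ab U)}

theorem extδ_natural (hS : S.ShortExact) (hT : T.ShortExact) (φ : S ⟶ T) (p : ℕ) (x : Sheaf.H S.X₃ p) :
    Sheaf.H.map φ.τ₁ (p + 1) (CohCmp.extδ hS p x) = CohCmp.extδ hT p (Sheaf.H.map φ.τ₃ p x) := by
  show (Ext.comp x hS.extClass rfl).comp (Ext.mk₀ φ.τ₁) (add_zero (p + 1)) =
    (Ext.comp x (Ext.mk₀ φ.τ₃) (add_zero p)).comp hT.extClass rfl
  rw [Ext.comp_assoc_of_third_deg_zero, ShortComplex.ShortExact.extClass_naturality hS hT φ,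
    Ext.comp_assoc_of_second_deg_zero]

theorem extδ_surjective (hS : S.ShortExact) (p : ℕ) (h : Subsingleton (Sheaf.H S.X₂ (p + 1))) :
    Function.Surjective (CohCmp.extδ hS p) := fun x =>
  Ext.covariant_sequence_exact₁ _ hS x (Subsingleton.elim _ _) rfl

theorem extδ_eq_zero_iff (hS : S.ShortExact) (p : ℕ) (x : Sheaf.H S.X₃ p) :
    CohCmp.extδ hS p x = 0 ↔ ∃ y, Sheaf.H.map S.g p y = x := by
  refine ⟨fun h => Ext.covariant_sequence_exact₃ _ hS x rfl h, ?_⟩
  rintro ⟨y, rfl⟩
  show (Ext.comp y (Ext.mk₀ S.g) (add_zero p)).comp hS.extClass rfl = 0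
  rw [Ext.comp_assoc_of_second_deg_zero, hS.comp_extClass, Ext.comp_zero]

end Ab

section Top

variable {X Y : TopCat.{u}} (f : X ⟶ Y)

theorem pullAb_natural {M N : CohTop.Ab Y} (φ : M ⟶ N) (p : ℕ) (x : Sheaf.H M p) :
    CohPull.pullAb f N p (Sheaf.H.map φ p x) = Sheaf.H.map ((CohPull.inv f).map φ) p (CohPull.pullAb f M p x) := by
  show (Ext.mk₀ (CohPull.oneTo f)).comp ((x.comp (Ext.mk₀ φ) (add_zero p)).mapExactFunctor (CohPull.inv f)) (zero_add p) =
    ((Ext.mk₀ (CohPull.oneTo f)).comp (x.mapExactFunctor (CohPull.inv f)) (zero_add p)).comp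
      (Ext.mk₀ ((CohPull.inv f).map φ)) (add_zero p)
  rw [Ext.mapExactFunctor_comp, Ext.mapExactFunctor_mk₀, Ext.comp_assoc_of_third_deg_zero]

theorem map_pullAb_square {M N : CohTop.Ab Y} {M' N' : CohTop.Ab X} (φ : M ⟶ N) (ψ : M' ⟶ N')
    (a : (CohPull.inv f).obj M ⟶ M') (b : (CohPull.inv f).obj N ⟶ N')
    (h : (CohPull.inv f).map φ ≫ b = a ≫ ψ) (p : ℕ) (x : Sheaf.H M p) :
    Sheaf.H.map b p (CohPull.pullAb f N p (Sheaf.H.map φ p x)) =
      Sheaf.H.map ψ p (Sheaf.H.map a p (CohPull.pullAb f M p x)) := by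
  rw [pullAb_natural, ← Sheaf.H.map_comp_apply, ← Sheaf.H.map_comp_apply, h]

theorem map_inv_shortExact {S : ShortComplex (CohTop.Ab Y)} (hS : S.ShortExact) :
    (S.map (CohPull.inv f)).ShortExact :=
  hS.map_of_exact _

theorem pullAb_extδ {S : ShortComplex (CohTop.Ab Y)} (hS : S.ShortExact) (p : ℕ) (x : Sheaf.H S.X₃ p) :
    CohPull.pullAb f S.X₁ (p + 1) (hS.extClass.postcomp _ rfl x) =
      (map_inv_shortExact f hS).extClass.postcomp _ rfl (CohPull.pullAb f S.X₃ p x) := by
  show (Ext.mk₀ (CohPull.oneTo f)).comp ((x.comp hS.extClass rfl).mapExactFunctor (CohPull.inv f)) (zero_add (p + 1)) =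
    ((Ext.mk₀ (CohPull.oneTo f)).comp (x.mapExactFunctor (CohPull.inv f)) (zero_add p)).comp
      (map_inv_shortExact f hS).extClass rfl
  rw [Ext.mapExactFunctor_comp, Ext.mapExactFunctor_extClass,
    Ext.comp_assoc (Ext.mk₀ (CohPull.oneTo f)) _ _ (zero_add p) rfl (by omega)]

end Top

section Sch

variable {X Y : Scheme.{u}}

/-- The underlying abelian sheaf functor. -/
abbrev tab (X : Scheme.{u}) : X.Modules ⥤ CohTop.Ab X := SheafOfModules.toSheaf X.ringCatSheaf

instance tab_additive (X : Scheme.{u}) : (tab X).Additive :=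
  inferInstanceAs (QCoh.toAbFunctor X).Additive

theorem tab_shortExact {S : ShortComplex X.Modules} (hS : S.ShortExact) : (S.map (tab X)).ShortExact :=
  QCoh.toAb_shortExact hS

theorem restrict_shortExact {S : ShortComplex X.Modules} (hS : S.ShortExact) {U : Scheme.{u}} (j : U ⟶ X)
    [IsOpenImmersion j] : (S.map (Scheme.Modules.restrictFunctor j)).ShortExact := by
  haveI := (Scheme.Modules.restrictAdjunction j).isLeftAdjoint
  haveI : PreservesFiniteLimits (Scheme.Modules.restrictFunctor j) := inferInstance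
  exact hS.map_of_exact _

theorem toAbOn_shortExact {S : ShortComplex X.Modules} (hS : S.ShortExact) (U : X.Opens) :
    (S.map (CohCmp.toAbOn X U)).ShortExact :=
  tab_shortExact (restrict_shortExact hS U.ι)

theorem isFlasqueMod_restrict (U : X.Opens) {I : X.Modules} (hI : QCoh.IsFlasqueMod I) :
    QCoh.IsFlasqueMod (I.restrict U.ι) where
  epi i := hI.epi (homOfLE (U.ι.image_mono i.unop.le)).op

theorem subsingleton_HH_of_flasque {I : X.Modules} (hI : QCoh.IsFlasqueMod I) (p : ℕ) :
    Subsingleton (Coh.HH X I (p + 1)) :=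
  haveI := hI
  SiteBase.subsingleton_H_of_isFlasque (X := X.toPresheafedSpace.carrier) (QCoh.abSheaf I) p

theorem subsingleton_HHon_of_flasque {I : X.Modules} (hI : QCoh.IsFlasqueMod I) (U : X.Opens) (p : ℕ) :
    Subsingleton (Coh.HHon X I U (p + 1)) :=
  subsingleton_HH_of_flasque (isFlasqueMod_restrict U hI) p

/-- An injective copresentation. -/
theorem exists_inj_ses [HasInjectiveResolutions X.Modules] (F : X.Modules) :
    ∃ (S : ShortComplex X.Modules) (_ : S.ShortExact) (_ : Injective S.X₂), S.X₁ = F := by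
  haveI := SpObjSS.enoughInjectives_of_hasInjectiveResolutions (C := X.Modules)
  let S := ShortComplex.mk (Injective.ι F) (cokernel.π (Injective.ι F)) (cokernel.condition _)
  exact ⟨S, { exact := ShortComplex.exact_of_g_is_cokernel _ (cokernelIsCokernel _) },
    inferInstanceAs (Injective (Injective.under F)), rfl⟩

theorem theta_natural (g : X ⟶ Y) {M N : Y.Modules} (φ : M ⟶ N) :
    (CohPull.inv g.base).map ((tab Y).map φ) ≫ CohPull.theta g N =
      CohPull.theta g M ≫ (tab X).map ((Scheme.Modules.pullback g).map φ) := by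
  let adj := CohPull.invPushAdj g.base
  let η := (Scheme.Modules.pullbackPushforwardAdjunction g).unit
  let tM : (tab Y).obj M ⟶ (CohTop.push g.base).obj ((tab X).obj ((Scheme.Modules.pullback g).obj M)) :=
    (tab Y).map (η.app M)
  let tN : (tab Y).obj N ⟶ (CohTop.push g.base).obj ((tab X).obj ((Scheme.Modules.pullback g).obj N)) :=
    (tab Y).map (η.app N)
  have key : (tab Y).map φ ≫ tN = tM ≫ (CohTop.push g.base).map ((tab X).map ((Scheme.Modules.pullback g).map φ)) := by
    refine ((tab Y).map_comp _ _).symm.trans ((congrArg (tab Y).map (η.naturality φ)).trans ?_)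
    exact (tab Y).map_comp _ _
  exact (adj.homEquiv_naturality_left_symm ((tab Y).map φ) tN).symm.trans
    ((congrArg (adj.homEquiv _ _).symm key).trans (adj.homEquiv_naturality_right_symm tM
      ((tab X).map ((Scheme.Modules.pullback g).map φ))))

theorem pullMod_natural (g : X ⟶ Y) {M N : Y.Modules} (φ : M ⟶ N) (p : ℕ) (x : Coh.HH Y M p) :
    CohPull.pullMod g N p (CohPull.mapH φ p x) =
      CohPull.mapH ((Scheme.Modules.pullback g).map φ) p (CohPull.pullMod g M p x) :=
  map_pullAb_square g.base ((tab Y).map φ) ((tab X).map ((Scheme.Modules.pullback g).map φ))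
    (CohPull.theta g M) (CohPull.theta g N) (theta_natural g φ) p x

end Sch

end Groth.Agent.GenBC
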