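import Groth.Agent.GenBC.Formula
import Groth.Agent.PBC.Bc0Comp

/-!
# Composition of squares for the base change maps of higher direct images
-/

set_option autoImplicit false
set_option linter.style.haveILetI false
set_option linter.unusedSectionVars false
set_option backward.isDefEq.respectTransparency false
set_option backward.isDefEq.respectTransparency.types false
set_option maxHeartbeats 1000000

universe u

open CategoryTheory CategoryTheory.Limits AlgebraicGeometry TopologicalSpace Opposite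

noncomputable section

namespace Groth.Agent.GenBC

open Groth.Agent Groth.Agent.QCoh

section PullOn

variable {X Y Z : Scheme.{u}} (a : X ⟶ Y) (b : Y ⟶ Z) (U : Z.Opens) (V : Y.Opens) (W : X.Opens)
  (h₂ : V ≤ b ⁻¹ᵁ U) (h₁ : W ≤ a ⁻¹ᵁ V)

theorem le_preimage_comp (h₂ : V ≤ b ⁻¹ᵁ U) (h₁ : W ≤ a ⁻¹ᵁ V) : W ≤ (a ≫ b) ⁻¹ᵁ U := h₁.trans ((Opens.map a.base).monotone h₂)

theorem pullSec_map {X Y : Scheme.{u}} (k : X ⟶ Y) (G : Y.Modules) {V : Y.Opens} {U₁ U₂ : X.Opens}
    (hle : U₁ ≤ k ⁻¹ᵁ V) (i : U₂ ⟶ U₁) (s : Γ(G, V)) :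
    ((Scheme.Modules.pullback k).obj G).presheaf.map i.op (pullSec k G hle s) =
      pullSec k G (i.le.trans hle) s :=
  QCoh.map_map _ _ _

/-- Pullback of cohomology classes along a composite. -/
theorem pullOn_comp (G : Z.Modules) (p : ℕ) (x : Coh.HHon Z G U p) :
    CohPull.mapH ((Scheme.Modules.restrictFunctor W.ι).map ((Scheme.Modules.pullbackComp a b).hom.app G)) p
        (CohPull.pullOn a V W h₁ ((Scheme.Modules.pullback b).obj G) p (CohPull.pullOn b U V h₂ G p x)) =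
      CohPull.pullOn (a ≫ b) U W (le_preimage_comp a b U V W h₂ h₁) G p x := by
  rw [pullOn_eq a, pullOn_eq b, pullOn_eq (a ≫ b)]
  let η₁ := pullOnAb b U V h₂ G
  let η₂ := pullOnAb a V W h₁ ((Scheme.Modules.pullback b).obj G) ≫ (CohTop.push (a.resLE V W h₁).base).map
    ((tab W).map ((Scheme.Modules.restrictFunctor W.ι).map ((Scheme.Modules.pullbackComp a b).hom.app G)))
  refine (Hmap_post (a.resLE V W h₁).base (pullOnAb a V W h₁ ((Scheme.Modules.pullback b).obj G))
    ((tab W).map ((Scheme.Modules.restrictFunctor W.ι).map ((Scheme.Modules.pullbackComp a b).hom.app G))) p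
    (Hmap (b.resLE U V h₂).base η₁ p x)).trans ?_
  refine (Hmap_comp (a.resLE V W h₁).base (b.resLE U V h₂).base η₁ η₂ p x).trans ?_
  have hcomp : a.resLE V W h₁ ≫ b.resLE U V h₂ = (a ≫ b).resLE U W (le_preimage_comp a b U V W h₂ h₁) :=
    Scheme.Hom.resLE_comp_resLE _ _ _ _
  refine Hmap_congr (congr($(hcomp).base)) _ _ (fun O s => ?_) p x
  let O' : V.toScheme.Opens := (b.resLE U V h₂) ⁻¹ᵁ O
  let T₁ : Γ((Scheme.Modules.pullback b).obj G, V.ι ''ᵁ O') := pullSec b G (le_image b U V h₂ O) s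
  have e₁ : η₁.hom.app (op O) s = T₁ := pullOnAb_app b U V h₂ G O s
  have e₂ := push_map_app (a.resLE V W h₁).base (pullOnAb a V W h₁ ((Scheme.Modules.pullback b).obj G))
    ((Scheme.Modules.pullbackComp a b).hom.app G) O' T₁
  have e₃ := pullOnAb_app a V W h₁ ((Scheme.Modules.pullback b).obj G) O' T₁
  have e₄ := ExistEasy.pullSec_comp a b G (le_image b U V h₂ O) (le_image a V W h₁ O') s
  have e₅ := push_comp_app (a.resLE V W h₁).base (b.resLE U V h₂).base η₁ η₂ O s
  have e₆ : η₂.hom.app (op O') (η₁.hom.app (op O) s) = η₂.hom.app (op O') T₁ := congrArg _ e₁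
  refine e₅.trans (e₆.trans (e₂.trans ((congrArg (((Scheme.Modules.pullbackComp a b).hom.app G).app
    (W.ι ''ᵁ ((a.resLE V W h₁) ⁻¹ᵁ O'))) e₃).trans (e₄.trans ?_))))
  have e₇ := pullOnAb_app (a ≫ b) U W (le_preimage_comp a b U V W h₂ h₁) G O s
  have e₈ := pullSec_map (a ≫ b) G (U₁ := W.ι ''ᵁ (((a ≫ b).resLE U W (le_preimage_comp a b U V W h₂ h₁)) ⁻¹ᵁ O))
    (U₂ := W.ι ''ᵁ ((a.resLE V W h₁) ⁻¹ᵁ O'))
    (le_image (a ≫ b) U W (le_preimage_comp a b U V W h₂ h₁) O)
    (W.ι.opensFunctor.map (eqToHom (congr((Opens.map $(hcomp).base).obj O)))) s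
  refine e₈.symm.trans ?_
  exact (congrArg _ e₇).symm

end PullOn

variable {X S : Scheme.{u}} (f : X ⟶ S) [HasInjectiveResolutions X.Modules]
  {Δ : RDer.DerivedLES (Scheme.Modules.pushforward f)} (E : CohCmp.SectCmp f Δ)

include E in
/-- Maps out of higher direct images are determined on comparison classes. -/
theorem hom_ext_ε {p : ℕ} {F : X.Modules} {M : S.Modules} {a b : (Coh.Rpush f p).obj F ⟶ M}
    (h : ∀ (W : S.Opens) (x : Coh.HHon X F (f ⁻¹ᵁ W) p), a.app W (E.ε W F p x) = b.app W (E.ε W F p x)) :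
    a = b := by
  refine Scheme.Modules.hom_ext _ _ fun V => ?_
  ext t
  choose W hW hy x hx using fun y : (V : S.Opens) => exists_ε_eq f E p F V t y.1 y.2
  refine TopCat.Sheaf.eq_of_locally_eq' ⟨M.presheaf, M.isSheaf⟩ W V (fun y => homOfLE (hW y))
    (fun y hyV => Opens.mem_iSup.2 ⟨⟨y, hyV⟩, hy ⟨y, hyV⟩⟩) _ _ fun y => ?_
  exact (map_app_comm a (homOfLE (hW y)) t).symm.trans ((congrArg (a.app (W y)) (hx y).symm).trans
    ((h _ _).trans ((congrArg (b.app (W y)) (hx y)).trans (map_app_comm b (homOfLE (hW y)) t))))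

variable {X' S' : Scheme.{u}} {f' : X' ⟶ S'} {g : S' ⟶ S} {g' : X' ⟶ X}
  {w : g' ≫ f = f' ≫ g} [HasInjectiveResolutions X'.Modules]
  {Δ' : RDer.DerivedLES (Scheme.Modules.pushforward f')} {E' : CohCmp.SectCmp f' Δ'}

/-- The base change map on pulled back sections. -/
theorem bc_app_pullSec (B : CohCmp.GenBC f g f' g' w E E') (p : ℕ) (F : X.Modules) {V : S.Opens} {W : S'.Opens}
    (hle : W ≤ g ⁻¹ᵁ V) (x : Γ((Coh.Rpush f p).obj F, V)) :
    (B.bc p F).app W (pullSec g ((Coh.Rpush f p).obj F) hle x) = secMap g (B.φ p F) hle x := by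
  let adj := Scheme.Modules.pullbackPushforwardAdjunction g
  have h1 : adj.unit.app _ ≫ (Scheme.Modules.pushforward g).map (B.bc p F) = B.φ p F :=
    (adj.homEquiv_unit _ _ _).symm.trans (Equiv.apply_symm_apply _ _)
  exact (map_app_comm (B.bc p F) (homOfLE hle) _).trans (congrArg _ (congrArg (fun t => t.app V x) h1))

end Groth.Agent.GenBC
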