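import Groth.Agent.GenBC.Scalar
import Groth.Agent.GenBC.Alg
import Groth.Agent.QCoh.CechBC
import Groth.Agent.PicGlue.RpushAffine
import Groth.Agent.KFlatLib.Scheme.RpushQCoh

/-!
# Pullback of cohomology classes along a base change of affine bases
-/

set_option autoImplicit false
set_option linter.style.haveILetI false
set_option linter.unusedSectionVars false
set_option backward.isDefEq.respectTransparency false
set_option backward.isDefEq.respectTransparency.types false
set_option maxHeartbeats 2000000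
set_option synthInstance.maxHeartbeats 400000

universe u

open CategoryTheory CategoryTheory.Limits AlgebraicGeometry TopologicalSpace Opposite
open scoped TensorProduct

noncomputable section

namespace Groth.Agent.GenBC

open Groth.Agent Groth.Agent.QCoh

section Edge

variable {X Y : Scheme.{u}} (f : X ⟶ Y)

theorem pushEdge_eq_Hmap (G : X.Modules) (p : ℕ) (x : Coh.HH Y ((Scheme.Modules.pushforward f).obj G) p) :
    CohPull.pushEdge f G p x = Hmap f.base (𝟙 ((CohTop.push f.base).obj ((tab X).obj G))) p x := by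
  refine (pullMod_map f _ ((Scheme.Modules.pullbackPushforwardAdjunction f).counit.app G) p x).trans ?_
  refine congrArg (fun η => Hmap f.base η p x) ?_
  refine ((tab Y).map_comp _ _).symm.trans ((congrArg (tab Y).map
    ((Scheme.Modules.pullbackPushforwardAdjunction f).right_triangle_components G)).trans ?_)
  exact (tab Y).map_id _

theorem pushEdge_natural_ab (G : X.Modules) (β : (tab X).obj G ⟶ (tab X).obj G) (p : ℕ)
    (x : Coh.HH Y ((Scheme.Modules.pushforward f).obj G) p) :
    CohPull.pushEdge f G p (Sheaf.H.map ((CohTop.push f.base).map β) p x) =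
      Sheaf.H.map β p (CohPull.pushEdge f G p x) := by
  rw [pushEdge_eq_Hmap, pushEdge_eq_Hmap]
  exact Hmap_square f.base ((CohTop.push f.base).map β) (𝟙 _) (𝟙 _) β
    ((Category.comp_id _).trans (Category.id_comp _).symm) p x

theorem pushEdge_unit (M : Y.Modules) (p : ℕ) (x : Coh.HH Y M p) :
    CohPull.pushEdge f ((Scheme.Modules.pullback f).obj M) p
        (CohPull.mapH ((Scheme.Modules.pullbackPushforwardAdjunction f).unit.app M) p x) =
      CohPull.pullMod f M p x := by
  let adj := Scheme.Modules.pullbackPushforwardAdjunction f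
  show CohPull.mapH (adj.counit.app _) p (CohPull.pullMod f _ p (CohPull.mapH (adj.unit.app M) p x)) = _
  refine (congrArg (CohPull.mapH (adj.counit.app _) p) (pullMod_natural f (adj.unit.app M) p x)).trans ?_
  refine (Sheaf.H.map_comp_apply _ _ _).symm.trans ?_
  refine (congrArg (fun t => Sheaf.H.map t p (CohPull.pullMod f M p x)) ?_).trans (Sheaf.H.map_id_apply _)
  refine ((tab X).map_comp _ _).symm.trans ((congrArg (tab X).map (adj.left_triangle_components M)).trans ?_)
  exact (tab X).map_id _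

end Edge

section Cech

variable {A B : Type u} [CommRing A] [CommRing B] [Algebra A B] {X X' : Scheme.{u}}
  (ρ : A →+* Coh.Γtop X) (ρ' : B →+* Coh.Γtop X') {ι : Type u} (U : ι → X.Opens) (g : X' ⟶ X)
  (hρ : ∀ a, ρ' (algebraMap A B a) = g.appTop (ρ a))

/-- The forgetful functor on complexes. -/
abbrev fgt (A : Type u) [CommRing A] :
    CochainComplex (ModuleCat.{u} A) ℕ ⥤ CochainComplex AddCommGrpCat.{u} ℕ :=
  (forget₂ (ModuleCat.{u} A) AddCommGrpCat.{u}).mapHomologicalComplex _

/-- Cochains of a direct image, as cochains on the preimages. -/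
def qMap (M' : X'.Modules) : cxMod ρ U ((Scheme.Modules.pushforward g).obj M') ⟶
    resCx (A := A) (cxMod ρ' (fun i => g ⁻¹ᵁ U i) M') :=
  cxModMap ρ ρ' U g (𝟙 _) hρ

theorem bijective_qMap (M' : X'.Modules) (p : ℕ) : Function.Bijective ((qMap ρ ρ' U g hρ M').f p) := by
  let U' := fun i => g ⁻¹ᵁ U i
  refine Function.bijective_iff_has_inverse.2 ⟨fun c' =>
    (⟨fun σ W => (c'.1 σ ⟨g ⁻¹ᵁ W.1, fun a => g.preimage_mono (W.2 a)⟩ : Γ(M', g ⁻¹ᵁ W.1)),
      fun σ W W' h h' i => c'.2 σ (g ⁻¹ᵁ W) (g ⁻¹ᵁ W') (fun a => g.preimage_mono (h a))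
        (fun a => g.preimage_mono (h' a)) ((Opens.map g.base).map i)⟩), fun c => ?_, fun c' => ?_⟩
  · refine Subtype.ext (funext₂ fun σ W => ?_)
    show secMap g (𝟙 ((Scheme.Modules.pushforward g).obj M')) _ (c.1 σ ⟨_, fun a => iInf_le _ a⟩) = c.1 σ W
    refine Eq.trans ?_ (c.2 σ (⨅ a, U (σ a)) W.1 (fun a => iInf_le _ a) W.2 (homOfLE (le_iInf W.2)))
    rfl
  · refine Subtype.ext (funext₂ fun σ W => ?_)
    show M'.presheaf.map (homOfLE (le_preimage U g W.2)).op
      (c'.1 σ ⟨g ⁻¹ᵁ (⨅ a, U (σ a)), fun a => g.preimage_mono (iInf_le _ a)⟩) = c'.1 σ W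
    exact c'.2 σ _ W.1 (fun a => g.preimage_mono (iInf_le _ a)) W.2 _

theorem fgt_cxModMap {F : X.Modules} {M' : X'.Modules} (η : F ⟶ (Scheme.Modules.pushforward g).obj M') :
    (fgt A).map (cxModMap ρ ρ' U g η hρ) =
      Ab.natCxMap U ((tab X).map η).hom ≫ (fgt A).map (qMap ρ ρ' U g hρ M') := by
  ext p : 1
  exact AddCommGrpCat.ext fun c => Subtype.ext <| funext₂ fun σ W => rfl

theorem fgt_qMap_smul (M' : X'.Modules) (b : B) :
    Ab.natCxMap U ((CohTop.push g.base).map (Coh.smulAb M' (ρ' b))).hom ≫ (fgt A).map (qMap ρ ρ' U g hρ M') =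
      (fgt A).map (qMap ρ ρ' U g hρ M') ≫ (fgt A).map (scEnd (A := A) (cxMod ρ' (fun i => g ⁻¹ᵁ U i) M') b) := by
  ext p : 1
  refine AddCommGrpCat.ext fun c => Subtype.ext <| funext₂ fun σ W => ?_
  exact (ConcreteCategory.congr_hom ((Coh.smulAb M' (ρ' b)).hom.naturality
    (homOfLE (le_preimage U g W.2)).op) (c.1 σ ⟨_, fun a => iInf_le _ a⟩)).symm

/-- The forgetful functor commutes with homology. -/
def fgtIso (K : CochainComplex (ModuleCat.{u} A) ℕ) (p : ℕ) :
    (K.homology p : ModuleCat.{u} A) ≃+ (((fgt A).obj K).homology p : AddCommGrpCat.{u}) :=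
  (((K.sc p).mapHomologyIso (forget₂ (ModuleCat.{u} A) AddCommGrpCat.{u})).symm).addCommGroupIsoToAddEquiv

theorem fgtIso_natural {K L : CochainComplex (ModuleCat.{u} A) ℕ} (f : K ⟶ L) (p : ℕ) (x : K.homology p) :
    fgtIso L p (HomologicalComplex.homologyMap f p x) =
      HomologicalComplex.homologyMap ((fgt A).map f) p (fgtIso K p x) :=
  ConcreteCategory.congr_hom (ShortComplex.mapHomologyIso_inv_naturality
    ((HomologicalComplex.shortComplexFunctor (ModuleCat.{u} A) (ComplexShape.up ℕ) p).map f)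
    (forget₂ (ModuleCat.{u} A) AddCommGrpCat.{u})) x

end Cech

section Main

variable {A B : Type u} [CommRing A] [CommRing B] [Algebra A B] {X X' : Scheme.{u}}
  [X.Over (Spec (CommRingCat.of A))] [X'.Over (Spec (CommRingCat.of B))] (g : X' ⟶ X)
  (h : IsPullback g (X' ↘ Spec (CommRingCat.of B)) (X ↘ Spec (CommRingCat.of A))
    (Spec.map (CommRingCat.ofHom (algebraMap A B))))
  {F : X.Modules} (hF : Coh.IsQCoh F) {ι : Type u} [Finite ι] (U : ι → X.Opens)
  (hU : ∀ {p : ℕ} (σ : Fin (p + 1) → ι), IsAffineOpen (⨅ a, U (σ a))) (hcov : ⨆ i, U i = ⊤)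

include h hF hU hcov in
/-- Pullback of classes is the base change map, when `T_p(A) ⊗ B → T_p(B)` is bijective. -/
theorem exists_pullMod_bc (p : ℕ) :
    letI := modHH (Coh.toGlobal (X ↘ Spec (CommRingCat.of A))) F p
    ∃ L : Coh.HH X F p ⊗[A] B →+ Coh.HH X' ((Scheme.Modules.pullback g).obj F) p,
      ((Function.Bijective L ↔ Function.Bijective (PBC.muT (cechA (A := A) F U) p (ModuleCat.of A B))) ∧
        (Function.Surjective L ↔ Function.Surjective (PBC.muT (cechA (A := A) F U) p (ModuleCat.of A B)))) ∧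
      ∀ (x : Coh.HH X F p) (b : B), L (x ⊗ₜ b) =
        Sheaf.H.map (Coh.smulAb ((Scheme.Modules.pullback g).obj F)
          (Coh.toGlobal (X' ↘ Spec (CommRingCat.of B)) b)) p (CohPull.pullMod g F p x) := by
  letI := modHH (Coh.toGlobal (X ↘ Spec (CommRingCat.of A))) F p
  let pA := X ↘ Spec (CommRingCat.of A)
  let pB := X' ↘ Spec (CommRingCat.of B)
  let ρ := Coh.toGlobal pA
  let ρ' := Coh.toGlobal pB
  let F' := (Scheme.Modules.pullback g).obj F
  let η : F ⟶ (Scheme.Modules.pushforward g).obj F' := (Scheme.Modules.pullbackPushforwardAdjunction g).unit.app F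
  let P := (Scheme.Modules.pushforward g).obj F'
  haveI hg : IsAffineHom g := MorphismProperty.of_isPullback h.flip inferInstance
  have hF' : Coh.IsQCoh F' := isQCoh_pullback g hF
  have hP : Coh.IsQCoh P := isQCoh_pushforward g hF'
  have hρ := toGlobal_comm pA pB g (A := A) (B := B) h.w
  have hbc : IsBC ρ ρ' U g η hρ := by
    intro p σ W hW hle
    obtain rfl : W = g ⁻¹ᵁ ⨅ a, U (σ a) := by rw [hW, preimage_iInf_fin]
    exact isAffineBC_of_isPullback h hF _ (hU σ)
  obtain ⟨e, he⟩ := Ab.exists_natural_equiv (X := X.toPresheafedSpace.carrier) hcov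
    (stdCovers_sectionClass hU) (fun I hI _ _ _ V _ => @Ab.acyclic_of_injective _ I hI _ V) p
  let K := cxMod ρ U F
  let K' := cxMod ρ' (fun i => g ⁻¹ᵁ U i) F'
  let f : K ⟶ resCx (A := A) K' := cxModMap ρ ρ' U g η hρ
  obtain ⟨L, hL, hLt⟩ := exists_homology_bc f (bijective_adjunct_cxModMap ρ ρ' U g η hρ hbc) p
  let q := (fgt A).map (qMap ρ ρ' U g hρ F')
  haveI : IsIso q := by
    haveI : ∀ i, IsIso (q.f i) := fun i =>
      (ConcreteCategory.isIso_iff_bijective _).2 (bijective_qMap ρ ρ' U g hρ F' i)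
    exact HomologicalComplex.Hom.isIso_of_components _
  let eq : ((Ab.natCx P.presheaf U).homology p : AddCommGrpCat.{u}) ≃+ _ :=
    ((HomologicalComplex.homologyFunctor _ _ p).mapIso (asIso q)).addCommGroupIsoToAddEquiv
  let eFl : K.homology p ≃+ Coh.HH X F p :=
    (fgtIso K p).trans (e (abSheaf F) (stdCovers_acyclic hF))
  have hlin : ∀ (a : A) (x : K.homology p), eFl (a • x) = a • eFl x := fun a x => by
    have h1 : (a • x : K.homology p) = HomologicalComplex.homologyMap (a • 𝟙 K) p x := by
      rw [homologyMap_smul_id]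
      rfl
    show e (abSheaf F) _ (fgtIso K p (a • x)) = _
    rw [h1, fgtIso_natural]
    exact he (abSheaf F) (abSheaf F) _ _ (smulAbHom F (ρ a)) _
  let eF : K.homology p ≃ₗ[A] Coh.HH X F p := AddEquiv.toLinearEquiv eFl hlin
  let eP : (resCx (A := A) K').homology p ≃+ Coh.HH X P p :=
    (fgtIso (resCx (A := A) K') p).trans (eq.symm.trans (e (abSheaf P) (stdCovers_acyclic hP)))
  haveI := KFlatLib.hasInjectiveResolutions_modules (X := X')
  have hedge : Function.Bijective (CohPull.pushEdge g F' p) :=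
    bijective_pushEdge g p F' fun r hr => PicGlue.isZero_Rpush_of_isAffineHom g F' hF' r hr
  have key : ∀ (z : K.homology p) (b : B),
      eP (HomologicalComplex.homologyMap (scEnd (A := A) K' b) p (HomologicalComplex.homologyMap f p z)) =
        Sheaf.H.map ((CohTop.push g.base).map (Coh.smulAb F' (ρ' b))) p
          (Sheaf.H.map ((tab X).map η) p (eFl z)) := by
    intro z b
    let w := fgtIso K p z
    let v := HomologicalComplex.homologyMap (Ab.natCxMap U ((tab X).map η).hom) p w
    let v' := HomologicalComplex.homologyMap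
      (Ab.natCxMap U ((CohTop.push g.base).map (Coh.smulAb F' (ρ' b))).hom) p v
    have e2 : fgtIso (resCx (A := A) K') p
        (HomologicalComplex.homologyMap (scEnd (A := A) K' b) p (HomologicalComplex.homologyMap f p z)) =
        eq v' := by
      rw [fgtIso_natural, fgtIso_natural]
      have c1 := congr(HomologicalComplex.homologyMap $(fgt_cxModMap ρ ρ' U g hρ η) p)
      have c2 := congr(HomologicalComplex.homologyMap $(fgt_qMap_smul ρ ρ' U g hρ F' b) p)
      simp only [HomologicalComplex.homologyMap_comp] at c1 c2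
      refine (congrArg (HomologicalComplex.homologyMap ((fgt A).map (scEnd (A := A) K' b)) p)
        (ConcreteCategory.congr_hom c1 w)).trans ?_
      exact (ConcreteCategory.congr_hom c2 v).symm
    show e (abSheaf P) _ (eq.symm (fgtIso (resCx (A := A) K') p _)) = _
    rw [e2, AddEquiv.symm_apply_apply]
    refine (he (abSheaf P) (abSheaf P) (stdCovers_acyclic hP) (stdCovers_acyclic hP)
      ((CohTop.push g.base).map (Coh.smulAb F' (ρ' b))) v).trans ?_
    exact congrArg (Sheaf.H.map ((CohTop.push g.base).map (Coh.smulAb F' (ρ' b))) p)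
      (he (abSheaf F) (abSheaf P) (stdCovers_acyclic hF) (stdCovers_acyclic hP) ((tab X).map η) w)
  refine ⟨((CohPull.pushEdge g F' p).comp eP.toAddMonoidHom).comp (L.comp (eF.symm.rTensor B).toAddEquiv.toAddMonoidHom),
    ⟨((Function.Bijective.of_comp_iff' (hedge.comp eP.bijective) _).trans
        ((eF.symm.rTensor B).toEquiv.bijective_comp _)).trans hL.1,
      ((Function.Surjective.of_comp_iff' (hedge.comp eP.bijective) _).trans
        ((eF.symm.rTensor B).toEquiv.surjective_comp _)).trans hL.2⟩, fun x b => ?_⟩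
  show CohPull.pushEdge g F' p (eP (L (eF.symm.rTensor B (x ⊗ₜ b)))) = _
  rw [LinearEquiv.rTensor_tmul, hLt, key, show eFl (eF.symm x) = x from eF.apply_symm_apply x,
    pushEdge_natural_ab]
  exact congrArg (Sheaf.H.map (Coh.smulAb F' (ρ' b)) p) (pushEdge_unit g F p x)

end Main

end Groth.Agent.GenBC
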