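import Groth.Agent.GenBC.Formula
import Groth.Agent.PBC.Higher

/-!
# Cohomology and base change through split differentials
-/

set_option autoImplicit false
set_option linter.style.haveILetI false
set_option linter.unusedSectionVars false
set_option backward.isDefEq.respectTransparency false
set_option backward.isDefEq.respectTransparency.types false
set_option maxHeartbeats 2000000
set_option synthInstance.maxHeartbeats 400000

universe u

open CategoryTheory CategoryTheory.Limits AlgebraicGeometry TopologicalSpace Opposite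
open scoped TensorProduct

noncomputable section

namespace Groth.Agent.GenBC

open Groth.Agent Groth.Agent.QCoh

section Chain

variable {A : Type u} [CommRing A] (P : ChainComplex (ModuleCat.{u} A) ℤ)

/-- The differential out of degree `q` is split up to the factor `r`. -/
def SplitAt (q : ℤ) (r : A) : Prop :=
  ∃ H : P.X (q - 1) →ₗ[A] P.X q, (P.d q (q - 1)).hom ∘ₗ H ∘ₗ (P.d q (q - 1)).hom = r • (P.d q (q - 1)).hom

variable {P}

theorem splitAt_mul {q : ℤ} {r : A} (h : SplitAt P q r) (s : A) : SplitAt P q (s * r) := by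
  obtain ⟨H, hH⟩ := h
  exact ⟨s • H, by rw [LinearMap.smul_comp, LinearMap.comp_smul, hH, smul_smul]⟩

theorem splitAt_of_hom {q b : ℤ} (hb : b = q - 1) {r : A} (H : P.X b →ₗ[A] P.X q)
    (hH : (P.d q b).hom ∘ₗ H ∘ₗ (P.d q b).hom = r • (P.d q b).hom) : SplitAt P q r := by
  subst hb
  exact ⟨H, hH⟩

theorem bijective_muT_of_splitAt {q : ℤ} {r : A} (h : SplitAt P q r) (M : ModuleCat.{u} A)
    (hr : Function.Bijective fun m : M => r • m) : Function.Bijective (PBC.muT P q M) := by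
  have e : (ComplexShape.down ℤ).next q = q - 1 := by simp
  obtain ⟨H, hH⟩ : ∃ H : P.X ((ComplexShape.down ℤ).next q) →ₗ[A] P.X q,
      (P.d q ((ComplexShape.down ℤ).next q)).hom ∘ₗ H ∘ₗ (P.d q ((ComplexShape.down ℤ).next q)).hom =
        r • (P.d q ((ComplexShape.down ℤ).next q)).hom := by
    rw [e]
    exact h
  exact PBC.bijective_muT_of_homotopy P q M H r hH hr

theorem exists_splitAt_of_surjective (hfin : ∀ i, Module.Finite A (P.X i)) (hfree : ∀ i, Module.Free A (P.X i))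
    (q : ℤ) (𝔭 : Ideal A) [𝔭.IsPrime]
    (h : Function.Surjective (PBC.muT P q (ModuleCat.of A 𝔭.ResidueField))) : ∃ r, r ∉ 𝔭 ∧ SplitAt P q r := by
  obtain ⟨r, H, hr, hH⟩ := PBC.exists_homotopy_of_surjective' P hfin hfree q
    (show (ComplexShape.down ℤ).next q = q - 1 by simp) 𝔭 h
  exact ⟨r, hr, H, hH⟩

theorem exists_splitAt_of_exactAt (hfin : ∀ i, Module.Finite A (P.X i)) (hfree : ∀ i, Module.Free A (P.X i))
    (q : ℤ) (𝔭 : Ideal A) [𝔭.IsPrime] (h : (CohIII.bcCx (algebraMap A 𝔭.ResidueField) P).ExactAt q) :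
    ∃ r, r ∉ 𝔭 ∧ SplitAt P q r ∧ SplitAt P (q + 1) r := by
  haveI := hfin; haveI := hfree
  have hex := PBC.function_exact_of_exactAt P inferInstance (algebraMap A 𝔭.ResidueField) rfl
    (a := q + 1) (q := q) (b := q - 1) rfl (by omega) h
  obtain ⟨r₁, hr₁, -, H, hH⟩ := PBC.exists_local_homotopy (P.d (q + 1) q).hom (P.d q (q - 1)).hom 𝔭
    (PBC.d_comp_hom _ _ _) hex
  obtain ⟨r₂, H₂, hr₂, hH₂⟩ := PBC.exists_homotopy_of_exact (P.d (q + 1) q).hom (P.d q (q - 1)).hom 𝔭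
    (PBC.d_comp_hom _ _ _) hex
  refine ⟨r₂ * r₁, Ideal.IsPrime.mul_notMem ‹_› hr₂ hr₁, splitAt_mul ⟨H, hH⟩ r₂, ?_⟩
  rw [mul_comm]
  exact splitAt_mul (splitAt_of_hom (show q = q + 1 - 1 by omega) H₂ hH₂) r₁

end Chain

section Geometry

variable {X S : Scheme.{u}} (f : X ⟶ S) [IsProper f] [LocallyOfFinitePresentation f] (F : X.Modules)

/-- A finite free model of the cohomology of `F` over an affine open. -/
def IsModelOn {V : S.Opens} (hV : IsAffineOpen V) (P : ChainComplex (ModuleCat.{u} Γ(S, V)) ℤ) : Prop :=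
  letI : ((f ⁻¹ᵁ V : X.Opens) : Scheme.{u}).Over (Spec (CommRingCat.of Γ(S, V))) := ⟨overSpec f hV⟩
  PBC.IsNatModel ((Scheme.Modules.pullback (f ⁻¹ᵁ V).ι).obj F) P

theorem exists_isModelOn (hF : CohB1.IsFP F) (hfl : FlatMod.IsFlatOver f F) {V : S.Opens} (hV : IsAffineOpen V) :
    ∃ P, IsModelOn f F hV P := by
  letI : ((f ⁻¹ᵁ V : X.Opens) : Scheme.{u}).Over (Spec (CommRingCat.of Γ(S, V))) := ⟨overSpec f hV⟩
  haveI : IsProper (((f ⁻¹ᵁ V : X.Opens) : Scheme.{u}) ↘ Spec (CommRingCat.of Γ(S, V))) := (PBC.proper_overSpec f hV).1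
  haveI : LocallyOfFinitePresentation (((f ⁻¹ᵁ V : X.Opens) : Scheme.{u}) ↘ Spec (CommRingCat.of Γ(S, V))) :=
    (PBC.proper_overSpec f hV).2
  exact PBC.exists_isNatModel (ModStLib.isFP_pullback (f ⁻¹ᵁ V).ι hF) (PBC.isFlatOver_overSpec f hfl hV)

variable {f F}

theorem nonempty_tfun_model {V : S.Opens} {hV : IsAffineOpen V} {P : ChainComplex (ModuleCat.{u} Γ(S, V)) ℤ}
    (hP : IsModelOn f F hV P) (hF : Coh.IsQCoh F) (p : ℕ) {κ : Type u} [Finite κ]
    (U : κ → (f ⁻¹ᵁ V : X.Opens).toScheme.Opens)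
    (hU : ∀ {q : ℕ} (σ : Fin (q + 1) → κ), IsAffineOpen (⨅ a, U (σ a))) (hcov : ⨆ i, U i = ⊤) :
    letI : ((f ⁻¹ᵁ V : X.Opens) : Scheme.{u}).Over (Spec (CommRingCat.of Γ(S, V))) := ⟨overSpec f hV⟩
    Nonempty (CohIII.TFun P (-(p : ℤ)) ⋙ forget₂ (ModuleCat.{u} Γ(S, V)) AddCommGrpCat.{u} ≅
      CohIII.TFun (cechA (A := Γ(S, V)) (F.restrict (f ⁻¹ᵁ V).ι) U) p ⋙
        forget₂ (ModuleCat.{u} Γ(S, V)) AddCommGrpCat.{u}) := by
  letI : ((f ⁻¹ᵁ V : X.Opens) : Scheme.{u}).Over (Spec (CommRingCat.of Γ(S, V))) := ⟨overSpec f hV⟩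
  obtain ⟨e₁⟩ := hP.2.2.2 p
  obtain ⟨e₂⟩ := nonempty_tfun_iso (A := Γ(S, V)) (F.restrict (f ⁻¹ᵁ V).ι) (isQCoh_restrict _ hF) hcov hU p
  let e := (Scheme.Modules.restrictFunctorIsoPullback (f ⁻¹ᵁ V).ι).app F
  exact ⟨e₁ ≪≫ Functor.isoWhiskerRight (Functor.isoWhiskerLeft (tilde.functor (CommRingCat.of Γ(S, V)))
    (Functor.isoWhiskerLeft (Scheme.Modules.pullback
      (((f ⁻¹ᵁ V : X.Opens) : Scheme.{u}) ↘ Spec (CommRingCat.of Γ(S, V))))
      (DCoh.tensorBi.flip.mapIso e.symm))) _ ≪≫ e₂.symm⟩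

/-- Base change holds where the differential of a model out of the degree is split up to a unit. -/
theorem isIso_bc_of_split [HasInjectiveResolutions X.Modules] (hF : Coh.IsQCoh F) (p : ℕ) {X' S' : Scheme.{u}}
    (g' : X' ⟶ X) (f' : X' ⟶ S') (g : S' ⟶ S) (h : IsPullback g' f' f g) [HasInjectiveResolutions X'.Modules]
    {Δ : RDer.DerivedLES (Scheme.Modules.pushforward f)} {Δ' : RDer.DerivedLES (Scheme.Modules.pushforward f')}
    {E : CohCmp.SectCmp f Δ} {E' : CohCmp.SectCmp f' Δ'} (B : CohCmp.GenBC f g f' g' h.w E E')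
    (hloc : ∀ z : S', ∃ (V : S.Opens) (hV : IsAffineOpen V) (P : ChainComplex (ModuleCat.{u} Γ(S, V)) ℤ)
      (r : Γ(S, V)), IsModelOn f F hV P ∧ g z ∈ S.basicOpen r ∧ SplitAt P (-(p : ℤ)) r) :
    IsIso (B.bc p F) := by
  refine isIso_transpose_local g (B.φ p F) (isQCoh_Rpush f hF p) fun z => ?_
  obtain ⟨V, hV, P, r, hP, hz, hs⟩ := hloc z
  refine ⟨V, g ⁻¹ᵁ S.basicOpen r, hV, hz, g.preimage_mono (S.basicOpen_le r), fun W hW hWr hle => ?_⟩
  refine isBCAt_φ f g f' g' h.w B h hF p hV hW hle ?_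
  intro κ _ U hU hcov
  obtain ⟨e⟩ := nonempty_tfun_model hP hF p U hU hcov
  refine PBC.bijective_muT_congr e (bijective_muT_of_splitAt hs _ ?_)
  letI : Algebra Γ(S, V) Γ(S', W) := (g.appLE V W hle).hom.toAlgebra
  have hu : IsUnit (algebraMap Γ(S, V) Γ(S', W) r) := by
    have e : g.appLE V W hle = S.presheaf.map (homOfLE (S.basicOpen_le r)).op ≫ g.appLE (S.basicOpen r) W hWr :=
      (g.map_appLE hWr (homOfLE (S.basicOpen_le r)).op).symm
    show IsUnit ((g.appLE V W hle).hom r)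
    rw [e]
    exact (RingedSpace.isUnit_res_basicOpen S.toRingedSpace r).map (g.appLE (S.basicOpen r) W hWr).hom
  rw [show (fun m : Γ(S', W) => r • m) = fun m => algebraMap Γ(S, V) Γ(S', W) r * m from
    funext fun m => Algebra.smul_def r m]
  exact ⟨fun a b hab => hu.mul_left_cancel hab, fun b => ⟨hu.unit⁻¹.val * b, by simp [← mul_assoc]⟩⟩

variable (f F)

/-- A vanishing fibre cohomology group splits both adjacent differentials of a model nearby. -/
theorem exists_split_of_fiberH (hF : CohB1.IsFP F) (hfl : FlatMod.IsFlatOver f F) (s : S) (p : ℕ)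
    (h : Subsingleton (CohIII.fiberH f F s p)) :
    ∃ (V : S.Opens) (hV : IsAffineOpen V) (P : ChainComplex (ModuleCat.{u} Γ(S, V)) ℤ) (r : Γ(S, V)),
      IsModelOn f F hV P ∧ s ∈ S.basicOpen r ∧ SplitAt P (-(p : ℤ)) r ∧ SplitAt P (-(p : ℤ) + 1) r := by
  obtain ⟨_, ⟨V, hV, rfl⟩, hsV, -⟩ :=
    S.isBasis_affineOpens.exists_subset_of_mem_open (Set.mem_univ s) isOpen_univ
  have hV' : IsAffineOpen V := hV
  obtain ⟨P, hP⟩ := exists_isModelOn f F hF hfl hV'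
  letI : ((f ⁻¹ᵁ V : X.Opens) : Scheme.{u}).Over (Spec (CommRingCat.of Γ(S, V))) := ⟨overSpec f hV'⟩
  haveI : IsProper (((f ⁻¹ᵁ V : X.Opens) : Scheme.{u}) ↘ Spec (CommRingCat.of Γ(S, V))) :=
    (PBC.proper_overSpec f hV').1
  haveI : CompactSpace ((f ⁻¹ᵁ V : X.Opens) : Scheme.{u}) :=
    QuasiCompact.compactSpace_of_compactSpace (((f ⁻¹ᵁ V : X.Opens) : Scheme.{u}) ↘ Spec (CommRingCat.of Γ(S, V)))
  haveI : ((f ⁻¹ᵁ V : X.Opens) : Scheme.{u}).IsSeparated := ⟨by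
    rw [← Limits.terminal.comp_from (((f ⁻¹ᵁ V : X.Opens) : Scheme.{u}) ↘ Spec (CommRingCat.of Γ(S, V)))]
    infer_instance⟩
  obtain ⟨g₀, p₀, h₀, hg₀, -⟩ := PBC.exists_fibre_square f hF hV' hsV
  let 𝔭 := (hV'.primeIdealOf ⟨s, hsV⟩).asIdeal
  letI : (f.fiber s).Over (Spec (CommRingCat.of 𝔭.ResidueField)) := ⟨p₀⟩
  obtain ⟨l⟩ := bcCx_isBCModel_aux (QCoh.isQCoh_pullback _ (QCoh.isQCoh_of_isFP hF)) P hP.2.2.2
    (algebraMap Γ(S, V) 𝔭.ResidueField) g₀ h₀ p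
  let e : (Scheme.Modules.pullback g₀).obj ((Scheme.Modules.pullback (f ⁻¹ᵁ V).ι).obj F) ≅ CohIII.fiberMod f F s :=
    (Scheme.Modules.pullbackComp g₀ _).app F ≪≫ (Scheme.Modules.pullbackCongr hg₀).app F
  haveI := h
  haveI : Subsingleton (Coh.HH (f.fiber s) ((Scheme.Modules.pullback g₀).obj
      ((Scheme.Modules.pullback (f ⁻¹ᵁ V).ι).obj F)) p) :=
    (HHcongr (Coh.toGlobal (A := S.residueField s) (f.fiberToSpecResidueField s)) e p).toEquiv.subsingleton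
  haveI : Subsingleton ((CohIII.bcCx (algebraMap Γ(S, V) 𝔭.ResidueField) P).homology (-(p : ℤ))) :=
    l.symm.toEquiv.subsingleton
  obtain ⟨r, hr, h₁, h₂⟩ := exists_splitAt_of_exactAt hP.1 hP.2.1 (-(p : ℤ)) 𝔭
    ((HomologicalComplex.exactAt_iff_isZero_homology _ _).2 (ModuleCat.isZero_of_subsingleton _))
  exact ⟨V, hV', P, r, hP, (QCoh.mem_basicOpen_iff_notMem hV' hsV r).2 hr, h₁, h₂⟩

/-- Base change in degrees `p` and `p - 1` where the fibre cohomology vanishes in degree `p`. -/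
theorem isIso_bc_of_fiberH [HasInjectiveResolutions X.Modules] (hF : CohB1.IsFP F)
    (hfl : FlatMod.IsFlatOver f F) (p : ℕ) {X' S' : Scheme.{u}}
    (g' : X' ⟶ X) (f' : X' ⟶ S') (g : S' ⟶ S) (h : IsPullback g' f' f g) [HasInjectiveResolutions X'.Modules]
    {Δ : RDer.DerivedLES (Scheme.Modules.pushforward f)} {Δ' : RDer.DerivedLES (Scheme.Modules.pushforward f')}
    {E : CohCmp.SectCmp f Δ} {E' : CohCmp.SectCmp f' Δ'} (B : CohCmp.GenBC f g f' g' h.w E E')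
    (hs : ∀ z : S', Subsingleton (CohIII.fiberH f F (g z) p)) :
    IsIso (B.bc p F) ∧ ∀ j : ℕ, j + 1 = p → IsIso (B.bc j F) := by
  have hq := QCoh.isQCoh_of_isFP hF
  refine ⟨isIso_bc_of_split hq p g' f' g h B fun z => ?_, fun j hj => isIso_bc_of_split hq j g' f' g h B fun z => ?_⟩
  · obtain ⟨V, hV, P, r, hP, hr, h₁, -⟩ := exists_split_of_fiberH f F hF hfl (g z) p (hs z)
    exact ⟨V, hV, P, r, hP, hr, h₁⟩
  · obtain ⟨V, hV, P, r, hP, hr, -, h₂⟩ := exists_split_of_fiberH f F hF hfl (g z) p (hs z)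
    refine ⟨V, hV, P, r, hP, hr, ?_⟩
    rw [show -(j : ℤ) = -(p : ℤ) + 1 by omega]
    exact h₂

end Geometry

end Groth.Agent.GenBC
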