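import Groth.Agent.GenBC.Basic

/-!
# The edge map is bijective when the higher direct images vanish
-/

set_option autoImplicit false
set_option linter.style.haveILetI false
set_option backward.isDefEq.respectTransparency false
set_option backward.isDefEq.respectTransparency.types false
set_option maxHeartbeats 1000000

universe u

open CategoryTheory CategoryTheory.Limits CategoryTheory.Abelian AlgebraicGeometry TopologicalSpace Opposite

noncomputable section

namespace Groth.Agent.GenBC

open Groth.Agent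

variable {X Y : Scheme.{u}} (f : X ⟶ Y)

theorem pushEdge_natural {G H : X.Modules} (φ : G ⟶ H) (p : ℕ)
    (x : Coh.HH Y ((Scheme.Modules.pushforward f).obj G) p) :
    CohPull.pushEdge f H p (CohPull.mapH ((Scheme.Modules.pushforward f).map φ) p x) =
      CohPull.mapH φ p (CohPull.pushEdge f G p x) := by
  let c := (Scheme.Modules.pullbackPushforwardAdjunction f).counit
  have e : (tab X).map ((Scheme.Modules.pullback f).map ((Scheme.Modules.pushforward f).map φ)) ≫
      (tab X).map (c.app H) = (tab X).map (c.app G) ≫ (tab X).map φ :=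
    ((tab X).map_comp _ _).symm.trans ((congrArg (tab X).map (c.naturality φ)).trans ((tab X).map_comp _ _))
  show CohPull.mapH (c.app H) p (CohPull.pullMod f _ p (CohPull.mapH ((Scheme.Modules.pushforward f).map φ) p x)) = _
  rw [pullMod_natural]
  exact (Sheaf.H.map_comp_apply _ _ _).symm.trans
    ((congrArg (fun t => Sheaf.H.map t p (CohPull.pullMod f _ p x)) e).trans (Sheaf.H.map_comp_apply _ _ _))

theorem equiv₀_pushEdge (G : X.Modules) (s : Coh.HH Y ((Scheme.Modules.pushforward f).obj G) 0) :
    Sheaf.H.equiv₀ (Coh.toAb G) isTerminalTop (CohPull.pushEdge f G 0 s) =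
      (show Γ(G, (⊤ : X.Opens)) from
        Sheaf.H.equiv₀ (Coh.toAb ((Scheme.Modules.pushforward f).obj G)) isTerminalTop s) := by
  let adj := Scheme.Modules.pullbackPushforwardAdjunction f
  show Sheaf.H.equiv₀ (Coh.toAb G) isTerminalTop
    (CohPull.mapH (adj.counit.app G) 0 (CohPull.pullMod f _ 0 s)) = _
  refine (Sheaf.H.equiv₀_naturality isTerminalTop _ _).symm.trans ?_
  refine (congrArg (fun t => ((adj.counit.app G).app ⊤) t) (CohPull.equiv₀_pullMod f _ s)).trans ?_
  exact congr(Scheme.Modules.Hom.app $(adj.right_triangle_components G) ⊤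
    (Sheaf.H.equiv₀ (Coh.toAb ((Scheme.Modules.pushforward f).obj G)) isTerminalTop s))

theorem pushEdge_extδ {S : ShortComplex X.Modules} (hS : S.ShortExact)
    (hP : (S.map (Scheme.Modules.pushforward f)).ShortExact) (p : ℕ)
    (x : Coh.HH Y ((Scheme.Modules.pushforward f).obj S.X₃) p) :
    CohPull.pushEdge f S.X₁ (p + 1) (CohCmp.extδ (tab_shortExact hP) p x) =
      CohCmp.extδ (tab_shortExact hS) p (CohPull.pushEdge f S.X₃ p x) := by
  let c := (Scheme.Modules.pullbackPushforwardAdjunction f).counit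
  let α : ∀ G : X.Modules, (CohPull.inv f.base).obj ((tab Y).obj ((Scheme.Modules.pushforward f).obj G)) ⟶
      (tab X).obj G := fun G => CohPull.theta f _ ≫ (tab X).map (c.app G)
  have hα : ∀ {G H : X.Modules} (φ : G ⟶ H),
      (CohPull.inv f.base).map ((tab Y).map ((Scheme.Modules.pushforward f).map φ)) ≫ α H = α G ≫ (tab X).map φ := by
    intro G H φ
    have e : (tab X).map ((Scheme.Modules.pullback f).map ((Scheme.Modules.pushforward f).map φ)) ≫
        (tab X).map (c.app H) = (tab X).map (c.app G) ≫ (tab X).map φ :=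
      ((tab X).map_comp _ _).symm.trans ((congrArg (tab X).map (c.naturality φ)).trans ((tab X).map_comp _ _))
    exact ((Category.assoc _ _ _).symm.trans (congrArg (· ≫ _) (theta_natural f _))).trans
      ((Category.assoc _ _ _).trans ((congrArg (CohPull.theta f _ ≫ ·) e).trans (Category.assoc _ _ _).symm))
  let Φ : ((S.map (Scheme.Modules.pushforward f)).map (tab Y)).map (CohPull.inv f.base) ⟶ S.map (tab X) :=
    ⟨α _, α _, α _, (hα S.f).symm, (hα S.g).symm⟩
  have hx : ∀ (G : X.Modules) (q : ℕ) (z : Coh.HH Y ((Scheme.Modules.pushforward f).obj G) q),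
      CohPull.pushEdge f G q z = Sheaf.H.map (α G) q (CohPull.pullAb f.base _ q z) := fun G q z =>
    (Sheaf.H.map_comp_apply _ _ _).symm
  rw [hx, hx]
  refine (congrArg (Sheaf.H.map (α S.X₁) (p + 1)) (pullAb_extδ f.base (tab_shortExact hP) p x)).trans ?_
  exact extδ_natural (U := X) (map_inv_shortExact f.base (tab_shortExact hP)) (tab_shortExact hS) Φ p _

theorem bijective_pushEdge [HasInjectiveResolutions X.Modules] : ∀ (p : ℕ) (G : X.Modules),
    (∀ q : ℕ, 0 < q → IsZero ((Coh.Rpush f q).obj G)) → Function.Bijective (CohPull.pushEdge f G p) := by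
  haveI := SpObjSS.enoughInjectives_of_hasInjectiveResolutions (C := X.Modules)
  haveI := QCoh.preservesFiniteLimits_push f
  intro p
  induction p with
  | zero =>
    intro G _
    refine ⟨fun a b h => (Sheaf.H.equiv₀ _ isTerminalTop).injective ?_, fun z => ?_⟩
    · exact ((equiv₀_pushEdge f G a).symm.trans ((congrArg (Sheaf.H.equiv₀ _ isTerminalTop) h).trans
        (equiv₀_pushEdge f G b)))
    · refine ⟨(Sheaf.H.equiv₀ (Coh.toAb ((Scheme.Modules.pushforward f).obj G)) isTerminalTop).symm
        (show Γ((Scheme.Modules.pushforward f).obj G, (⊤ : Y.Opens)) from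
          Sheaf.H.equiv₀ (Coh.toAb G) isTerminalTop z), (Sheaf.H.equiv₀ _ isTerminalTop).injective ?_⟩
      exact (equiv₀_pushEdge f G _).trans (AddEquiv.apply_symm_apply _ _)
  | succ p ih =>
    intro G hG
    obtain ⟨S, hS, hI, rfl⟩ := exists_inj_ses G
    let P := Scheme.Modules.pushforward f
    have hIz : ∀ q : ℕ, 0 < q → IsZero ((Coh.Rpush f q).obj S.X₂) := fun q hq => by
      obtain ⟨q, rfl⟩ := Nat.exists_eq_succ_of_ne_zero hq.ne'
      exact P.isZero_rightDerived_obj_injective_succ q _
    have hP : (S.map P).ShortExact := by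
      obtain ⟨e⟩ := QCoh.nonempty_R1_iso P hS (hIz 1 one_pos)
      haveI := hS.mono_f
      haveI : Mono (S.map P).f := inferInstanceAs (Mono (P.map S.f))
      haveI : Epi (S.map P).g := Abelian.epi_of_cokernel_π_eq_zero (f := P.map S.g)
        (((hG 1 one_pos).of_iso e.symm).eq_of_tgt _ _)
      exact { exact := hS.exact.map_of_mono_of_preservesKernel P hS.mono_f inferInstance }
    have hQ : ∀ q : ℕ, 0 < q → IsZero ((Coh.Rpush f q).obj S.X₃) := fun q hq => by
      obtain ⟨q, rfl⟩ := Nat.exists_eq_succ_of_ne_zero hq.ne'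
      obtain ⟨e⟩ := QCoh.nonempty_shift_iso P hS q (hIz (q + 1) q.succ_pos) (hIz (q + 2) (q + 1).succ_pos)
      exact (hG (q + 2) (q + 1).succ_pos).of_iso e
    have hfl : QCoh.IsFlasqueMod (P.obj S.X₂) :=
      { epi := fun i => (QCoh.isFlasqueMod_of_injective S.X₂).epi (homOfLE (f.preimage_mono i.unop.le)).op }
    have h2 : Subsingleton (Sheaf.H (Coh.toAb (P.obj S.X₂)) (p + 1)) := subsingleton_HH_of_flasque hfl p
    have h2' : Subsingleton (Sheaf.H (Coh.toAb S.X₂) (p + 1)) :=
      subsingleton_HH_of_flasque (QCoh.isFlasqueMod_of_injective S.X₂) p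
    refine ⟨(injective_iff_map_eq_zero _).2 fun x hx => ?_, fun z => ?_⟩
    · obtain ⟨y, rfl⟩ := extδ_surjective (tab_shortExact hP) p h2 x
      obtain ⟨w, hw⟩ := (extδ_eq_zero_iff (tab_shortExact hS) p _).1
        ((pushEdge_extδ f hS hP p y).symm.trans hx)
      obtain ⟨w', rfl⟩ := (ih S.X₂ hIz).2 w
      have hy : Sheaf.H.map ((tab Y).map (P.map S.g)) p w' = y :=
        (ih S.X₃ hQ).1 ((pushEdge_natural f S.g p w').trans hw)
      exact (extδ_eq_zero_iff (tab_shortExact hP) p y).2 ⟨w', hy⟩
    · obtain ⟨w, rfl⟩ := extδ_surjective (tab_shortExact hS) p h2' z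
      obtain ⟨y, rfl⟩ := (ih S.X₃ hQ).2 w
      exact ⟨CohCmp.extδ (tab_shortExact hP) p y, pushEdge_extδ f hS hP p y⟩

end Groth.Agent.GenBC
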