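import Groth.Agent.GenBC.Criteria

/-!
# Epimorphic base change at a fibre
-/

set_option autoImplicit false
set_option linter.style.haveILetI false
set_option linter.unusedSectionVars false
set_option backward.isDefEq.respectTransparency false
set_option backward.isDefEq.respectTransparency.types false
set_option maxHeartbeats 2000000
set_option synthInstance.maxHeartbeats 400000

universe u

open CategoryTheory CategoryTheory.Limits AlgebraicGeometry TopologicalSpace Opposite
open scoped TensorProduct

noncomputable section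

namespace Groth.Agent.GenBC

open Groth.Agent Groth.Agent.QCoh

variable {X S : Scheme.{u}} (f : X ⟶ S)

theorem top_le_preimage_fibre (s : S) {V : S.Opens} (hs : s ∈ V) :
    (⊤ : (Spec (S.residueField s)).Opens) ≤ S.fromSpecResidueField s ⁻¹ᵁ V := fun z _ => by
  show S.fromSpecResidueField s z ∈ V
  rw [Scheme.fromSpecResidueField_apply]
  exact hs

/-- Functions on an affine open, evaluated on the spectrum of the residue field of a point. -/
theorem appLE_fromSpecResidueField {V : S.Opens} (hV : IsAffineOpen V) {s : S} (hs : s ∈ V) :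
    (S.fromSpecResidueField s).appLE V ⊤ (top_le_preimage_fibre s hs) =
      (S.presheaf.germ V s hs ≫ S.residue s) ≫ (Scheme.ΓSpecIso (S.residueField s)).inv := by
  let φ := S.presheaf.germ V s hs ≫ S.residue s
  have hφ : Spec.map φ ≫ hV.fromSpec = S.fromSpecResidueField s := by
    rw [Spec.map_comp, Category.assoc, Scheme.fromSpecResidueField]
    exact congrArg (Spec.map (S.residue s) ≫ ·) (hV.fromSpecStalk_eq_fromSpecStalk hs)
  have h1 : hV.fromSpec.appLE V ⊤ hV.fromSpec_preimage_self.ge = (Scheme.ΓSpecIso Γ(S, V)).inv := by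
    rw [Scheme.Hom.appLE, hV.fromSpec_app_self, Category.assoc, ← Functor.map_comp]
    convert Category.comp_id _
    exact (Spec Γ(S, V)).presheaf.map_id _
  have key : ∀ (h : Spec (S.residueField s) ⟶ S) (hh : h = S.fromSpecResidueField s)
      (e : (⊤ : (Spec (S.residueField s)).Opens) ≤ h ⁻¹ᵁ V),
      (S.fromSpecResidueField s).appLE V ⊤ (top_le_preimage_fibre s hs) = h.appLE V ⊤ e := by
    rintro _ rfl e
    rfl
  rw [key _ hφ ((le_top : (⊤ : (Spec (S.residueField s)).Opens) ≤ Spec.map φ ⁻¹ᵁ ⊤).trans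
      ((Spec.map φ).preimage_mono hV.fromSpec_preimage_self.ge)),
    ← Scheme.Hom.appLE_comp_appLE _ _ V ⊤ ⊤ hV.fromSpec_preimage_self.ge le_rfl, h1,
    Scheme.ΓSpecIso_inv_naturality φ]
  exact congrArg ((Scheme.ΓSpecIso Γ(S, V)).inv ≫ ·) (Spec.map φ).appLE_eq_app

variable [IsProper f] [LocallyOfFinitePresentation f] {F : X.Modules}

/-- Epimorphic base change to a fibre splits the differential of a model nearby. -/
theorem exists_split_of_epi [HasInjectiveResolutions X.Modules] (hF : Coh.IsQCoh F) (p : ℕ) (s : S)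
    [HasInjectiveResolutions (f.fiber s).Modules] {Δ : RDer.DerivedLES (Scheme.Modules.pushforward f)}
    {Δs : RDer.DerivedLES (Scheme.Modules.pushforward (f.fiberToSpecResidueField s))}
    {E : CohCmp.SectCmp f Δ} {Es : CohCmp.SectCmp (f.fiberToSpecResidueField s) Δs}
    (Bs : CohCmp.GenBC f (S.fromSpecResidueField s) (f.fiberToSpecResidueField s) (f.fiberι s) (f.fiber_fac s) E Es)
    (hepi : Epi (Bs.bc p F)) {V : S.Opens} (hV : IsAffineOpen V) (hs : s ∈ V)
    {P : ChainComplex (ModuleCat.{u} Γ(S, V)) ℤ} (hP : IsModelOn f F hV P) :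
    ∃ r : Γ(S, V), s ∈ S.basicOpen r ∧ SplitAt P (-(p : ℤ)) r := by
  let g := S.fromSpecResidueField s
  let hle : (⊤ : (Spec (S.residueField s)).Opens) ≤ g ⁻¹ᵁ V := top_le_preimage_fibre s hs
  let A : Type u := Γ(S, V)
  let A' : Type u := Γ(Spec (S.residueField s), ⊤)
  letI : ((f ⁻¹ᵁ V : X.Opens) : Scheme.{u}).Over (Spec (CommRingCat.of A)) := ⟨overSpec f hV⟩
  letI alg : Algebra A A' := (g.appLE V ⊤ hle).hom.toAlgebra
  obtain ⟨κ, _, U, hcov, haff⟩ := exists_affine_cover_preimage f hV
  obtain ⟨T, hT, hTt⟩ := exists_secT f g (f.fiberToSpecResidueField s) (f.fiberι s) (f.fiber_fac s) Bs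
    (IsPullback.of_hasPullback _ _) hF p hV (isAffineOpen_top _) hle U haff hcov
  have hR : Coh.IsQCoh ((Coh.Rpush f p).obj F) := isQCoh_Rpush f hF p
  have hTs : Function.Surjective T := by
    intro z
    haveI : Subsingleton (Spec (S.residueField s) : Scheme.{u}) :=
      inferInstanceAs (Subsingleton (PrimeSpectrum (S.residueField s)))
    haveI := hepi
    obtain ⟨pt⟩ : Nonempty (Spec (S.residueField s) : Scheme.{u}) :=
      inferInstanceAs (Nonempty (PrimeSpectrum (S.residueField s)))
    obtain ⟨O, i, hO, w, hw⟩ := exists_local_preimage (Bs.bc p F) z (show pt ∈ (⊤ : (Spec (S.residueField s)).Opens) from trivial)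
    obtain rfl : O = ⊤ := top_le_iff.1 fun x _ => by rwa [Subsingleton.elim x pt]
    let N := (Scheme.Modules.pullback g).obj ((Coh.Rpush f p).obj F)
    letI : Module A Γ(N, ⊤) := Module.compHom _ (g.appLE V ⊤ hle).hom
    haveI : IsScalarTower A A' Γ(N, ⊤) := .of_algebraMap_smul fun _ _ => rfl
    let l₁ : Γ((Coh.Rpush f p).obj F, V) →ₗ[A] Γ(N, ⊤) :=
      { toFun := pullSec g _ hle
        map_add' := pullSec_add g _ hle
        map_smul' := pullSec_smul g _ hle }
    have hb : IsBaseChange A' l₁ := isBaseChange_pullback hV g (isAffineOpen_top _) hR hle (fun _ => rfl) l₁ fun _ => rfl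
    have hgen : ∀ w : Γ(N, ⊤), ∃ t, T t = (Bs.bc p F).app ⊤ w := by
      intro w
      obtain ⟨t, rfl⟩ := hb.equiv.surjective w
      induction t using TensorProduct.induction_on with
      | zero => exact ⟨0, by rw [map_zero, map_zero hb.equiv, map_zero]⟩
      | add a b ha hb' =>
        obtain ⟨ta, ea⟩ := ha
        obtain ⟨tb, eb⟩ := hb'
        exact ⟨ta + tb, by rw [map_add, map_add hb.equiv, map_add, ea, eb]⟩
      | tmul b y =>
        refine ⟨y ⊗ₜ b, (hTt y b).trans ?_⟩
        rw [hb.equiv_tmul]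
        refine Eq.trans ?_ (Scheme.Modules.Hom.app_smul (Bs.bc p F) b (l₁ y)).symm
        refine congrArg (b • ·) ?_
        let adj := Scheme.Modules.pullbackPushforwardAdjunction g
        have h1 : adj.unit.app _ ≫ (Scheme.Modules.pushforward g).map (Bs.bc p F) = Bs.φ p F :=
          (adj.homEquiv_unit _ _ _).symm.trans (Equiv.apply_symm_apply _ _)
        have h2 := congrArg (fun t => t.app V y) h1
        exact ((map_app_comm (Bs.bc p F) (homOfLE hle) _).trans (congrArg _ h2)).symm
    obtain ⟨t, ht⟩ := hgen w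
    exact ⟨t, ht.trans (hw.trans (QCoh.map_id' _ _))⟩
  obtain ⟨e⟩ := nonempty_tfun_model hP hF p U haff hcov
  have hmu := PBC.surjective_muT_congr e.symm (hT.2.1 hTs)
  let 𝔭 := (hV.primeIdealOf ⟨s, hs⟩).asIdeal
  obtain ⟨j, hj, hjc⟩ := PBC.exists_residue_iso hV hs
  let l : (ModuleCat.of A A' : ModuleCat.{u} A) ≅ ModuleCat.of A 𝔭.ResidueField :=
    LinearEquiv.toModuleIso (LinearEquiv.symm
      { toFun := fun x => (Scheme.ΓSpecIso (S.residueField s)).inv (j x)
        invFun := fun y => (RingEquiv.ofBijective j hj).symm ((Scheme.ΓSpecIso (S.residueField s)).hom y)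
        left_inv := fun x => by simp; exact (RingEquiv.ofBijective j hj).symm_apply_apply x
        right_inv := fun y => by
          show (Scheme.ΓSpecIso (S.residueField s)).inv
            ((RingEquiv.ofBijective j hj) ((RingEquiv.ofBijective j hj).symm _)) = y
          rw [RingEquiv.apply_symm_apply]
          simp
        map_add' := fun x y => by simp
        map_smul' := fun a x => by
          show (Scheme.ΓSpecIso (S.residueField s)).inv (j (a • x)) =
            (g.appLE V ⊤ hle).hom a * (Scheme.ΓSpecIso (S.residueField s)).inv (j x)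
          rw [Algebra.smul_def, map_mul, map_mul, appLE_fromSpecResidueField hV hs]
          exact congrArg (fun t => (Scheme.ΓSpecIso (S.residueField s)).inv t *
            (Scheme.ΓSpecIso (S.residueField s)).inv (j x)) (DFunLike.congr_fun hjc a) })
  obtain ⟨r, hr, hsplit⟩ := exists_splitAt_of_surjective hP.1 hP.2.1 (-(p : ℤ)) 𝔭
    (PBC.surjective_muT_of_iso P (-(p : ℤ)) l hmu)
  exact ⟨r, (QCoh.mem_basicOpen_iff_notMem hV hs r).2 hr, hsplit⟩

/-- A base change map which is an isomorphism at the fibre, from a split differential. -/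
theorem epi_of_split [HasInjectiveResolutions X.Modules] (hF : Coh.IsQCoh F) (p : ℕ) (s : S)
    [HasInjectiveResolutions (f.fiber s).Modules] {Δ : RDer.DerivedLES (Scheme.Modules.pushforward f)}
    {Δs : RDer.DerivedLES (Scheme.Modules.pushforward (f.fiberToSpecResidueField s))}
    {E : CohCmp.SectCmp f Δ} {Es : CohCmp.SectCmp (f.fiberToSpecResidueField s) Δs}
    (Bs : CohCmp.GenBC f (S.fromSpecResidueField s) (f.fiberToSpecResidueField s) (f.fiberι s) (f.fiber_fac s) E Es)
    {V : S.Opens} (hV : IsAffineOpen V) {P : ChainComplex (ModuleCat.{u} Γ(S, V)) ℤ} (hP : IsModelOn f F hV P)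
    {r : Γ(S, V)} (hr : s ∈ S.basicOpen r) (hsp : SplitAt P (-(p : ℤ)) r) : Epi (Bs.bc p F) :=
  haveI := isIso_bc_of_split hF p (f.fiberι s) (f.fiberToSpecResidueField s) (S.fromSpecResidueField s)
    (IsPullback.of_hasPullback _ _) Bs fun z => ⟨V, hV, P, r, hP, by
      rw [Scheme.fromSpecResidueField_apply]; exact hr, hsp⟩
  inferInstance

end Groth.Agent.GenBC
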