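import Groth.Agent.GenBC.Criteria
import Groth.Agent.FlatCxLib.Structure

/-!
# Base change for complexes flat over a smaller base with flat cohomology
-/

set_option autoImplicit false
set_option linter.style.haveILetI false
set_option linter.unusedSectionVars false
set_option backward.isDefEq.respectTransparency false
set_option backward.isDefEq.respectTransparency.types false
set_option maxHeartbeats 1000000
set_option synthInstance.maxHeartbeats 400000

universe u

open CategoryTheory CategoryTheory.Limits
open scoped TensorProduct

noncomputable section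

namespace Groth.Agent.GenBC

section Pushout

variable {R A R' A' : Type u} [CommRing R] [CommRing A] [CommRing R'] [CommRing A'] [Algebra R A]
  [Algebra R R'] [Algebra A A'] [Algebra R' A'] [Algebra R A'] [IsScalarTower R A A'] [IsScalarTower R R' A']
  [Algebra.IsPushout R R' A A'] {X Y : Type u} [AddCommGroup X] [Module A X] [Module R X] [IsScalarTower R A X]
  [AddCommGroup Y] [Module A Y] [Module R Y] [IsScalarTower R A Y]

/-- Injectivity after base change over the small base, seen over the big one. -/
theorem injective_lTensor_of_pushout (f : X →ₗ[A] Y) (hf : Function.Injective ((f.restrictScalars R).lTensor R')) :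
    Function.Injective (f.lTensor A') := by
  let eX := Algebra.IsPushout.cancelBaseChange R R' A A' X
  let eY := Algebra.IsPushout.cancelBaseChange R R' A A' Y
  have key : ∀ t, eY.symm ((f.restrictScalars R).lTensor R' t) = f.lTensor A' (eX.symm t) := fun t => by
    induction t using TensorProduct.induction_on with
    | zero => simp
    | tmul s m => simp [eX, eY]
    | add a b ha hb => simp only [map_add, ha, hb]
  intro a b hab
  obtain ⟨a, rfl⟩ := eX.symm.surjective a
  obtain ⟨b, rfl⟩ := eX.symm.surjective b
  rw [← key, ← key] at hab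
  exact congrArg eX.symm (hf (eY.symm.injective hab))

/-- Injectivity after base change over the small base gives injectivity after tensoring with flat modules. -/
theorem injective_rTensor_of_pushout (f : X →ₗ[A] Y) (hf : Function.Injective ((f.restrictScalars R).lTensor R'))
    (M : Type u) [AddCommGroup M] [Module A' M] [Module A M] [IsScalarTower A A' M] [Module.Flat A' M] :
    Function.Injective (f.rTensor M) := by
  rw [← LinearMap.lTensor_inj_iff_rTensor_inj]
  let eX := TensorProduct.AlgebraTensorModule.cancelBaseChange A A' A' M X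
  let eY := TensorProduct.AlgebraTensorModule.cancelBaseChange A A' A' M Y
  let g : A' ⊗[A] X →ₗ[A'] A' ⊗[A] Y := f.baseChange A'
  have hg : Function.Injective g := injective_lTensor_of_pushout f hf
  have key : ∀ t, eY (g.lTensor M t) = f.lTensor M (eX t) := fun t => by
    induction t using TensorProduct.induction_on with
    | zero => simp
    | add a b ha hb => simp only [map_add, ha, hb]
    | tmul m s =>
      induction s using TensorProduct.induction_on with
      | zero => simp
      | add a b ha hb => simp only [TensorProduct.tmul_add, map_add, ha, hb]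
      | tmul a x => simp [eX, eY, g]
  intro a b hab
  obtain ⟨a, rfl⟩ := eX.surjective a
  obtain ⟨b, rfl⟩ := eX.surjective b
  rw [← key, ← key] at hab
  exact congrArg eX (Module.Flat.lTensor_preserves_injective_linearMap g hg (eY.injective hab))

end Pushout

section Complex

variable {A : Type u} [CommRing A] (R : Type u) [CommRing R] [Algebra R A]
  (K : CochainComplex (ModuleCat.{u} A) ℕ) [∀ p, Module R (K.X p)] [∀ p, IsScalarTower R A (K.X p)]

/-- The cokernel of the differential into degree `p`. -/
abbrev Cok (p : ℕ) : Type u := K.X p ⧸ LinearMap.range (K.d ((ComplexShape.up ℕ).prev p) p).hom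

/-- The differential on the cokernel. -/
def gbar (p : ℕ) : Cok K p →ₗ[A] K.X ((ComplexShape.up ℕ).next p) :=
  (LinearMap.range (K.d ((ComplexShape.up ℕ).prev p) p).hom).liftQ (K.d p ((ComplexShape.up ℕ).next p)).hom
    fun _ hx => by
      obtain ⟨v, rfl⟩ := hx
      exact PBC.range_le_ker K p _ v

theorem range_dI_next (p : ℕ) :
    LinearMap.range (K.d ((ComplexShape.up ℕ).prev ((ComplexShape.up ℕ).next p)) ((ComplexShape.up ℕ).next p)).hom =
      LinearMap.range (K.d p ((ComplexShape.up ℕ).next p)).hom := by
  have key : ∀ j q, j = p → LinearMap.range (K.d j q).hom = LinearMap.range (K.d p q).hom := by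
    rintro j q rfl
    rfl
  exact key _ _ (by simp)

theorem range_gbar (p : ℕ) : LinearMap.range (gbar K p) =
    LinearMap.range (K.d ((ComplexShape.up ℕ).prev ((ComplexShape.up ℕ).next p)) ((ComplexShape.up ℕ).next p)).hom := by
  rw [range_dI_next]
  exact Submodule.range_liftQ _ _ _

/-- The cycles modulo boundaries are the kernel of the differential on the cokernel. -/
theorem nonempty_T_ker_gbar (p : ℕ) :
    Nonempty (CohIII.T K p (ModuleCat.of A A) ≃ₗ[A] LinearMap.ker (gbar K p)) := by
  let φ : PBC.cyK K p →ₗ[A] LinearMap.ker (gbar K p) :=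
    ((LinearMap.range (K.d ((ComplexShape.up ℕ).prev p) p).hom).mkQ ∘ₗ (PBC.cyK K p).subtype).codRestrict _
      fun z => z.2
  have hφ : Function.Surjective φ := by
    rintro ⟨t, ht⟩
    obtain ⟨w, rfl⟩ := Submodule.mkQ_surjective _ t
    exact ⟨⟨w, ht⟩, rfl⟩
  have hk : LinearMap.ker φ = LinearMap.ker (PBC.clsA K p) := by
    ext z
    rw [LinearMap.mem_ker, LinearMap.mem_ker, PBC.clsA_eq_zero]
    constructor
    · intro hz
      exact (Submodule.Quotient.mk_eq_zero _).1 (congrArg Subtype.val hz)
    · intro hz
      exact Subtype.ext ((Submodule.Quotient.mk_eq_zero _).2 hz)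
  exact ⟨(((PBC.clsA K p).quotKerEquivOfSurjective (PBC.clsA_surjective K p)).symm.trans
    (Submodule.quotEquivOfEq _ _ hk.symm)).trans (φ.quotKerEquivOfSurjective hφ)⟩

theorem injective_gbar_rTensor (p : ℕ) (M : ModuleCat.{u} A) (h : Subsingleton (CohIII.T K p M)) :
    Function.Injective ((gbar K p).rTensor M) := by
  rw [injective_iff_map_eq_zero]
  intro t ht
  obtain ⟨w, rfl⟩ := LinearMap.rTensor_surjective M (Submodule.mkQ_surjective _) t
  have hw : w ∈ PBC.cyT K p M := by
    show (K.d p ((ComplexShape.up ℕ).next p)).hom.rTensor M w = 0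
    rw [← LinearMap.comp_apply, ← LinearMap.rTensor_comp] at ht
    exact ht
  obtain ⟨v, hv⟩ := (PBC.clsLin_eq_zero (CohIII.tensorObj K M) p).1
    (Subsingleton.elim (PBC.clsT K p M ⟨w, hw⟩) 0)
  have hv' : (K.d ((ComplexShape.up ℕ).prev p) p).hom.rTensor M v = w := hv
  rw [← hv', ← LinearMap.comp_apply, ← LinearMap.rTensor_comp,
    show (LinearMap.range (K.d ((ComplexShape.up ℕ).prev p) p).hom).mkQ ∘ₗ
      (K.d ((ComplexShape.up ℕ).prev p) p).hom = 0 from
      LinearMap.ext fun x => (Submodule.Quotient.mk_eq_zero _).2 ⟨x, rfl⟩,
    LinearMap.rTensor_zero, LinearMap.zero_apply]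

variable {b : ℕ} (hK : ∀ p, Module.Flat R (K.X p))
  (hvan : ∀ (M : ModuleCat.{u} A) (p : ℕ), b ≤ p → Subsingleton (CohIII.T K p M))
  (hker : ∀ p, Module.Flat R (LinearMap.ker (gbar K p)))

include hK hvan in
theorem flat_cok_high (p : ℕ) (hp : b ≤ p) : Module.Flat R (Cok K p) := by
  haveI := hK ((ComplexShape.up ℕ).next p)
  refine CAlgUI.flat_left_of_ui (R := R) (f := (gbar K p).restrictScalars R) ?_
  intro N _ _
  let eX := TensorProduct.AlgebraTensorModule.cancelBaseChange R A A (Cok K p) N
  let eY := TensorProduct.AlgebraTensorModule.cancelBaseChange R A A (K.X ((ComplexShape.up ℕ).next p)) N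
  have hinj := injective_gbar_rTensor K p (ModuleCat.of A (A ⊗[R] N)) (hvan _ p hp)
  have key : ∀ t : Cok K p ⊗[A] (A ⊗[R] N),
      eY ((gbar K p).rTensor (A ⊗[R] N) t) = ((gbar K p).restrictScalars R).rTensor N (eX t) := fun t => by
    induction t using TensorProduct.induction_on with
    | zero => simp
    | add a b ha hb => simp only [map_add, ha, hb]
    | tmul x s =>
      induction s using TensorProduct.induction_on with
      | zero => simp
      | add a b ha hb => simp only [TensorProduct.tmul_add, map_add, ha, hb]
      | tmul a n => simp [eX, eY]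
  intro a b hab
  obtain ⟨a, rfl⟩ := eX.surjective a
  obtain ⟨b, rfl⟩ := eX.surjective b
  rw [← key, ← key] at hab
  exact congrArg eX (hinj (eY.injective hab))

include hK hvan hker in
theorem flat_cok : ∀ p, Module.Flat R (Cok K p) := by
  suffices h : ∀ (m p : ℕ), b ≤ p + m → Module.Flat R (Cok K p) from fun p => h b p (by omega)
  intro m
  induction m with
  | zero => exact fun p hp => flat_cok_high R K hK hvan p (by omega)
  | succ m ih =>
    intro p hp
    haveI := hK ((ComplexShape.up ℕ).next p)
    haveI := ih ((ComplexShape.up ℕ).next p) (by simp; omega)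
    haveI : Module.Flat R (LinearMap.range (gbar K p)) := by
      refine FlatCxLib.flat_sub_of_flat (A := R) (f := ((LinearMap.range (gbar K p)).subtype).restrictScalars R)
        (g := (LinearMap.range (K.d ((ComplexShape.up ℕ).prev ((ComplexShape.up ℕ).next p))
          ((ComplexShape.up ℕ).next p)).hom).mkQ.restrictScalars R) Subtype.val_injective ?_ (Submodule.mkQ_surjective _)
      intro y
      show Submodule.Quotient.mk y = 0 ↔ y ∈ Set.range (LinearMap.range (gbar K p)).subtype
      rw [Submodule.Quotient.mk_eq_zero, ← range_gbar K p, Submodule.coe_subtype, Subtype.range_coe]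
      rfl
    haveI := hker p
    exact FlatCxLib.flat_of_flat_sub_quotient (A := R) (f := (LinearMap.ker (gbar K p)).subtype.restrictScalars R)
      (g := (gbar K p).rangeRestrict.restrictScalars R) Subtype.val_injective (fun y => by
        show (gbar K p).rangeRestrict y = 0 ↔ y ∈ Set.range (LinearMap.ker (gbar K p)).subtype
        rw [← LinearMap.mem_ker, LinearMap.ker_rangeRestrict, Submodule.coe_subtype, Subtype.range_coe]
        rfl)
      (LinearMap.surjective_rangeRestrict _)

include hK hvan hker in
/-- Flat cohomology commutes with base change from the small base, followed by flat maps. -/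
theorem bijective_muT_of_flat (R' A' : Type u) [CommRing R'] [CommRing A'] [Algebra R R'] [Algebra A A']
    [Algebra R' A'] [Algebra R A'] [IsScalarTower R A A'] [IsScalarTower R R' A'] [Algebra.IsPushout R R' A A']
    (p : ℕ) (M : ModuleCat.{u} A) [Module A' M] [IsScalarTower A A' M]
    [Module.Flat A' M] : Function.Bijective (PBC.muT K p M) := by
  have hflat := flat_cok R K hK hvan hker
  let d := (K.d p ((ComplexShape.up ℕ).next p)).hom
  haveI := hflat ((ComplexShape.up ℕ).next p)
  haveI := hK ((ComplexShape.up ℕ).next p)
  have hex : Function.Exact ((LinearMap.range d).subtype.restrictScalars R)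
      ((LinearMap.range (K.d ((ComplexShape.up ℕ).prev ((ComplexShape.up ℕ).next p))
        ((ComplexShape.up ℕ).next p)).hom).mkQ.restrictScalars R) := fun y => by
    show Submodule.Quotient.mk y = 0 ↔ y ∈ Set.range (LinearMap.range d).subtype
    rw [Submodule.Quotient.mk_eq_zero, range_dI_next K p, Submodule.coe_subtype, Subtype.range_coe]
    rfl
  have hB : CAlgX.UniversallyInjective R ((LinearMap.range d).subtype.restrictScalars R) :=
    CAlgUI.ui_of_flat_quotient Subtype.val_injective hex (Submodule.mkQ_surjective _)
  haveI : Module.Flat R (LinearMap.range d) := CAlgUI.flat_left_of_ui hB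
  have hexZ : Function.Exact (PBC.cyK K p).subtype d.rangeRestrict := fun y => by
    rw [← LinearMap.mem_ker, LinearMap.ker_rangeRestrict, Submodule.coe_subtype, Subtype.range_coe]
    rfl
  have hZ : CAlgX.UniversallyInjective R ((PBC.cyK K p).subtype.restrictScalars R) :=
    CAlgUI.ui_of_flat_quotient (g := d.rangeRestrict.restrictScalars R) Subtype.val_injective hexZ
      (LinearMap.surjective_rangeRestrict _)
  have hBM : Function.Injective ((LinearMap.range d).subtype.rTensor M) :=
    injective_rTensor_of_pushout (R := R) (R' := R') (A' := A') _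
      ((LinearMap.lTensor_inj_iff_rTensor_inj _ _).2 (hB R')) M
  refine ⟨PBC.injective_muT_of K p M (injective_rTensor_of_pushout (R := R) (R' := R') (A' := A') _
    ((LinearMap.lTensor_inj_iff_rTensor_inj _ _).2 (hZ R')) M), (PBC.surjective_muT_iff K p M).2 fun w hw => ?_⟩
  refine (rTensor_exact M hexZ (LinearMap.surjective_rangeRestrict _) w).1 (hBM ?_)
  rw [map_zero, ← LinearMap.comp_apply, ← LinearMap.rTensor_comp]
  exact hw

end Complex

end Groth.Agent.GenBC
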