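import Groth.Agent.GenBC.FlatImages
import Groth.Agent.QCoh.FlatBC
import Groth.Agent.FibFlatMod.StageScheme

/-!
# Čech complexes of flat modules with flat higher direct images
-/

set_option autoImplicit false
set_option linter.style.haveILetI false
set_option linter.unusedSectionVars false
set_option backward.isDefEq.respectTransparency false
set_option backward.isDefEq.respectTransparency.types false
set_option maxHeartbeats 2000000
set_option synthInstance.maxHeartbeats 400000

universe u

open CategoryTheory CategoryTheory.Limits AlgebraicGeometry TopologicalSpace Opposite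
open scoped TensorProduct

noncomputable section

namespace Groth.Agent.GenBC

open Groth.Agent Groth.Agent.QCoh

variable {X Y S : Scheme.{u}} (f : X ⟶ Y) [IsSeparated f] [QuasiCompact f] (a : X ⟶ S) (b : Y ⟶ S)
  (hf : f ≫ b = a) [HasInjectiveResolutions X.Modules] (F : X.Modules)

include hf in
/-- Base change of the Čech complex of a module with flat higher direct images. -/
theorem bijective_muT_flatImages (hFq : Coh.IsQCoh F) (hF : FlatMod.IsFlatOver a F)
    (hR : ∀ n : ℕ, FlatMod.IsFlatOver b ((Coh.Rpush f n).obj F))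
    {W : S.Opens} (hW : IsAffineOpen W) {V : Y.Opens} (hV : IsAffineOpen V) (hVW : V ≤ b ⁻¹ᵁ W)
    {κ : Type u} [Finite κ] (U : κ → (f ⁻¹ᵁ V : X.Opens).toScheme.Opens)
    (hU : ∀ {q : ℕ} (σ : Fin (q + 1) → κ), IsAffineOpen (⨅ i, U (σ i))) (hcov : ⨆ i, U i = ⊤)
    (R' A' : Type u) [CommRing R'] [CommRing A'] [Algebra Γ(S, W) R'] [Algebra Γ(Y, V) A']
    [Algebra R' A'] [Algebra Γ(S, W) A']
    (hpo : letI : Algebra Γ(S, W) Γ(Y, V) := (b.appLE W V hVW).hom.toAlgebra
      ∃ (_ : IsScalarTower Γ(S, W) Γ(Y, V) A') (_ : IsScalarTower Γ(S, W) R' A'),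
        Algebra.IsPushout Γ(S, W) R' Γ(Y, V) A')
    (M : ModuleCat.{u} Γ(Y, V)) [Module A' M] [IsScalarTower Γ(Y, V) A' M] [Module.Flat A' M] (n : ℕ) :
    letI : ((f ⁻¹ᵁ V : X.Opens) : Scheme.{u}).Over (Spec (CommRingCat.of Γ(Y, V))) := ⟨overSpec f hV⟩
    Function.Bijective (PBC.muT (cechA (A := Γ(Y, V)) (F.restrict (f ⁻¹ᵁ V).ι) U) n M) := by
  let R : Type u := Γ(S, W)
  let A : Type u := Γ(Y, V)
  letI alg : Algebra R A := (b.appLE W V hVW).hom.toAlgebra
  obtain ⟨i₁, i₂, i₃⟩ := hpo
  let XV : Scheme.{u} := (f ⁻¹ᵁ V : X.Opens)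
  let FV : XV.Modules := F.restrict (f ⁻¹ᵁ V).ι
  letI oA : XV.Over (Spec (CommRingCat.of A)) := ⟨overSpec f hV⟩
  let πR : XV ⟶ Spec (CommRingCat.of R) := overSpec f hV ≫ Spec.map (b.appLE W V hVW)
  let K := cechA (A := A) FV U
  letI : ∀ p, Module R (K.X p) := fun p => Module.compHom _ (algebraMap R A)
  haveI : ∀ p, IsScalarTower R A (K.X p) := fun p => IsScalarTower.of_algebraMap_smul fun _ _ => rfl
  have hpb := isPullback_overSpec (f := f) hV
  haveI : IsSeparated (overSpec f hV) := MorphismProperty.of_isPullback hpb ‹_›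
  haveI : QuasiCompact (overSpec f hV) := MorphismProperty.of_isPullback hpb ‹_›
  haveI : CompactSpace XV := QuasiCompact.compactSpace_of_compactSpace (overSpec f hV)
  haveI : XV.IsSeparated := ⟨by
    rw [← Limits.terminal.comp_from (overSpec f hV)]
    infer_instance⟩
  have hFV : Coh.IsQCoh FV := isQCoh_restrict _ hFq
  have hK : ∀ p, Module.Flat R (K.X p) := by
    intro p
    have hw : πR ≫ hW.fromSpec = (f ⁻¹ᵁ V).ι ≫ a := by
      show (overSpec f hV ≫ Spec.map (b.appLE W V hVW)) ≫ hW.fromSpec = _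
      rw [Category.assoc, IsAffineOpen.SpecMap_appLE_fromSpec b hW hV hVW, ← Category.assoc,
        overSpec_fromSpec f hV, Category.assoc, hf]
    have hfl : FlatMod.IsFlatOver πR FV := fun x =>
      GrFlat5.isFlatOverAt_of_iso πR ((Scheme.Modules.restrictFunctorIsoPullback (f ⁻¹ᵁ V).ι).app F).symm x
        ((FibFlatMod.flatAt_openImmersion (f := a) (f' := πR) (jX := (f ⁻¹ᵁ V).ι) (jY := hW.fromSpec) hw F x).2
          (hF _))
    letI oR : XV.Over (Spec (CommRingCat.of R)) := ⟨πR⟩
    haveI h1 : Module.Flat R ((cxMod (Coh.toGlobal πR) U FV).X p) := flat_cechA (A := R) FV hFV hfl hU p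
    refine Module.Flat.of_linearEquiv (M := (cxMod (Coh.toGlobal πR) U FV).X p)
      { toFun := fun c => c
        invFun := fun c => c
        left_inv := fun _ => rfl
        right_inv := fun _ => rfl
        map_add' := fun _ _ => rfl
        map_smul' := fun r c => ?_ }
    have h2 : Coh.toGlobal (overSpec f hV) (algebraMap R A r) = Coh.toGlobal πR r := by
      refine (toGlobal_comm (A := R) (B := A) πR (overSpec f hV) (𝟙 XV) (Category.id_comp _) r).trans ?_
      rw [Scheme.Hom.id_appTop]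
      rfl
    show algebraMap R A r • (c : K.X p) = r • (show (cxMod (Coh.toGlobal πR) U FV).X p from c)
    rw [cxMod_smul (ρ := Coh.toGlobal πR)]
    refine (cxMod_smul (Coh.toGlobal (XV ↘ Spec (CommRingCat.of A))) U FV p (algebraMap R A r) c).trans ?_
    exact congrArg (fun s => (Ab.natCxMap U (smulAbHom FV s).hom).f p c) h2
  obtain ⟨d, hd⟩ := exists_HH_bound (X := XV)
  have hvan : ∀ (N : ModuleCat.{u} A) (p : ℕ), d ≤ p → Subsingleton (CohIII.T K p N) := by
    intro N p hp
    obtain ⟨e⟩ := nonempty_tfun_iso (A := A) FV hFV hcov hU p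
    have : Subsingleton (Coh.HH XV (tA FV N) p) := hd _ (isQCoh_tA FV hFV N) p hp
    exact (e.app N).addCommGroupIsoToAddEquiv.toEquiv.subsingleton_congr.2 this
  have hker : ∀ p, Module.Flat R (LinearMap.ker (gbar K p)) := by
    intro p
    obtain ⟨l₀⟩ := nonempty_T_ker_gbar K p
    obtain ⟨l₂⟩ := cxMod_homology_equiv (Coh.toGlobal (overSpec f hV)) U hcov hU hFV p
    obtain ⟨l₃⟩ := nonempty_sections_HH (f := f) hFq hV p
    rw [← QCoh.toGlobal_overSpec f hV] at l₃
    let l : Γ((Coh.Rpush f p).obj F, V) ≃ₗ[A] LinearMap.ker (gbar K p) :=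
      l₃.trans (l₂.symm.trans (((HomologicalComplex.homologyFunctor _ _ p).mapIso
        (tensorSelfIso (P := K)).symm).toLinearEquiv.trans l₀))
    letI : Module R Γ((Coh.Rpush f p).obj F, V) := Module.compHom _ (b.appLE W V hVW).hom
    haveI : IsScalarTower R A Γ((Coh.Rpush f p).obj F, V) := IsScalarTower.of_algebraMap_smul fun _ _ => rfl
    haveI : Module.Flat R Γ((Coh.Rpush f p).obj F, V) :=
      (flat_appLE_iff b (QCoh.isQCoh_Rpush f hFq p) hV hW hVW).2 fun y _ => hR p y
    exact Module.Flat.of_linearEquiv (l.restrictScalars R).symm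
  exact bijective_muT_of_flat R K hK hvan hker R' A' n M

end Groth.Agent.GenBC
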