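import Groth.Agent.GenBC.Core
import Groth.Agent.CohBC.Transpose
import Groth.Agent.PBC.Deg0Glob

/-!
# The base change maps on sections over affine opens
-/

set_option autoImplicit false
set_option linter.style.haveILetI false
set_option linter.unusedSectionVars false
set_option backward.isDefEq.respectTransparency false
set_option backward.isDefEq.respectTransparency.types false
set_option maxHeartbeats 2000000
set_option synthInstance.maxHeartbeats 400000

universe u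

open CategoryTheory CategoryTheory.Limits AlgebraicGeometry TopologicalSpace Opposite
open scoped TensorProduct

noncomputable section

namespace Groth.Agent.GenBC

open Groth.Agent Groth.Agent.QCoh

/-- The transpose of `α` is an isomorphism if `α` changes base near every point. -/
theorem isIso_transpose_local {S S' : Scheme.{u}} (g : S' ⟶ S) {P : S.Modules} {Q : S'.Modules}
    (α : P ⟶ (Scheme.Modules.pushforward g).obj Q) (hP : Coh.IsQCoh P)
    (h : ∀ x : S', ∃ (U : S.Opens) (O : S'.Opens), IsAffineOpen U ∧ x ∈ O ∧ O ≤ g ⁻¹ᵁ U ∧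
      ∀ (W : S'.Opens), IsAffineOpen W → W ≤ O → ∀ hle : W ≤ g ⁻¹ᵁ U, CohBC.IsBCAt g α U W hle) :
    IsIso (((Scheme.Modules.pullbackPushforwardAdjunction g).homEquiv P Q).symm α) := by
  let adj := Scheme.Modules.pullbackPushforwardAdjunction g
  let β : (Scheme.Modules.pullback g).obj P ⟶ Q := (adj.homEquiv P Q).symm α
  have hβ : ∀ (U : S.Opens) (W : S'.Opens) (hle : W ≤ g ⁻¹ᵁ U) (m : Γ(P, U)),
      β.app W (pullSec g P hle m) = secMap g α hle m := by
    intro U W hle m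
    have h1 : adj.unit.app _ ≫ (Scheme.Modules.pushforward g).map β = α :=
      (adj.homEquiv_unit _ _ β).symm.trans (Equiv.apply_symm_apply _ α)
    have h2 : β.app (g ⁻¹ᵁ U) ((adj.unit.app P).app U m) = α.app U m := congrArg (fun t => t.app U m) h1
    exact (map_app_comm β (homOfLE hle) _).trans (congrArg _ h2)
  show IsIso β
  refine isIso_of_isBasis β
    (B := {W | IsAffineOpen W ∧ ∃ (U : S.Opens) (hle : W ≤ g ⁻¹ᵁ U), IsAffineOpen U ∧ CohBC.IsBCAt g α U W hle}) ?_ ?_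
  · refine TopologicalSpace.Opens.isBasis_iff_nbhd.2 fun {V} x hx => ?_
    obtain ⟨U, O, hU, hxO, hOU, hBC⟩ := h x
    obtain ⟨_, ⟨W, hW, rfl⟩, hxW, hWle⟩ := S'.isBasis_affineOpens.exists_subset_of_mem_open
      (show x ∈ V ⊓ O from ⟨hx, hxO⟩) (V ⊓ O).isOpen
    have hWO : W ≤ O := fun y hy => (hWle hy).2
    exact ⟨W, ⟨hW, U, hWO.trans hOU, hU, hBC W hW hWO _⟩, hxW, fun y hy => (hWle hy).1⟩
  rintro W ⟨hW, U, hle, hU, hBC⟩
  letI : Algebra Γ(S, U) Γ(S', W) := (g.appLE U W hle).hom.toAlgebra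
  letI : Module Γ(S, U) Γ(Q, W) := Module.compHom _ (g.appLE U W hle).hom
  haveI : IsScalarTower Γ(S, U) Γ(S', W) Γ(Q, W) := .of_algebraMap_smul fun _ _ => rfl
  let N := (Scheme.Modules.pullback g).obj P
  letI : Module Γ(S, U) Γ(N, W) := Module.compHom _ (g.appLE U W hle).hom
  haveI : IsScalarTower Γ(S, U) Γ(S', W) Γ(N, W) := .of_algebraMap_smul fun _ _ => rfl
  let l₁ : Γ(P, U) →ₗ[Γ(S, U)] Γ(N, W) :=
    { toFun := pullSec g P hle
      map_add' := pullSec_add g P hle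
      map_smul' := pullSec_smul g P hle }
  let l₂ : Γ(P, U) →ₗ[Γ(S, U)] Γ(Q, W) :=
    { toFun := secMap g α hle
      map_add' := secMap_add g α hle
      map_smul' := CohBC.secMap_smul_appLE g α hle }
  have hb₁ : IsBaseChange Γ(S', W) l₁ := isBaseChange_pullback hU g hW hP hle (fun _ => rfl) l₁ fun _ => rfl
  have hb₂ : IsBaseChange Γ(S', W) l₂ := hBC l₂ fun _ => rfl
  let ψ : Γ(N, W) →ₗ[Γ(S', W)] Γ(Q, W) :=
    { toFun := β.app W
      map_add' := fun a b => map_add (β.app W).hom a b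
      map_smul' := fun r x => Scheme.Modules.Hom.app_smul β r x }
  have hψ : ψ = (hb₁.equiv.symm.trans hb₂.equiv).toLinearMap := hb₁.algHom_ext _ _ fun m => by
    show β.app W (pullSec g P hle m) = hb₂.equiv (hb₁.equiv.symm (l₁ m))
    rw [hb₁.equiv_symm_apply, hb₂.equiv_tmul, one_smul, hβ]
    rfl
  have : Function.Bijective ψ := by rw [hψ]; exact (hb₁.equiv.symm.trans hb₂.equiv).bijective
  exact this

section Restricted

variable {X X' : Scheme.{u}} (g : X' ⟶ X) {U : X.Opens} {U' : X'.Opens} (h : U' ≤ g ⁻¹ᵁ U)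

theorem mapH_iso_bijective {M N : X.Modules} (e : M ≅ N) (p : ℕ) : Function.Bijective (CohPull.mapH e.hom p) :=
  QCoh.bijective_map_iso e p

theorem mapH_smul {M N : X.Modules} (φ : M ⟶ N) (r : Coh.Γtop X) (p : ℕ) (x : Coh.HH X M p) :
    CohPull.mapH φ p (Sheaf.H.map (Coh.smulAb M r) p x) = Sheaf.H.map (Coh.smulAb N r) p (CohPull.mapH φ p x) :=
  (Sheaf.H.map_comp_apply _ _ _).symm.trans
    ((congrArg (fun t => Sheaf.H.map t p x) (toSheaf_map_comp_smulAb' φ r).symm).trans (Sheaf.H.map_comp_apply _ _ _))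

end Restricted

section Square

variable {X S X' S' : Scheme.{u}} (f : X ⟶ S) (g : S' ⟶ S) (f' : X' ⟶ S') (g' : X' ⟶ X)
  (w : g' ≫ f = f' ≫ g) [HasInjectiveResolutions X.Modules] [HasInjectiveResolutions X'.Modules]
  {Δ : RDer.DerivedLES (Scheme.Modules.pushforward f)} {Δ' : RDer.DerivedLES (Scheme.Modules.pushforward f')}
  {E : CohCmp.SectCmp f Δ} {E' : CohCmp.SectCmp f' Δ'} (B : CohCmp.GenBC f g f' g' w E E')

/-- The adjoint base change map on comparison classes over smaller opens upstairs. -/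
theorem secMap_φ (F : X.Modules) (p : ℕ) {V : S.Opens} {V' : S'.Opens} (hle : V' ≤ g ⁻¹ᵁ V)
    (x : Coh.HHon X F (f ⁻¹ᵁ V) p) :
    secMap g (B.φ p F) hle (E.ε V F p x) =
      E'.ε V' ((Scheme.Modules.pullback g').obj F) p
        (CohPull.pullOn g' (f ⁻¹ᵁ V) (f' ⁻¹ᵁ V') (PBC.le_square f g f' g' w hle) F p x) := by
  unfold secMap
  rw [B.compat V F p x, ← ε_resLE f' E' hle, resLE_pullOn]

theorem toGlobal_overSpec_eq {V : S.Opens} (hV : IsAffineOpen V) (a : Γ(S, V)) :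
    Coh.toGlobal (overSpec f hV) a = (f ⁻¹ᵁ V).topIso.inv (f.app V a) := by
  rw [QCoh.toGlobal_overSpec]
  show (f ⁻¹ᵁ V).ι.appLE (f ⁻¹ᵁ V) ⊤ _ (f.app V a) = _
  rw [Scheme.Opens.ι_appLE, Scheme.Opens.topIso_inv]
  rfl

theorem exists_affine_cover_preimage [QuasiCompact f] [IsSeparated f] {V : S.Opens} (hV : IsAffineOpen V) :
    ∃ (κ : Type u) (_ : Finite κ) (U : κ → (f ⁻¹ᵁ V : X.Opens).toScheme.Opens), (⨆ i, U i = ⊤) ∧
      ∀ {q : ℕ} (σ : Fin (q + 1) → κ), IsAffineOpen (⨅ a, U (σ a)) := by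
  have hpb := isPullback_overSpec (f := f) hV
  haveI : IsSeparated (overSpec f hV) := MorphismProperty.of_isPullback hpb ‹_›
  haveI : QuasiCompact (overSpec f hV) := MorphismProperty.of_isPullback hpb ‹_›
  haveI : CompactSpace (f ⁻¹ᵁ V : X.Opens).toScheme := QuasiCompact.compactSpace_of_compactSpace (overSpec f hV)
  haveI : (f ⁻¹ᵁ V : X.Opens).toScheme.IsSeparated := ⟨by
    rw [← Limits.terminal.comp_from (overSpec f hV)]
    infer_instance⟩
  exact exists_affine_cover (X := (f ⁻¹ᵁ V : X.Opens).toScheme)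

include B in
/-- The base change map on sections over an affine pair, read on the Čech complex. -/
theorem exists_secT [QuasiCompact f] [IsSeparated f] (hsq : IsPullback g' f' f g) {F : X.Modules}
    (hF : Coh.IsQCoh F) (p : ℕ) {V : S.Opens} (hV : IsAffineOpen V) {V' : S'.Opens} (hV' : IsAffineOpen V')
    (hle : V' ≤ g ⁻¹ᵁ V) {κ : Type u} [Finite κ] (U : κ → (f ⁻¹ᵁ V : X.Opens).toScheme.Opens)
    (haff : ∀ {q : ℕ} (σ : Fin (q + 1) → κ), IsAffineOpen (⨅ a, U (σ a))) (hcov : ⨆ i, U i = ⊤) :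
    letI : ((f ⁻¹ᵁ V : X.Opens) : Scheme.{u}).Over (Spec (CommRingCat.of Γ(S, V))) := ⟨overSpec f hV⟩
    letI : Algebra Γ(S, V) Γ(S', V') := (g.appLE V V' hle).hom.toAlgebra
    ∃ T : Γ((Coh.Rpush f p).obj F, V) ⊗[Γ(S, V)] Γ(S', V') →+
        Γ((Coh.Rpush f' p).obj ((Scheme.Modules.pullback g').obj F), V'),
      ((Function.Bijective T ↔ Function.Bijective (PBC.muT (cechA (A := Γ(S, V)) (F.restrict (f ⁻¹ᵁ V).ι) U) p
          (ModuleCat.of Γ(S, V) Γ(S', V')))) ∧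
        (Function.Surjective T ↔ Function.Surjective (PBC.muT (cechA (A := Γ(S, V)) (F.restrict (f ⁻¹ᵁ V).ι) U) p
          (ModuleCat.of Γ(S, V) Γ(S', V'))))) ∧
      ∀ (y : Γ((Coh.Rpush f p).obj F, V)) (b : Γ(S', V')), T (y ⊗ₜ b) = b • secMap g (B.φ p F) hle y := by
  let A : Type u := Γ(S, V)
  let A' : Type u := Γ(S', V')
  letI alg : Algebra A A' := (g.appLE V V' hle).hom.toAlgebra
  letI : ((f ⁻¹ᵁ V : X.Opens) : Scheme.{u}).Over (Spec (CommRingCat.of A)) := ⟨overSpec f hV⟩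
  letI : ((f' ⁻¹ᵁ V' : X'.Opens) : Scheme.{u}).Over (Spec (CommRingCat.of A')) := ⟨overSpec f' hV'⟩
  haveI : QuasiCompact f' := MorphismProperty.of_isPullback hsq ‹_›
  haveI : IsSeparated f' := MorphismProperty.of_isPullback hsq ‹_›
  let a := Spec.map (CommRingCat.ofHom (algebraMap A A'))
  let j := hV'.fromSpec
  have hag : a ≫ hV.fromSpec = j ≫ g := IsAffineOpen.SpecMap_appLE_fromSpec g hV hV' hle
  have hT := isPullback_overSpec (f := f') hV'
  have hpb := isPullback_overSpec (f := f) hV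
  have hA : IsPullback ((f' ⁻¹ᵁ V').ι ≫ g') (overSpec f' hV') f (a ≫ hV.fromSpec) := by
    rw [hag]; exact hT.paste_horiz hsq
  let hU := PBC.le_square f g f' g' w hle
  let k := g'.resLE (f ⁻¹ᵁ V) (f' ⁻¹ᵁ V') hU
  have hk : k ≫ (f ⁻¹ᵁ V).ι = (f' ⁻¹ᵁ V').ι ≫ g' := Scheme.Hom.resLE_comp_ι _ _
  let k₀ := hpb.lift ((f' ⁻¹ᵁ V').ι ≫ g') (overSpec f' hV' ≫ a) (by rw [Category.assoc]; exact hA.w)
  have hk₀ : k₀ = k := by
    rw [← cancel_mono (f ⁻¹ᵁ V).ι, hk]
    exact hpb.lift_fst _ _ _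
  have h₀ : IsPullback k (overSpec f' hV') (overSpec f hV) a := by
    rw [← hk₀]
    exact IsPullback.of_right (by rw [hpb.lift_fst]; exact hA) (hpb.lift_snd _ _ _) hpb
  have hF₀ : Coh.IsQCoh (F.restrict (f ⁻¹ᵁ V).ι) := isQCoh_restrict _ hF
  obtain ⟨L, hL, hLt⟩ := exists_pullMod_bc k h₀ hF₀ U haff hcov p
  let F' := (Scheme.Modules.pullback g').obj F
  have hF' : Coh.IsQCoh F' := isQCoh_pullback g' hF
  letI modH := modHH (Coh.toGlobal ((f ⁻¹ᵁ V : X.Opens).toScheme ↘ Spec (CommRingCat.of A)))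
    (F.restrict (f ⁻¹ᵁ V).ι) p
  letI : Module A Γ((Coh.Rpush f' p).obj F', V') := Module.compHom _ (g.appLE V V' hle).hom
  haveI : IsScalarTower A A' Γ((Coh.Rpush f' p).obj F', V') := .of_algebraMap_smul fun _ _ => rfl
  have hlinE : ∀ (c : A) (x : Coh.HHon X F (f ⁻¹ᵁ V) p),
      E.ε V F p (c • x : Coh.HH _ (F.restrict (f ⁻¹ᵁ V).ι) p) = c • E.ε V F p x := fun c x => by
    refine Eq.trans ?_ (ε_actOn f E V c p F x)
    refine congrArg (E.ε V F p) ?_
    show Sheaf.H.map (Coh.smulAb _ (Coh.toGlobal (overSpec f hV) c)) p x = _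
    rw [toGlobal_overSpec_eq f hV c]
    rfl
  let eE : Coh.HH _ (F.restrict (f ⁻¹ᵁ V).ι) p ≃ₗ[A] Γ((Coh.Rpush f p).obj F, V) :=
    AddEquiv.toLinearEquiv (AddEquiv.ofBijective (E.ε V F p) (bijective_ε_affine f E hF hV p)) hlinE
  let ι₀ := CohPull.pullOnIso g' (f ⁻¹ᵁ V) (f' ⁻¹ᵁ V') hU F
  let T : Coh.HH _ (F.restrict (f ⁻¹ᵁ V).ι) p ⊗[A] A' →+ Γ((Coh.Rpush f' p).obj F', V') :=
    ((E'.ε V' F' p).comp (CohPull.mapH ι₀.hom p)).comp L
  have hb : Function.Bijective ((E'.ε V' F' p).comp (CohPull.mapH ι₀.hom p)) :=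
    (bijective_ε_affine f' E' hF' hV' p).comp (mapH_iso_bijective ι₀ p)
  have hTt : ∀ (x : Coh.HHon X F (f ⁻¹ᵁ V) p) (b : A'),
      T ((show Coh.HH _ (F.restrict (f ⁻¹ᵁ V).ι) p from x) ⊗ₜ[A] b) =
        b • secMap g (B.φ p F) hle (E.ε V F p x) := fun x b => by
    show E'.ε V' F' p (CohPull.mapH ι₀.hom p (L (_ ⊗ₜ b))) = _
    rw [hLt, mapH_smul, secMap_φ f g f' g' w B F p hle x, ← ε_actOn f' E' V' b p F']
    refine congrArg (E'.ε V' F' p) ?_
    show Sheaf.H.map (Coh.smulAb _ (Coh.toGlobal (overSpec f' hV') b)) p _ = _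
    rw [toGlobal_overSpec_eq f' hV' b]
    rfl
  refine ⟨T.comp (eE.symm.rTensor A').toAddEquiv.toAddMonoidHom,
    ⟨(((eE.symm.rTensor A').toEquiv.bijective_comp T).trans (Function.Bijective.of_comp_iff' hb L)).trans hL.1,
      (((eE.symm.rTensor A').toEquiv.surjective_comp T).trans (Function.Surjective.of_comp_iff' hb L)).trans hL.2⟩,
    fun y b => ?_⟩
  show T (eE.symm.rTensor A' (y ⊗ₜ b)) = _
  rw [LinearEquiv.rTensor_tmul]
  refine (hTt (eE.symm y) b).trans ?_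
  exact congrArg (fun z => b • secMap g (B.φ p F) hle z) (eE.apply_symm_apply y)

include B in
/-- The base change map changes base over an affine pair where `T_p(A) ⊗ B → T_p(B)` is bijective. -/
theorem isBCAt_φ [QuasiCompact f] [IsSeparated f] (hsq : IsPullback g' f' f g) {F : X.Modules}
    (hF : Coh.IsQCoh F) (p : ℕ) {V : S.Opens} (hV : IsAffineOpen V) {V' : S'.Opens} (hV' : IsAffineOpen V')
    (hle : V' ≤ g ⁻¹ᵁ V)
    (hmu : letI : ((f ⁻¹ᵁ V : X.Opens) : Scheme.{u}).Over (Spec (CommRingCat.of Γ(S, V))) := ⟨overSpec f hV⟩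
      letI : Algebra Γ(S, V) Γ(S', V') := (g.appLE V V' hle).hom.toAlgebra
      ∀ (κ : Type u) [Finite κ] (U : κ → (f ⁻¹ᵁ V : X.Opens).toScheme.Opens),
        (∀ {q : ℕ} (σ : Fin (q + 1) → κ), IsAffineOpen (⨅ a, U (σ a))) → (⨆ i, U i = ⊤) →
        Function.Bijective (PBC.muT (cechA (A := Γ(S, V)) (F.restrict (f ⁻¹ᵁ V).ι) U) p
          (ModuleCat.of Γ(S, V) Γ(S', V')))) :
    CohBC.IsBCAt g (B.φ p F) V V' hle := by
  obtain ⟨κ, _, U, hcov, haff⟩ := exists_affine_cover_preimage f hV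
  obtain ⟨T, hT', hTt⟩ := exists_secT f g f' g' w B hsq hF p hV hV' hle U haff hcov
  have hT := hT'.1.2 (hmu κ U haff hcov)
  let A : Type u := Γ(S, V)
  let A' : Type u := Γ(S', V')
  letI alg : Algebra A A' := (g.appLE V V' hle).hom.toAlgebra
  let F' := (Scheme.Modules.pullback g').obj F
  letI : Module A Γ((Coh.Rpush f' p).obj F', V') := Module.compHom _ (g.appLE V V' hle).hom
  haveI : IsScalarTower A A' Γ((Coh.Rpush f' p).obj F', V') := .of_algebraMap_smul fun _ _ => rfl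
  intro l hl
  let R₀ : Type u := Γ((Coh.Rpush f p).obj F, V)
  let e₀ : A' ⊗[A] R₀ ≃+ Γ((Coh.Rpush f' p).obj F', V') :=
    (TensorProduct.comm A A' R₀).toAddEquiv.trans (AddEquiv.ofBijective T hT)
  have he₀ : ∀ (b : A') (y : R₀), e₀ (b ⊗ₜ y) = b • l y := fun b y => by
    show T (TensorProduct.comm A A' R₀ (b ⊗ₜ y)) = _
    rw [TensorProduct.comm_tmul, hTt, hl]
  refine IsBaseChange.of_equiv (e₀.toLinearEquiv fun c z => ?_) fun y => ?_
  · induction z using TensorProduct.induction_on with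
    | zero => rw [smul_zero, map_zero, smul_zero]
    | add a b ha hb => rw [smul_add, map_add, ha, hb, map_add, smul_add]
    | tmul b y => rw [TensorProduct.smul_tmul', he₀, he₀, smul_eq_mul, mul_smul]
  · show e₀ (1 ⊗ₜ y) = l y
    rw [he₀, one_smul]

end Square

end Groth.Agent.GenBC
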