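import Groth.Agent.GenBC.Fibre

/-!
# Split differentials and local freeness of higher direct images
-/

set_option autoImplicit false
set_option linter.style.haveILetI false
set_option linter.unusedSectionVars false
set_option backward.isDefEq.respectTransparency false
set_option backward.isDefEq.respectTransparency.types false
set_option maxHeartbeats 2000000
set_option synthInstance.maxHeartbeats 400000

universe u

open CategoryTheory CategoryTheory.Limits AlgebraicGeometry TopologicalSpace Opposite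
open scoped TensorProduct Topology

noncomputable section

namespace Groth.Agent.GenBC

open Groth.Agent Groth.Agent.QCoh

section Restrict

variable {S : Scheme.{u}} {G : S.Modules}

/-- A restriction to an open is locally free if the restriction to a bigger open is free. -/
theorem isFinLocFree_restrict_of_free {O W : S.Opens} (hle : W ≤ O) {n : ℕ}
    (e : G.restrict O.ι ≅ FlatMod.freeMod (O : Scheme.{u}) n) : FlatMod.IsFinLocFree (G.restrict W.ι) :=
  fun x => ⟨⊤, n, trivial, ⟨restrictRestrict G _ W.ι ≪≫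
    (Scheme.Modules.restrictFunctorCongr (show (⊤ : (W : Scheme.{u}).Opens).ι ≫ W.ι =
      ((⊤ : (W : Scheme.{u}).Opens).ι ≫ S.homOfLE hle) ≫ O.ι by
      rw [Category.assoc, Scheme.homOfLE_ι])).app G ≪≫
    (restrictRestrict G _ O.ι).symm ≪≫ (Scheme.Modules.restrictFunctor _).mapIso e ≪≫ freeModRestrict _ n⟩⟩

/-- A locally free restriction is free near each point of the open. -/
theorem exists_free_open {V : S.Opens} (h : FlatMod.IsFinLocFree (G.restrict V.ι)) {s : S} (hs : s ∈ V) :
    ∃ (O : S.Opens) (n : ℕ), s ∈ O ∧ Nonempty (G.restrict O.ι ≅ FlatMod.freeMod (O : Scheme.{u}) n) := by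
  obtain ⟨O, n, hO, ⟨i⟩⟩ := h ⟨s, hs⟩
  refine ⟨V.ι ''ᵁ O, n, ⟨⟨s, hs⟩, hO, rfl⟩, ⟨?_⟩⟩
  exact (Scheme.Modules.restrictFunctorCongr (show (V.ι ''ᵁ O).ι = ((V.ι.isoImage O).inv ≫ O.ι) ≫ V.ι by simp)).app G ≪≫
    (restrictRestrict G ((V.ι.isoImage O).inv ≫ O.ι) V.ι).symm ≪≫
    (restrictRestrict (G.restrict V.ι) (V.ι.isoImage O).inv O.ι).symm ≪≫
    (Scheme.Modules.restrictFunctor (V.ι.isoImage O).inv).mapIso i ≪≫ freeModRestrict _ n

end Restrict

section Chain

variable {A : Type u} [CommRing A] {P : ChainComplex (ModuleCat.{u} A) ℤ}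

theorem next_eq (p : ℤ) : (ComplexShape.down ℤ).next p = p - 1 := by simp

theorem prev_eq (p : ℤ) : (ComplexShape.down ℤ).prev p = p + 1 := by simp

theorem exists_hom_of_eq {q b : ℤ} (hb : b = q - 1) {r : A} (h : SplitAt P q r) :
    ∃ H : P.X b →ₗ[A] P.X q, (P.d q b).hom ∘ₗ H ∘ₗ (P.d q b).hom = r • (P.d q b).hom := by
  subst hb
  exact h

theorem exists_hom_next {p : ℤ} {r : A} (h : SplitAt P p r) :
    ∃ H : P.X ((ComplexShape.down ℤ).next p) →ₗ[A] P.X p,
      (P.d p ((ComplexShape.down ℤ).next p)).hom ∘ₗ H ∘ₗ (P.d p ((ComplexShape.down ℤ).next p)).hom =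
        r • (P.d p ((ComplexShape.down ℤ).next p)).hom := by
  exact exists_hom_of_eq (next_eq p) h

/-- A split differential out of a degree with projective homology gives one into it. -/
theorem splitAt_of_projective (hfree : ∀ i, Module.Free A (P.X i)) {p : ℤ} {r : A} (h : SplitAt P p r)
    [Module.Projective A (CohIII.T P p (ModuleCat.of A A))] : SplitAt P (p + 1) r := by
  obtain ⟨H, hH⟩ := exists_hom_next h
  let e := (P.d p ((ComplexShape.down ℤ).next p)).hom
  let d := (P.d (p + 1) p).hom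
  haveI := hfree p
  let ρ : P.X p →ₗ[A] PBC.cyK P p := (r • LinearMap.id - H ∘ₗ e).codRestrict _ fun x => by
    show e (r • x - H (e x)) = 0
    rw [map_sub, map_smul, show e (H (e x)) = r • e x from DFunLike.congr_fun hH x, sub_self]
  obtain ⟨σ, hσ⟩ := Module.projective_lifting_property (PBC.clsA P p) LinearMap.id (PBC.clsA_surjective P p)
  let π : P.X p →ₗ[A] P.X p := (PBC.cyK P p).subtype ∘ₗ (LinearMap.id - σ ∘ₗ PBC.clsA P p) ∘ₗ ρ
  have hπ : ∀ x, π x ∈ LinearMap.range d := fun x => by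
    obtain ⟨v, hv⟩ := (PBC.clsA_eq_zero' P p (prev_eq p) (z := ρ x - σ (PBC.clsA P p (ρ x)))).1 (by
      rw [map_sub, show PBC.clsA P p (σ (PBC.clsA P p (ρ x))) = PBC.clsA P p (ρ x) from
        DFunLike.congr_fun hσ _, sub_self])
    exact ⟨v, hv⟩
  obtain ⟨τ, hτ⟩ := Module.projective_lifting_property d.rangeRestrict (LinearMap.codRestrict _ π hπ)
    (LinearMap.surjective_rangeRestrict d)
  refine splitAt_of_hom (show p = p + 1 - 1 by omega) τ (LinearMap.ext fun y => ?_)
  have h1 : d (τ (d y)) = π (d y) := congrArg Subtype.val (DFunLike.congr_fun hτ (d y))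
  have hed : e (d y) = 0 := DFunLike.congr_fun (PBC.d_comp_hom (p + 1) p _) y
  have hρ : (ρ (d y) : P.X p) = r • d y := by
    show r • d y - H (e (d y)) = r • d y
    rw [hed, map_zero, sub_zero]
  have hz : PBC.clsA P p (ρ (d y)) = 0 :=
    (PBC.clsA_eq_zero' P p (prev_eq p)).2 ⟨r • y, by rw [hρ]; exact map_smul d r y⟩
  show d (τ (d y)) = r • d y
  rw [h1]
  show ((ρ (d y) - σ (PBC.clsA P p (ρ (d y))) : PBC.cyK P p) : P.X p) = r • d y
  rw [hz, map_zero, sub_zero, hρ]

/-- Split differentials on both sides make the homology a retract up to a factor. -/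
theorem exists_retract {p : ℤ} {r₀ r₁ : A} (h₀ : SplitAt P p r₀) (h₁ : SplitAt P (p + 1) r₁) :
    ∃ (a : CohIII.T P p (ModuleCat.of A A) →ₗ[A] P.X p) (b : P.X p →ₗ[A] CohIII.T P p (ModuleCat.of A A)),
      b ∘ₗ a = (r₀ * r₁) • LinearMap.id := by
  obtain ⟨H, hH⟩ := exists_hom_next h₀
  obtain ⟨H₁, hH₁⟩ := exists_hom_of_eq (show p = p + 1 - 1 by omega) h₁
  exact PBC.exists_retract_T P (p + 1) p (prev_eq p) hH hH₁

/-- The fibre dimension of the cokernel of a split differential is constant on the locus of the factor. -/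
theorem eventually_fibreRank_coker (hfin : ∀ i, Module.Finite A (P.X i)) (hfree : ∀ i, Module.Free A (P.X i))
    {q : ℤ} {r : A} (h : SplitAt P q r) {x : PrimeSpectrum A} (hx : x ∈ PrimeSpectrum.basicOpen r) :
    ∀ᶠ y in 𝓝 x, FlatCxLib.fibreRank (FlatCxLib.Coker P q (q - 1)) y =
      FlatCxLib.fibreRank (FlatCxLib.Coker P q (q - 1)) x := by
  obtain ⟨H, hH⟩ := h
  let d := (P.d q (q - 1)).hom
  let B := Localization.Away r
  let C := FlatCxLib.Coker P q (q - 1)
  haveI := hfin (q - 1); haveI := hfree (q - 1)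
  let s : C →ₗ[A] P.X (q - 1) := (LinearMap.range d).liftQ (r • LinearMap.id - d ∘ₗ H) (by
    rintro _ ⟨y, rfl⟩
    show r • d y - d (H (d y)) = 0
    rw [show d (H (d y)) = r • d y from DFunLike.congr_fun hH y, sub_self])
  have hs : ∀ z, (LinearMap.range d).mkQ (s z) = r • z := fun z => by
    obtain ⟨w, rfl⟩ := Submodule.mkQ_surjective _ z
    show (LinearMap.range d).mkQ (r • w - d (H w)) = r • (LinearMap.range d).mkQ w
    rw [map_sub, map_smul, Submodule.mkQ_apply (LinearMap.range d) (d (H w)),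
      (Submodule.Quotient.mk_eq_zero (LinearMap.range d)).2 (LinearMap.mem_range_self d (H w)), sub_zero]
  let v : B := (IsLocalization.Away.algebraMap_isUnit (S := B) r).unit⁻¹.val
  let π : B ⊗[A] P.X (q - 1) →ₗ[B] B ⊗[A] C := v • (LinearMap.range d).mkQ.baseChange B
  have hπ : π ∘ₗ s.baseChange B = LinearMap.id := TensorProduct.AlgebraTensorModule.ext fun z c => by
    show v • (LinearMap.range d).mkQ.baseChange B (s.baseChange B (z ⊗ₜ c)) = z ⊗ₜ[A] c
    rw [LinearMap.baseChange_tmul, LinearMap.baseChange_tmul, hs, TensorProduct.tmul_smul,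
      ← algebraMap_smul B r, smul_smul, IsUnit.val_inv_mul, one_smul]
  haveI : Module.Projective B (B ⊗[A] C) := Module.Projective.of_split _ π hπ
  haveI : Module.Finite B (B ⊗[A] C) := inferInstance
  haveI : Module.FinitePresentation B (B ⊗[A] C) := Module.finitePresentation_of_projective _ _
  have hemb := PrimeSpectrum.localization_away_isOpenEmbedding B r
  obtain ⟨x', rfl⟩ : x ∈ Set.range (PrimeSpectrum.comap (algebraMap A B)) := by
    rw [PrimeSpectrum.localization_away_comap_range B r]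
    exact hx
  rw [← hemb.map_nhds_eq x', Filter.eventually_map]
  filter_upwards [(FlatCxLib.isLocallyConstant_fibreRank (A := B) (B ⊗[A] C)).eventually_eq x'] with y hy
  rw [← FlatCxLib.fibreRank_baseChange, ← FlatCxLib.fibreRank_baseChange]
  exact hy

/-- The fibre dimension of homology is constant near points where both differentials split. -/
theorem eventually_dRank (hfin : ∀ i, Module.Finite A (P.X i)) (hfree : ∀ i, Module.Free A (P.X i))
    {q : ℤ} {r₀ r₁ : A} (h₀ : SplitAt P q r₀) (h₁ : SplitAt P (q + 1) r₁) {x : PrimeSpectrum A}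
    (hx : x ∈ PrimeSpectrum.basicOpen (r₀ * r₁)) :
    ∀ᶠ y in 𝓝 x, CohIII.dRank P q y = CohIII.dRank P q x := by
  haveI := hfin (q - 1); haveI := hfree (q - 1)
  haveI : Module.FinitePresentation A (P.X (q - 1)) := Module.finitePresentation_of_projective _ _
  rw [PrimeSpectrum.basicOpen_mul] at hx
  have e := FlatCxLib.dRank_add P hfin (show q + 1 = q + 1 from rfl) (show q - 1 + 1 = q by omega)
  have h1 := eventually_fibreRank_coker hfin hfree h₁ hx.2
  rw [add_sub_cancel_right] at h1
  filter_upwards [(FlatCxLib.isLocallyConstant_fibreRank (P.X (q - 1))).eventually_eq x, h1,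
    eventually_fibreRank_coker hfin hfree h₀ hx.1] with y a b c
  have := e x
  have := e y
  omega

end Chain

section Reduced

variable {A : Type u} [CommRing A] [_root_.IsReduced A] {P : ChainComplex (ModuleCat.{u} A) ℤ}

/-- A differential with projective cokernel splits. -/
theorem splitAt_of_projective_coker (hfree : ∀ i, Module.Free A (P.X i)) {q : ℤ}
    [Module.Projective A (FlatCxLib.Coker P q (q - 1))] : SplitAt P q 1 := by
  let d := (P.d q (q - 1)).hom
  let π := (LinearMap.range d).mkQ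
  obtain ⟨σ, hσ⟩ := Module.projective_lifting_property π LinearMap.id (Submodule.mkQ_surjective _)
  haveI := hfree (q - 1)
  let p : P.X (q - 1) →ₗ[A] P.X (q - 1) := LinearMap.id - σ ∘ₗ π
  have hp : ∀ x, p x ∈ LinearMap.range d := fun x => (Submodule.Quotient.mk_eq_zero (LinearMap.range d)).1 (by
    show π (x - σ (π x)) = 0
    rw [map_sub, show π (σ (π x)) = π x from DFunLike.congr_fun hσ _, sub_self])
  obtain ⟨H, hH⟩ := Module.projective_lifting_property d.rangeRestrict (LinearMap.codRestrict _ p hp)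
    (LinearMap.surjective_rangeRestrict d)
  refine ⟨H, LinearMap.ext fun y => ?_⟩
  show d (H (d y)) = (1 : A) • d y
  rw [one_smul, show d (H (d y)) = p (d y) from congrArg Subtype.val (DFunLike.congr_fun hH (d y))]
  show d y - σ (π (d y)) = d y
  rw [show π (d y) = 0 from (Submodule.Quotient.mk_eq_zero (LinearMap.range d)).2 ⟨y, rfl⟩, map_zero, sub_zero]

/-- Over a reduced ring constant fibre homology splits both adjacent differentials. -/
theorem splitAt_of_isLocallyConstant (hfin : ∀ i, Module.Finite A (P.X i)) (hfree : ∀ i, Module.Free A (P.X i))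
    {q : ℤ} (h : IsLocallyConstant (CohIII.dRank P q)) : SplitAt P q 1 ∧ SplitAt P (q + 1) 1 := by
  haveI : ∀ i, Module.Finite A (P.X i) := hfin
  haveI : ∀ i, Module.Free A (P.X i) := hfree
  haveI : ∀ i, Module.FinitePresentation A (P.X i) := fun i => Module.finitePresentation_of_projective _ _
  have e := FlatCxLib.dRank_add P hfin (show q + 1 = q + 1 from rfl) (show q - 1 + 1 = q by omega)
  have hc : ∀ x : PrimeSpectrum A, ∀ᶠ y in 𝓝 x,
      FlatCxLib.fibreRank (FlatCxLib.Coker P (q + 1) q) y = FlatCxLib.fibreRank (FlatCxLib.Coker P (q + 1) q) x ∧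
      FlatCxLib.fibreRank (FlatCxLib.Coker P q (q - 1)) y = FlatCxLib.fibreRank (FlatCxLib.Coker P q (q - 1)) x := by
    intro x
    filter_upwards [h.eventually_eq x, (FlatCxLib.isLocallyConstant_fibreRank (P.X (q - 1))).eventually_eq x,
      FlatCxLib.upperSemicontinuous_fibreRank (A := A) (FlatCxLib.Coker P (q + 1) q) x _ (Nat.lt_succ_self _),
      FlatCxLib.upperSemicontinuous_fibreRank (A := A) (FlatCxLib.Coker P q (q - 1)) x _ (Nat.lt_succ_self _)] with y a b c d
    have := e x
    have := e y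
    omega
  have hproj : ∀ a b : ℤ, IsLocallyConstant (FlatCxLib.fibreRank (A := A) (FlatCxLib.Coker P a b)) →
      Module.Projective A (FlatCxLib.Coker P a b) := fun a b hl => by
    haveI := FlatCxLib.flat_of_isLocallyConstant_fibreRank _ hl
    haveI : Module.FinitePresentation A (FlatCxLib.Coker P a b) :=
      Module.finitePresentation_of_surjective _ (Submodule.mkQ_surjective _) (by
        rw [Submodule.ker_mkQ, ← Submodule.map_top]
        exact Submodule.FG.map _ Module.Finite.fg_top)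
    exact Module.Flat.projective_of_finitePresentation
  constructor
  · haveI := hproj q (q - 1) ((IsLocallyConstant.iff_eventually_eq _).2 fun x => (hc x).mono fun _ hy => hy.2)
    exact splitAt_of_projective_coker hfree
  · haveI : Module.Projective A (FlatCxLib.Coker P (q + 1) (q + 1 - 1)) := by
      rw [show q + 1 - 1 = q by omega]
      exact hproj (q + 1) q ((IsLocallyConstant.iff_eventually_eq _).2 fun x => (hc x).mono fun _ hy => hy.1)
    exact splitAt_of_projective_coker hfree

end Reduced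

section Geometry

variable {X S : Scheme.{u}} (f : X ⟶ S) [IsProper f] [LocallyOfFinitePresentation f] {F : X.Modules}

/-- Higher direct images are free near points where both differentials of a model split. -/
theorem exists_free_of_split [HasInjectiveResolutions X.Modules] (hF : CohB1.IsFP F) (p : ℕ) {V : S.Opens}
    (hV : IsAffineOpen V) {P : ChainComplex (ModuleCat.{u} Γ(S, V)) ℤ} (hP : IsModelOn f F hV P)
    {r₀ r₁ : Γ(S, V)} (h₀ : SplitAt P (-(p : ℤ)) r₀) (h₁ : SplitAt P (-(p : ℤ) + 1) r₁) {s : S}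
    (hs : s ∈ S.basicOpen (r₀ * r₁)) :
    ∃ (O : S.Opens) (n : ℕ), s ∈ O ∧
      Nonempty (((Coh.Rpush f p).obj F).restrict O.ι ≅ FlatMod.freeMod (O : Scheme.{u}) n) := by
  obtain ⟨a, b, hab⟩ := exists_retract h₀ h₁
  obtain ⟨ε⟩ := PBC.nonempty_sections_natModel f hF hV hP p
  haveI : Module.Finite Γ(S, V) (P.X (-(p : ℤ))) := hP.1 _
  haveI : Module.Free Γ(S, V) (P.X (-(p : ℤ))) := hP.2.1 _
  exact PBC.exists_free_nhd_of_retract (QCoh.isQCoh_Rpush f (QCoh.isQCoh_of_isFP hF) p) hV (r₀ * r₁)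
    (a ∘ₗ ε.toLinearMap) (ε.symm.toLinearMap ∘ₗ b) (LinearMap.ext fun x => ε.injective (by
      show ε (ε.symm (b (a (ε x)))) = ε ((r₀ * r₁) • x)
      rw [LinearEquiv.apply_symm_apply, map_smul]
      exact DFunLike.congr_fun hab (ε x))) s hs

/-- Over an affine open on which a higher direct image is free, its model has projective homology. -/
theorem projective_T_of_free [HasInjectiveResolutions X.Modules] (hF : CohB1.IsFP F) (p : ℕ) {V : S.Opens}
    (hV : IsAffineOpen V) {P : ChainComplex (ModuleCat.{u} Γ(S, V)) ℤ} (hP : IsModelOn f F hV P) {O : S.Opens}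
    (hle : V ≤ O) {n : ℕ} (e : ((Coh.Rpush f p).obj F).restrict O.ι ≅ FlatMod.freeMod (O : Scheme.{u}) n) :
    Module.Projective Γ(S, V) (CohIII.T P (-(p : ℤ)) (ModuleCat.of Γ(S, V) Γ(S, V))) := by
  obtain ⟨ε⟩ := PBC.nonempty_sections_natModel f hF hV hP p
  obtain ⟨l⟩ := QCoh.free_sections hV hle e
  exact Module.Projective.of_equiv (l.symm.trans ε)

/-- Fibre dimensions through a model. -/
theorem fiberRank_eq_dRank (hF : Coh.IsQCoh F) (p : ℕ) {V : S.Opens} (hV : IsAffineOpen V)
    {P : ChainComplex (ModuleCat.{u} Γ(S, V)) ℤ} (hP : IsModelOn f F hV P) {y : S} (hy : y ∈ V) :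
    CohIII.fiberRank f F p y = CohIII.dRank P (-(p : ℤ)) (hV.primeIdealOf ⟨y, hy⟩) ∧
      Module.Finite (S.residueField y) (CohIII.fiberH f F y p) := by
  letI : ((f ⁻¹ᵁ V : X.Opens) : Scheme.{u}).Over (Spec (CommRingCat.of Γ(S, V))) := ⟨overSpec f hV⟩
  haveI : IsProper (((f ⁻¹ᵁ V : X.Opens) : Scheme.{u}) ↘ Spec (CommRingCat.of Γ(S, V))) :=
    (PBC.proper_overSpec f hV).1
  haveI : CompactSpace ((f ⁻¹ᵁ V : X.Opens) : Scheme.{u}) :=
    QuasiCompact.compactSpace_of_compactSpace (((f ⁻¹ᵁ V : X.Opens) : Scheme.{u}) ↘ Spec (CommRingCat.of Γ(S, V)))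
  haveI : ((f ⁻¹ᵁ V : X.Opens) : Scheme.{u}).IsSeparated := ⟨by
    rw [← Limits.terminal.comp_from (((f ⁻¹ᵁ V : X.Opens) : Scheme.{u}) ↘ Spec (CommRingCat.of Γ(S, V)))]
    infer_instance⟩
  let φ := evalV y hy
  have hpb := isPullback_overSpec (f := f) hV
  have hφ : Spec.map (CommRingCat.ofHom φ) ≫ hV.fromSpec = S.fromSpecResidueField y := by
    show Spec.map (S.presheaf.germ V y hy ≫ S.residue y) ≫ _ = _
    rw [Spec.map_comp, Category.assoc, Scheme.fromSpecResidueField]
    exact congrArg (Spec.map (S.residue y) ≫ ·) (hV.fromSpecStalk_eq_fromSpecStalk hy)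
  have hbig : IsPullback (f.fiberι y) (f.fiberToSpecResidueField y) f
      (Spec.map (CommRingCat.ofHom φ) ≫ hV.fromSpec) := by
    rw [hφ]; exact IsPullback.of_hasPullback _ _
  let g : f.fiber y ⟶ (f ⁻¹ᵁ V : Scheme.{u}) :=
    hpb.lift (f.fiberι y) (f.fiberToSpecResidueField y ≫ Spec.map (CommRingCat.ofHom φ))
      (by rw [Category.assoc]; exact hbig.w)
  have hg : g ≫ (f ⁻¹ᵁ V).ι = f.fiberι y := hpb.lift_fst _ _ _
  have hsq : IsPullback g (f.fiberToSpecResidueField y) (overSpec f hV) (Spec.map (CommRingCat.ofHom φ)) :=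
    IsPullback.of_right (by rw [hg]; exact hbig) (hpb.lift_snd _ _ _) hpb
  letI : (f.fiber y).Over (Spec (CommRingCat.of (S.residueField y : Type u))) := ⟨f.fiberToSpecResidueField y⟩
  obtain ⟨l⟩ := bcCx_isBCModel_aux (QCoh.isQCoh_pullback _ hF) P hP.2.2.2 φ g hsq p
  let eF : (Scheme.Modules.pullback g).obj ((Scheme.Modules.pullback (f ⁻¹ᵁ V).ι).obj F) ≅ CohIII.fiberMod f F y :=
    (Scheme.Modules.pullbackComp g _).app F ≪≫ (Scheme.Modules.pullbackCongr hg).app F
  let e : CohIII.fiberH f F y p ≃ₗ[S.residueField y] ((CohIII.bcCx φ P).homology (-(p : ℤ))) :=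
    (HHcongr (A := S.residueField y)
      (Coh.toGlobal (A := S.residueField y) (f.fiberToSpecResidueField y)) eF p).symm.trans l
  haveI := finite_homology_bc φ P hP.1 (-(p : ℤ))
  exact ⟨(LinearEquiv.finrank_eq e).trans (finrank_bc_eq_dRank φ P _ (ker_evalV hV hy) _),
    Module.Finite.equiv e.symm⟩

/-- The fibre dimension is constant near points where both differentials of a model split. -/
theorem eventually_fiberRank (hF : Coh.IsQCoh F) (p : ℕ) {V : S.Opens} (hV : IsAffineOpen V)
    {P : ChainComplex (ModuleCat.{u} Γ(S, V)) ℤ} (hP : IsModelOn f F hV P) {r₀ r₁ : Γ(S, V)}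
    (h₀ : SplitAt P (-(p : ℤ)) r₀) (h₁ : SplitAt P (-(p : ℤ) + 1) r₁) {y : S}
    (hy : y ∈ S.basicOpen (r₀ * r₁)) :
    ∀ᶠ z in 𝓝 y, CohIII.fiberRank f F p z = CohIII.fiberRank f F p y := by
  have hyV : y ∈ V := S.basicOpen_le _ hy
  have hc : Continuous fun z : V => hV.primeIdealOf z := by
    unfold IsAffineOpen.primeIdealOf
    exact hV.isoSpec.hom.continuous
  have hx : hV.primeIdealOf ⟨y, hyV⟩ ∈ PrimeSpectrum.basicOpen (r₀ * r₁) :=
    (PrimeSpectrum.mem_basicOpen _ _).2 ((QCoh.mem_basicOpen_iff_notMem hV hyV _).1 hy)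
  have h := (hc.tendsto ⟨y, hyV⟩).eventually (eventually_dRank hP.1 hP.2.1 h₀ h₁ hx)
  rw [← map_nhds_subtype_val (s := (V : Set S)) ⟨y, hyV⟩ |>.trans (nhdsWithin_eq_nhds.2 (V.isOpen.mem_nhds hyV)),
    Filter.eventually_map]
  filter_upwards [h] with z hz
  rw [(fiberRank_eq_dRank f hF p hV hP z.2).1, (fiberRank_eq_dRank f hF p hV hP hyV).1]
  exact hz

end Geometry

end Groth.Agent.GenBC
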