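import Groth.Agent.GenBC.RankStratum

/-!
# The rank of a free higher direct image in a degree followed by a vanishing one
-/

set_option autoImplicit false
set_option linter.style.haveILetI false
set_option linter.unusedSectionVars false
set_option backward.isDefEq.respectTransparency false
set_option backward.isDefEq.respectTransparency.types false
set_option maxHeartbeats 2000000

universe u

open CategoryTheory CategoryTheory.Limits AlgebraicGeometry TopologicalSpace Opposite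
open scoped TensorProduct

noncomputable section

namespace Groth.Agent.GenBC.FreeRank

open Groth.Agent Groth.Agent.QCoh

section Alg

variable {A : Type u} [CommRing A] {P : ChainComplex (ModuleCat.{u} A) ℤ}

/-- A free homology module with flat outgoing cokernel gives fibres of the same dimension. -/
theorem dRank_eq_of_free (hfree : ∀ i, Module.Free A (P.X i)) {q p r : ℤ} (hqp : q + 1 = p) (hrq : r + 1 = q)
    [Module.Flat A (FlatCxLib.Coker P q r)]
    {n : ℕ} (e : CohIII.T P q (ModuleCat.of A A) ≃ₗ[A] (ULift.{u} (Fin n) →₀ A)) (x : PrimeSpectrum A) :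
    CohIII.dRank P q x = n := by
  haveI := hfree
  haveI : Nontrivial A := ⟨⟨0, 1, fun h => x.isPrime.ne_top (x.asIdeal.eq_top_iff_one.2 (h ▸ zero_mem _))⟩⟩
  rw [FlatCxLib.dRank_eq_fibreRank P (fun i => inferInstance) hqp hrq]
  let l : FlatCxLib.Hom' P p q r ≃ₗ[A] (ULift.{u} (Fin n) →₀ A) := (FlatCxLib.hom'EquivT hqp hrq).trans e
  haveI : Module.Free A (FlatCxLib.Hom' P p q r) := Module.Free.of_equiv l.symm
  refine Module.finrank_baseChange.trans (l.finrank_eq.trans ?_)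
  simp

end Alg

variable {X S : Scheme.{u}} (f : X ⟶ S) [IsProper f] [LocallyOfFinitePresentation f] {F : X.Modules}

/-- A vanishing fibre cohomology group splits the differentials of any given model nearby. -/
theorem split_of_fiberH (hF : CohB1.IsFP F) {V : S.Opens} (hV : IsAffineOpen V)
    {P : ChainComplex (ModuleCat.{u} Γ(S, V)) ℤ} (hP : IsModelOn f F hV P) {s : S} (hsV : s ∈ V) (p : ℕ)
    (h : Subsingleton (CohIII.fiberH f F s p)) :
    ∃ r : Γ(S, V), r ∉ (hV.primeIdealOf ⟨s, hsV⟩).asIdeal ∧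
      SplitAt P (-(p : ℤ)) r ∧ SplitAt P (-(p : ℤ) + 1) r := by
  letI : ((f ⁻¹ᵁ V : X.Opens) : Scheme.{u}).Over (Spec (CommRingCat.of Γ(S, V))) := ⟨overSpec f hV⟩
  haveI : IsProper (((f ⁻¹ᵁ V : X.Opens) : Scheme.{u}) ↘ Spec (CommRingCat.of Γ(S, V))) :=
    (PBC.proper_overSpec f hV).1
  haveI : CompactSpace ((f ⁻¹ᵁ V : X.Opens) : Scheme.{u}) :=
    QuasiCompact.compactSpace_of_compactSpace (((f ⁻¹ᵁ V : X.Opens) : Scheme.{u}) ↘ Spec (CommRingCat.of Γ(S, V)))
  haveI : ((f ⁻¹ᵁ V : X.Opens) : Scheme.{u}).IsSeparated := ⟨by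
    rw [← Limits.terminal.comp_from (((f ⁻¹ᵁ V : X.Opens) : Scheme.{u}) ↘ Spec (CommRingCat.of Γ(S, V)))]
    infer_instance⟩
  obtain ⟨g₀, p₀, h₀, hg₀, -⟩ := PBC.exists_fibre_square f hF hV hsV
  let 𝔭 := (hV.primeIdealOf ⟨s, hsV⟩).asIdeal
  letI : (f.fiber s).Over (Spec (CommRingCat.of 𝔭.ResidueField)) := ⟨p₀⟩
  obtain ⟨l⟩ := bcCx_isBCModel_aux (QCoh.isQCoh_pullback _ (QCoh.isQCoh_of_isFP hF)) P hP.2.2.2
    (algebraMap Γ(S, V) 𝔭.ResidueField) g₀ h₀ p
  let e : (Scheme.Modules.pullback g₀).obj ((Scheme.Modules.pullback (f ⁻¹ᵁ V).ι).obj F) ≅ CohIII.fiberMod f F s :=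
    (Scheme.Modules.pullbackComp g₀ _).app F ≪≫ (Scheme.Modules.pullbackCongr hg₀).app F
  haveI := h
  haveI : Subsingleton (Coh.HH (f.fiber s) ((Scheme.Modules.pullback g₀).obj
      ((Scheme.Modules.pullback (f ⁻¹ᵁ V).ι).obj F)) p) :=
    (HHcongr (Coh.toGlobal (A := S.residueField s) (f.fiberToSpecResidueField s)) e p).toEquiv.subsingleton
  haveI : Subsingleton ((CohIII.bcCx (algebraMap Γ(S, V) 𝔭.ResidueField) P).homology (-(p : ℤ))) :=
    l.symm.toEquiv.subsingleton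
  exact exists_splitAt_of_exactAt hP.1 hP.2.1 (-(p : ℤ)) 𝔭
    ((HomologicalComplex.exactAt_iff_isZero_homology _ _).2 (ModuleCat.isZero_of_subsingleton _))

/-- Where `H^{p+1}` of the fibres vanishes, the rank of a free `R^p f_*F` is `h^p` of the fibre. -/
theorem fiberRank_eq_of_free [HasInjectiveResolutions X.Modules] (hF : CohB1.IsFP F)
    (hfl : FlatMod.IsFlatOver f F) (p : ℕ) (h : ∀ y : S, Subsingleton (CohIII.fiberH f F y (p + 1)))
    {O : S.Opens} {n : ℕ}
    (e : ((Coh.Rpush f p).obj F).restrict O.ι ≅ FlatMod.freeMod (O : Scheme.{u}) n)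
    {t : S} (ht : t ∈ O) : CohIII.fiberRank f F p t = n := by
  obtain ⟨_, ⟨V, hV, rfl⟩, htV, hle⟩ := S.isBasis_affineOpens.exists_subset_of_mem_open ht O.2
  have hV' : IsAffineOpen V := hV
  obtain ⟨P, hP⟩ := exists_isModelOn f F hF hfl hV'
  have hs : SplitAt P (-(p : ℤ)) 1 := RankStratum.splitAt_of_locally fun 𝔭 _ => by
    obtain ⟨y, hy, he⟩ := QCoh.exists_point_fromSpec hV' ⟨𝔭, ‹_›⟩
    obtain ⟨r, hr, -, h₂⟩ := split_of_fiberH f hF hV' hP hy (p + 1) (h y)
    refine ⟨r, fun hm => hr (by rw [he]; exact hm), ?_⟩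
    rw [show -(p : ℤ) = -((p + 1 : ℕ) : ℤ) + 1 by push_cast; ring]
    exact h₂
  haveI := RankStratum.flat_coker_of_splitAt hP.2.1 (show -(p : ℤ) - 1 = -(p : ℤ) - 1 from rfl) hs
  obtain ⟨ε⟩ := PBC.nonempty_sections_natModel f hF hV' hP p
  obtain ⟨l⟩ := QCoh.free_sections hV' hle e
  rw [(fiberRank_eq_dRank f (QCoh.isQCoh_of_isFP hF) p hV' hP htV).1]
  exact dRank_eq_of_free hP.2.1 (p := -(p : ℤ) + 1) (r := -(p : ℤ) - 1) rfl (by ring) (ε.symm.trans l) _

/-- The rank of a locally free top direct image. -/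
theorem isFinLocFreeOfRank [HasInjectiveResolutions X.Modules] (hF : CohB1.IsFP F)
    (hfl : FlatMod.IsFlatOver f F) (p : ℕ) (h : ∀ y : S, Subsingleton (CohIII.fiberH f F y (p + 1)))
    (hlf : FlatMod.IsFinLocFree ((Coh.Rpush f p).obj F)) {r : ℕ}
    (hr : ∀ y : S, CohIII.fiberRank f F p y = r) :
    FlatMod.IsFinLocFreeOfRank r ((Coh.Rpush f p).obj F) := fun s => by
  obtain ⟨O, n, hsO, ⟨e⟩⟩ := hlf s
  obtain rfl : n = r := (fiberRank_eq_of_free f hF hfl p h e hsO).symm.trans (hr s)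
  exact ⟨O, hsO, ⟨e⟩⟩

end Groth.Agent.GenBC.FreeRank
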