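import Groth.Agent.GenBC.Basic

/-!
# Maps on cohomology of abelian sheaves along a map of sheaves over a continuous map
-/

set_option autoImplicit false
set_option linter.style.haveILetI false
set_option backward.isDefEq.respectTransparency false
set_option backward.isDefEq.respectTransparency.types false
set_option maxHeartbeats 1000000

universe u

open CategoryTheory CategoryTheory.Limits CategoryTheory.Abelian TopologicalSpace Opposite

noncomputable section

namespace Groth.Agent.GenBC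

variable {X Y Z : TopCat.{u}}

/-- `H^p(Y, M) → H^p(X, N)` along an `f`-map `η : M → f_* N`. -/
def Hmap (f : X ⟶ Y) {M : CohTop.Ab Y} {N : CohTop.Ab X} (η : M ⟶ (CohTop.push f).obj N) (p : ℕ) :
    Sheaf.H M p →+ Sheaf.H N p :=
  (Sheaf.H.map (((CohPull.invPushAdj f).homEquiv M N).symm η) p).comp (CohPull.pullAb f M p)

theorem Hmap_def (f : X ⟶ Y) {M : CohTop.Ab Y} {N : CohTop.Ab X} (η : M ⟶ (CohTop.push f).obj N) (p : ℕ)
    (x : Sheaf.H M p) : Hmap f η p x =
      Sheaf.H.map (((CohPull.invPushAdj f).homEquiv M N).symm η) p (CohPull.pullAb f M p x) := rfl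

theorem Hmap_pre (f : X ⟶ Y) {L M : CohTop.Ab Y} {N : CohTop.Ab X} (φ : L ⟶ M)
    (η : M ⟶ (CohTop.push f).obj N) (p : ℕ) (x : Sheaf.H L p) :
    Hmap f η p (Sheaf.H.map φ p x) = Hmap f (φ ≫ η) p x := by
  rw [Hmap_def, Hmap_def, pullAb_natural, ← Sheaf.H.map_comp_apply, Adjunction.homEquiv_naturality_left_symm]

theorem Hmap_post (f : X ⟶ Y) {M : CohTop.Ab Y} {N N' : CohTop.Ab X} (η : M ⟶ (CohTop.push f).obj N)
    (ψ : N ⟶ N') (p : ℕ) (x : Sheaf.H M p) :
    Sheaf.H.map ψ p (Hmap f η p x) = Hmap f (η ≫ (CohTop.push f).map ψ) p x := by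
  rw [Hmap_def, Hmap_def, ← Sheaf.H.map_comp_apply, Adjunction.homEquiv_naturality_right_symm]

theorem Hmap_square (f : X ⟶ Y) {M M' : CohTop.Ab Y} {N N' : CohTop.Ab X} (φ : M ⟶ M')
    (η : M ⟶ (CohTop.push f).obj N) (η' : M' ⟶ (CohTop.push f).obj N') (ψ : N ⟶ N')
    (h : φ ≫ η' = η ≫ (CohTop.push f).map ψ) (p : ℕ) (x : Sheaf.H M p) :
    Hmap f η' p (Sheaf.H.map φ p x) = Sheaf.H.map ψ p (Hmap f η p x) := by
  rw [Hmap_pre, Hmap_post, h]

theorem Hmap_extδ (f : X ⟶ Y) {S : ShortComplex (CohTop.Ab Y)} (hS : S.ShortExact)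
    {T : ShortComplex (CohTop.Ab X)} (hT : T.ShortExact) (η₁ : S.X₁ ⟶ (CohTop.push f).obj T.X₁)
    (η₂ : S.X₂ ⟶ (CohTop.push f).obj T.X₂) (η₃ : S.X₃ ⟶ (CohTop.push f).obj T.X₃)
    (h₁ : S.f ≫ η₂ = η₁ ≫ (CohTop.push f).map T.f) (h₂ : S.g ≫ η₃ = η₂ ≫ (CohTop.push f).map T.g)
    (p : ℕ) (x : Sheaf.H S.X₃ p) :
    Hmap f η₁ (p + 1) (hS.extClass.postcomp _ rfl x) = hT.extClass.postcomp _ rfl (Hmap f η₃ p x) := by
  let adj := CohPull.invPushAdj f
  let Φ : S.map (CohPull.inv f) ⟶ T :=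
    ⟨(adj.homEquiv _ _).symm η₁, (adj.homEquiv _ _).symm η₂, (adj.homEquiv _ _).symm η₃,
      ((adj.homEquiv_naturality_left_symm S.f η₂).symm.trans
        ((congrArg (adj.homEquiv _ _).symm h₁).trans (adj.homEquiv_naturality_right_symm η₁ T.f))).symm,
      ((adj.homEquiv_naturality_left_symm S.g η₃).symm.trans
        ((congrArg (adj.homEquiv _ _).symm h₂).trans (adj.homEquiv_naturality_right_symm η₂ T.g))).symm⟩
  refine (congrArg (Sheaf.H.map Φ.τ₁ (p + 1)) (pullAb_extδ f hS p x)).trans ?_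
  show (Ext.comp _ (map_inv_shortExact f hS).extClass rfl).comp (Ext.mk₀ Φ.τ₁) (add_zero (p + 1)) =
    (Ext.comp _ (Ext.mk₀ Φ.τ₃) (add_zero p)).comp hT.extClass rfl
  rw [Ext.comp_assoc_of_third_deg_zero, ShortComplex.ShortExact.extClass_naturality (map_inv_shortExact f hS) hT Φ,
    Ext.comp_assoc_of_second_deg_zero]

theorem equiv₀_Hmap (f : X ⟶ Y) {M : CohTop.Ab Y} {N : CohTop.Ab X} (η : M ⟶ (CohTop.push f).obj N)
    (s : Sheaf.H M 0) :
    Sheaf.H.equiv₀ N isTerminalTop (Hmap f η 0 s) = η.hom.app (op ⊤) (Sheaf.H.equiv₀ M isTerminalTop s) := by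
  let adj := CohPull.invPushAdj f
  rw [Hmap_def, ← Sheaf.H.equiv₀_naturality, CohPull.equiv₀_pullAb]
  exact congr($((adj.homEquiv_unit _ _ _).symm.trans ((adj.homEquiv M N).apply_symm_apply η)).hom.app (op ⊤)
    (Sheaf.H.equiv₀ M isTerminalTop s))

/-- Composition of inverse images. -/
def invComp (a : X ⟶ Y) (b : Y ⟶ Z) : CohPull.inv b ⋙ CohPull.inv a ≅ CohPull.inv (a ≫ b) :=
  ((CohPull.invPushAdj b).comp (CohPull.invPushAdj a)).leftAdjointUniq (CohPull.invPushAdj (a ≫ b))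

theorem invComp_unit (a : X ⟶ Y) (b : Y ⟶ Z) (M : CohTop.Ab Z) :
    ((CohPull.invPushAdj b).comp (CohPull.invPushAdj a)).unit.app M ≫
      (CohTop.push (a ≫ b)).map ((invComp a b).hom.app M) = (CohPull.invPushAdj (a ≫ b)).unit.app M :=
  ((CohPull.invPushAdj b).comp (CohPull.invPushAdj a)).unit_leftAdjointUniq_hom_app (CohPull.invPushAdj (a ≫ b)) M

theorem pullAb_comp (a : X ⟶ Y) (b : Y ⟶ Z) : ∀ (p : ℕ) (M : CohTop.Ab Z) (x : Sheaf.H M p),
    CohPull.pullAb (a ≫ b) M p x =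
      Sheaf.H.map ((invComp a b).hom.app M) p (CohPull.pullAb a _ p (CohPull.pullAb b M p x)) := by
  intro p
  induction p with
  | zero =>
    intro M x
    apply (Sheaf.H.equiv₀ ((CohPull.inv (a ≫ b)).obj M) isTerminalTop).injective
    rw [CohPull.equiv₀_pullAb, ← Sheaf.H.equiv₀_naturality]
    refine Eq.trans ?_ (congrArg (fun t => ((invComp a b).hom.app M).hom.app (op ⊤) t)
      ((CohPull.equiv₀_pullAb a _ _).trans (congrArg _ (CohPull.equiv₀_pullAb b M x)))).symm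
    exact (congr($(invComp_unit a b M).hom.app (op ⊤) (Sheaf.H.equiv₀ M isTerminalTop x))).symm
  | succ p ih =>
    intro M x
    let S := ShortComplex.mk (Injective.ι M) (cokernel.π (Injective.ι M)) (cokernel.condition _)
    have hS : S.ShortExact := { exact := ShortComplex.exact_of_g_is_cokernel _ (cokernelIsCokernel _) }
    obtain ⟨y, hy⟩ : ∃ y : Sheaf.H S.X₃ p, y.comp hS.extClass rfl = x :=
      haveI : Injective S.X₂ := inferInstanceAs (Injective (Injective.under M))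
      Ext.covariant_sequence_exact₁ _ hS x (Ext.eq_zero_of_injective _) rfl
    subst hy
    show CohPull.pullAb (a ≫ b) S.X₁ (p + 1) (hS.extClass.postcomp _ rfl y) =
      Sheaf.H.map ((invComp a b).hom.app S.X₁) (p + 1)
        (CohPull.pullAb a _ (p + 1) (CohPull.pullAb b S.X₁ (p + 1) (hS.extClass.postcomp _ rfl y)))
    refine (pullAb_extδ (a ≫ b) hS p y).trans ?_
    refine Eq.trans ?_ (congrArg (Sheaf.H.map ((invComp a b).hom.app S.X₁) (p + 1))
      ((congrArg (CohPull.pullAb a _ (p + 1)) (pullAb_extδ b hS p y)).trans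
        (pullAb_extδ a (map_inv_shortExact b hS) p _))).symm
    refine (congrArg ((map_inv_shortExact (a ≫ b) hS).extClass.postcomp _ rfl) (ih S.X₃ y)).trans ?_
    let Φ : (S.map (CohPull.inv b)).map (CohPull.inv a) ⟶ S.map (CohPull.inv (a ≫ b)) :=
      S.mapNatTrans (invComp a b).hom
    show (Ext.comp (Ext.comp _ (Ext.mk₀ Φ.τ₃) (add_zero p)) (map_inv_shortExact (a ≫ b) hS).extClass rfl :
      Sheaf.H _ (p + 1)) =
      (Ext.comp _ (map_inv_shortExact a (map_inv_shortExact b hS)).extClass rfl).comp (Ext.mk₀ Φ.τ₁) (add_zero (p + 1))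
    rw [Ext.comp_assoc_of_third_deg_zero,
      ShortComplex.ShortExact.extClass_naturality (map_inv_shortExact a (map_inv_shortExact b hS))
        (map_inv_shortExact (a ≫ b) hS) Φ, Ext.comp_assoc_of_second_deg_zero]
    rfl

theorem Hmap_comp (a : X ⟶ Y) (b : Y ⟶ Z) {M : CohTop.Ab Z} {N : CohTop.Ab Y} {L : CohTop.Ab X}
    (η₁ : M ⟶ (CohTop.push b).obj N) (η₂ : N ⟶ (CohTop.push a).obj L) (p : ℕ) (x : Sheaf.H M p) :
    Hmap a η₂ p (Hmap b η₁ p x) = Hmap (a ≫ b) (η₁ ≫ (CohTop.push b).map η₂) p x := by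
  let adjA := CohPull.invPushAdj a
  let adjB := CohPull.invPushAdj b
  let adjC := CohPull.invPushAdj (a ≫ b)
  let α : (CohPull.inv a).obj ((CohPull.inv b).obj M) ⟶ L :=
    (CohPull.inv a).map ((adjB.homEquiv M N).symm η₁) ≫ (adjA.homEquiv N L).symm η₂
  let β : (CohPull.inv (a ≫ b)).obj M ⟶ L := (adjC.homEquiv M L).symm (η₁ ≫ (CohTop.push b).map η₂)
  have key : α = (invComp a b).hom.app M ≫ β := by
    refine ((adjB.comp adjA).homEquiv M L).injective ?_
    refine Eq.trans ?_ ((Adjunction.homEquiv_unit _ _ _ _).trans ((congrArg _ ((CohTop.push (a ≫ b)).map_comp _ _)).trans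
      ((Category.assoc _ _ _).symm.trans ((congrArg (· ≫ _) (invComp_unit a b M)).trans
        ((adjC.homEquiv_unit _ _ _).symm.trans (Equiv.apply_symm_apply _ _)))))).symm
    show adjB.homEquiv _ _ (adjA.homEquiv _ _ α) = _
    rw [adjA.homEquiv_naturality_left, Equiv.apply_symm_apply, adjB.homEquiv_naturality_right, Equiv.apply_symm_apply]
  rw [Hmap_def, Hmap_def, Hmap_def, pullAb_natural, ← Sheaf.H.map_comp_apply, pullAb_comp a b p M x,
    ← Sheaf.H.map_comp_apply]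
  exact congrArg (fun t => Sheaf.H.map t p _) key

theorem Hmap_congr {a b : X ⟶ Y} (hab : a = b) {M : CohTop.Ab Y} {N : CohTop.Ab X}
    (η : M ⟶ (CohTop.push a).obj N) (η' : M ⟶ (CohTop.push b).obj N)
    (h : ∀ (V : Opens Y) (s : M.obj.obj (op V)), η.hom.app (op V) s =
      N.obj.map (eqToHom (by rw [hab] : (Opens.map a).obj V = (Opens.map b).obj V)).op (η'.hom.app (op V) s))
    (p : ℕ) (x : Sheaf.H M p) : Hmap a η p x = Hmap b η' p x := by
  subst hab
  rw [show η = η' by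
    ext V s
    refine (h V.unop s).trans ?_
    simp]

end Groth.Agent.GenBC
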