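import Groth.Agent.FlatCxLib.Exchange
import Groth.Agent.QCoh.FlatFibre
import Mathlib.Algebra.Category.ModuleCat.Products
import Mathlib.CategoryTheory.Limits.Preserves.Shapes.Products

/-!
# Finite free complexes and products
-/

set_option autoImplicit false
set_option linter.style.haveILetI false
set_option backward.isDefEq.respectTransparency false
set_option backward.isDefEq.respectTransparency.types false
set_option maxHeartbeats 1000000

universe u

open CategoryTheory CategoryTheory.Limits
open scoped TensorProduct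

noncomputable section

namespace Groth.Agent.GenBC

variable {A : Type u} [CommRing A]

/-- Tensoring with a finite free module commutes with products. -/
theorem bijective_lTensor_proj {J : Type u} (X : Type u) [AddCommGroup X] [Module A X] [Module.Finite A X]
    [Module.Free A X] (Z : J → Type u) [∀ j, AddCommGroup (Z j)] [∀ j, Module A (Z j)] :
    Function.Bijective fun (t : X ⊗[A] (∀ j, Z j)) (j : J) =>
      (LinearMap.proj j : (∀ j, Z j) →ₗ[A] Z j).lTensor X t := by
  classical
  let b := Module.Free.chooseBasis A X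
  let e := TensorProduct.equivFinsuppOfBasisLeft (N := ∀ j, Z j) b
  let e' := fun j => TensorProduct.equivFinsuppOfBasisLeft (N := Z j) b
  have key : ∀ (t : X ⊗[A] (∀ j, Z j)) (j : J) (i : Module.Free.ChooseBasisIndex A X),
      e' j ((LinearMap.proj j : (∀ j, Z j) →ₗ[A] Z j).lTensor X t) i = e t i j := by
    intro t j i
    induction t using TensorProduct.induction_on with
    | zero => simp
    | add a c ha hc => simp [ha, hc]
    | tmul x z => simp [e, e']
  refine ⟨fun s t hst => e.injective (Finsupp.ext fun i => funext fun j => ?_), fun y => ?_⟩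
  · rw [← key, ← key]
    exact congrArg (fun w => e' j w i) (congrFun hst j)
  · refine ⟨e.symm (Finsupp.equivFunOnFinite.symm fun i j => e' j (y j) i), funext fun j => ?_⟩
    refine (e' j).injective (Finsupp.ext fun i => ?_)
    rw [key, LinearEquiv.apply_symm_apply]
    rfl

/-- A functor preserves a product when it carries the projections to a product. -/
theorem preservesLimit_discrete_of_bijective {J : Type u} (F : ModuleCat.{u} A ⥤ ModuleCat.{u} A)
    (Z : J → ModuleCat.{u} A)
    (h : Function.Bijective fun (x : F.obj (ModuleCat.of A (∀ j, Z j))) (j : J) =>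
      F.map (ModuleCat.ofHom (LinearMap.proj j : (∀ j, Z j) →ₗ[A] Z j)) x) :
    PreservesLimit (Discrete.functor Z) F := by
  refine preservesLimit_of_preserves_limit_cone (ModuleCat.productConeIsLimit Z) ?_
  let L : F.obj (ModuleCat.of A (∀ j, Z j)) →ₗ[A] ∀ j, F.obj (Z j) :=
    LinearMap.pi fun j => (F.map (ModuleCat.ofHom (LinearMap.proj j : (∀ j, Z j) →ₗ[A] Z j))).hom
  let φ : F.obj (ModuleCat.of A (∀ j, Z j)) ≅ ModuleCat.of A (∀ j, F.obj (Z j)) :=
    (LinearEquiv.ofBijective L h).toModuleIso
  refine (IsLimit.postcomposeHomEquiv (Discrete.compNatIsoDiscrete Z F) _).1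
    (IsLimit.ofIsoLimit (ModuleCat.productConeIsLimit fun j => F.obj (Z j)) (Cone.ext φ.symm ?_))
  rintro ⟨j⟩
  refine (Iso.eq_inv_comp φ).2 ?_
  ext x
  rfl

/-- The homology functors of a complex of finite free modules commute with products. -/
theorem preservesLimitsOfShape_tfun (P : ChainComplex (ModuleCat.{u} A) ℤ)
    (hfin : ∀ i, Module.Finite A (P.X i)) (hfree : ∀ i, Module.Free A (P.X i)) (q : ℤ) (J : Type u) :
    PreservesLimitsOfShape (Discrete J) (CohIII.TFun P q) := by
  haveI : ∀ i, Module.Finite A (P.X i) := hfin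
  haveI : ∀ i, Module.Free A (P.X i) := hfree
  haveI : ∀ Z : J → ModuleCat.{u} A, PreservesLimit (Discrete.functor Z) (CohIII.TFun P q) := fun Z => by
    refine preservesLimit_discrete_of_bijective _ Z ?_
    have hi := FlatCxLib.prev_down (show q + 1 = q + 1 from rfl)
    have hk := FlatCxLib.next_down (show q - 1 + 1 = q by omega)
    let pr := fun j => (LinearMap.proj j : (∀ j, Z j) →ₗ[A] Z j)
    let pp := fun i j => (pr j).lTensor (P.X i)
    let N : ModuleCat.{u} A := ModuleCat.of A (∀ j, Z j)
    let K := fun M : ModuleCat.{u} A => CohIII.tensorObj P M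
    have hb : ∀ i, Function.Bijective fun (t : P.X i ⊗[A] N) (j : J) => pp i j t := fun i =>
      bijective_lTensor_proj (P.X i) fun j => Z j
    have hd : ∀ a b j (t : P.X a ⊗[A] N), pp b j ((P.d a b).hom.rTensor N t) = (P.d a b).hom.rTensor (Z j) (pp a j t) :=
      fun a b j t => FlatCxLib.lTensor_rTensor_comm (pr j) (P.d a b).hom t
    have hmap : ∀ j (x : P.X q ⊗[A] N) (hx : (P.d q (q - 1)).hom.rTensor N x = 0),
        (CohIII.TFun P q).map (ModuleCat.ofHom (pr j)) (FlatCxLib.cls (K N) q (q - 1) hk x hx) =
          FlatCxLib.cls (K (Z j)) q (q - 1) hk (pp q j x)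
            (FlatCxLib.cycle_map (CohIII.tensorMap P (ModuleCat.ofHom (pr j))) x hx) :=
      fun j x hx => FlatCxLib.homologyMap_cls (CohIII.tensorMap P (ModuleCat.ofHom (pr j))) hk x hx
    constructor
    · intro a b hab
      rw [← sub_eq_zero]
      have h0 : ∀ j, (CohIII.TFun P q).map (ModuleCat.ofHom (pr j)) (a - b) = 0 := fun j =>
        (map_sub _ a b).trans (sub_eq_zero.2 (congrFun hab j))
      generalize a - b = c at h0 ⊢
      obtain ⟨x, hx, rfl⟩ := FlatCxLib.cls_surjective hk c
      have h1 : ∀ j, ∃ v, (P.d (q + 1) q).hom.rTensor (Z j) v = pp q j x := fun j =>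
        (FlatCxLib.cls_eq_zero_iff hi hk _ _).1 ((hmap j x hx).symm.trans (h0 j))
      choose v hv using h1
      obtain ⟨w, hw⟩ := (hb (q + 1)).2 v
      refine (FlatCxLib.cls_eq_zero_iff hi hk _ _).2 ⟨w, (hb q).1 (funext fun j => ?_)⟩
      show pp q j ((P.d (q + 1) q).hom.rTensor N w) = pp q j x
      exact (hd _ _ j w).trans ((congrArg _ (congrFun hw j)).trans (hv j))
    · intro y
      choose x hx hxy using fun j => FlatCxLib.cls_surjective (K := K (Z j)) hk (y j)
      obtain ⟨w, hw⟩ := (hb q).2 x
      have hw0 : (P.d q (q - 1)).hom.rTensor N w = 0 := (hb (q - 1)).1 (funext fun j => by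
        show pp (q - 1) j ((P.d q (q - 1)).hom.rTensor N w) = pp (q - 1) j 0
        exact (hd _ _ j w).trans ((congrArg _ (congrFun hw j)).trans ((hx j).trans (map_zero _).symm)))
      refine ⟨FlatCxLib.cls (K N) q (q - 1) hk w hw0, funext fun j => (hmap j w hw0).trans ?_⟩
      refine Eq.trans ?_ (hxy j)
      congr 1
      exact congrFun hw j
  exact preservesLimitsOfShape_of_discrete _

end Groth.Agent.GenBC
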