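import Groth.Agent.GenBC.Hmap
import Groth.Agent.ExistEasy.PP.PullSec

/-!
# Pullback and restriction of cohomology classes over opens
-/

set_option autoImplicit false
set_option linter.style.haveILetI false
set_option backward.isDefEq.respectTransparency false
set_option backward.isDefEq.respectTransparency.types false
set_option maxHeartbeats 1000000

universe u

open CategoryTheory CategoryTheory.Limits CategoryTheory.Abelian AlgebraicGeometry TopologicalSpace Opposite

noncomputable section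

namespace Groth.Agent.GenBC

open Groth.Agent Groth.Agent.QCoh

variable {X Y : Scheme.{u}}

theorem restrictIso_app (U : Y.Opens) (F : Y.Modules) (V : U.toScheme.Opens) (t : Γ(F, U.ι ''ᵁ V)) :
    ((Scheme.Modules.restrictFunctorIsoPullback U.ι).hom.app F).app V t =
      pullSec U.ι F (U.ι.preimage_image_eq V).ge t := by
  have hu := (Scheme.Modules.restrictAdjunction U.ι).unit_leftAdjointUniq_hom_app
    (Scheme.Modules.pullbackPushforwardAdjunction U.ι) F
  have h := congrArg (fun φ => Scheme.Modules.Hom.app φ (U.ι ''ᵁ V) t) hu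
  let T : Γ(F.restrict U.ι, U.ι ⁻¹ᵁ (U.ι ''ᵁ V)) := F.presheaf.map (homOfLE (U.ι.image_preimage_le (U.ι ''ᵁ V))).op t
  have h' : ((Scheme.Modules.restrictFunctorIsoPullback U.ι).hom.app F).app (U.ι ⁻¹ᵁ (U.ι ''ᵁ V)) T =
      ((Scheme.Modules.pullbackPushforwardAdjunction U.ι).unit.app F).app (U.ι ''ᵁ V) t := h
  unfold pullSec
  refine Eq.trans ?_ (congrArg _ h')
  refine Eq.trans ?_ (map_app_comm ((Scheme.Modules.restrictFunctorIsoPullback U.ι).hom.app F) (homOfLE (U.ι.preimage_image_eq V).ge) T)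
  refine congrArg _ ?_
  show t = F.presheaf.map (U.ι.opensFunctor.map (homOfLE (U.ι.preimage_image_eq V).ge)).op
    (F.presheaf.map (homOfLE (U.ι.image_preimage_le (U.ι ''ᵁ V))).op t)
  exact ((map_map _ _ _).trans (map_id' _ _)).symm
/-- The unit, on underlying abelian sheaves. -/
def unitAb (k : X ⟶ Y) (M : Y.Modules) :
    (tab Y).obj M ⟶ (CohTop.push k.base).obj ((tab X).obj ((Scheme.Modules.pullback k).obj M)) :=
  (tab Y).map ((Scheme.Modules.pullbackPushforwardAdjunction k).unit.app M)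

theorem pullMod_map (k : X ⟶ Y) (M : Y.Modules) {N : X.Modules} (ψ : (Scheme.Modules.pullback k).obj M ⟶ N)
    (p : ℕ) (x : Coh.HH Y M p) :
    CohPull.mapH ψ p (CohPull.pullMod k M p x) =
      Hmap k.base (unitAb k M ≫ (CohTop.push k.base).map ((tab X).map ψ)) p x :=
  Hmap_post k.base (unitAb k M) ((tab X).map ψ) p x

theorem unitAb_map_app (k : X ⟶ Y) (M : Y.Modules) {N : X.Modules} (ψ : (Scheme.Modules.pullback k).obj M ⟶ N)
    (V : Y.Opens) (t : Γ(M, V)) :
    (unitAb k M ≫ (CohTop.push k.base).map ((tab X).map ψ)).hom.app (op V) t =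
      (show Γ(N, k ⁻¹ᵁ V) from ψ.app (k ⁻¹ᵁ V) (pullSec k M (le_refl (k ⁻¹ᵁ V)) t)) := by
  have e : pullSec k M (le_refl (k ⁻¹ᵁ V)) t =
      ((Scheme.Modules.pullbackPushforwardAdjunction k).unit.app M).app V t := QCoh.map_id' _ _
  rw [e]
  rfl

variable (g : X ⟶ Y) (U : Y.Opens) (U' : X.Opens) (h : U' ≤ g ⁻¹ᵁ U)

/-- The map of sheaves underlying `pullOn`. -/
def pullOnAb (F : Y.Modules) : (tab U).obj (F.restrict U.ι) ⟶
    (CohTop.push (g.resLE U U' h).base).obj ((tab U').obj (((Scheme.Modules.pullback g).obj F).restrict U'.ι)) :=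
  unitAb (g.resLE U U' h) (F.restrict U.ι) ≫
    (CohTop.push (g.resLE U U' h).base).map ((tab U').map (CohPull.pullOnIso g U U' h F).hom)

theorem pullOn_eq (F : Y.Modules) (p : ℕ) (x : Coh.HHon Y F U p) :
    CohPull.pullOn g U U' h F p x = Hmap (g.resLE U U' h).base (pullOnAb g U U' h F) p x :=
  pullMod_map (g.resLE U U' h) (F.restrict U.ι) (CohPull.pullOnIso g U U' h F).hom p x

theorem le_image (V : U.toScheme.Opens) :
    U'.ι ''ᵁ ((g.resLE U U' h) ⁻¹ᵁ V) ≤ g ⁻¹ᵁ (U.ι ''ᵁ V) := by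
  rintro _ ⟨z, hz, rfl⟩
  exact ⟨(g.resLE U U' h).base z, hz, congr($(Scheme.Hom.resLE_comp_ι g h).base z)⟩

theorem pullOnIso_pullSec (F : Y.Modules) (V : U.toScheme.Opens) (t : Γ(F, U.ι ''ᵁ V)) :
    (CohPull.pullOnIso g U U' h F).hom.app ((g.resLE U U' h) ⁻¹ᵁ V)
        (pullSec (g.resLE U U' h) (F.restrict U.ι) le_rfl (show Γ(F.restrict U.ι, V) from t)) =
      (show Γ(((Scheme.Modules.pullback g).obj F).restrict U'.ι, (g.resLE U U' h) ⁻¹ᵁ V) from
        pullSec g F (le_image g U U' h V) t) := by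
  let k := g.resLE U U' h
  let W := k ⁻¹ᵁ V
  let G := (Scheme.Modules.pullback g).obj F
  let e' := (Scheme.Modules.restrictFunctorIsoPullback U'.ι).app G
  let c := (Scheme.Modules.pullbackComp U'.ι g).app F
  show e'.inv.app W (c.inv.app W (((Scheme.Modules.pullbackCongr (Scheme.Hom.resLE_comp_ι g h)).hom.app F).app W
    (((Scheme.Modules.pullbackComp k U.ι).hom.app F).app W
      (((Scheme.Modules.pullback k).map ((Scheme.Modules.restrictFunctorIsoPullback U.ι).hom.app F)).app W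
        (pullSec k (F.restrict U.ι) le_rfl (show Γ(F.restrict U.ι, V) from t)))))) = _
  rw [ExistEasy.pullSec_natural k ((Scheme.Modules.restrictFunctorIsoPullback U.ι).hom.app F) (le_refl (k ⁻¹ᵁ V)),
    restrictIso_app, ExistEasy.pullSec_comp k U.ι F (U.ι.preimage_image_eq V).ge le_rfl, ExistEasy.pullSec_congr]
  let T : Γ(G, U'.ι ''ᵁ W) := pullSec g F (le_image g U U' h V) t
  have h2 : c.inv.app W (pullSec (U'.ι ≫ g) F (show W ≤ (U'.ι ≫ g) ⁻¹ᵁ (U.ι ''ᵁ V) from
      (U'.ι.preimage_image_eq W).ge.trans ((Opens.map U'.ι.base).monotone (le_image g U U' h V))) t) =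
      e'.hom.app W T := by
    refine Eq.trans ?_ (restrictIso_app U' G W T).symm
    refine (congrArg (c.inv.app W)
      (ExistEasy.pullSec_comp U'.ι g F (le_image g U U' h V) (U'.ι.preimage_image_eq W).ge t).symm).trans ?_
    exact congr(Scheme.Modules.Hom.app $(c.hom_inv_id) W
      (pullSec U'.ι G (U'.ι.preimage_image_eq W).ge (pullSec g F (le_image g U U' h V) t)))
  refine (congrArg (e'.inv.app W) h2).trans ?_
  exact congr(Scheme.Modules.Hom.app $(e'.hom_inv_id) W T)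

theorem pullOnAb_app (F : Y.Modules) (V : U.toScheme.Opens) (t : Γ(F, U.ι ''ᵁ V)) :
    ((pullOnAb g U U' h F).hom.app (op V)) t =
      (show Γ(((Scheme.Modules.pullback g).obj F).restrict U'.ι, (g.resLE U U' h) ⁻¹ᵁ V) from
        pullSec g F (le_image g U U' h V) t) :=
  (unitAb_map_app (g.resLE U U' h) (F.restrict U.ι) (CohPull.pullOnIso g U U' h F).hom V t).trans
    (pullOnIso_pullSec g U U' h F V t)

theorem pullOnAb_natural {F G : Y.Modules} (φ : F ⟶ G) :
    (tab U).map ((Scheme.Modules.restrictFunctor U.ι).map φ) ≫ pullOnAb g U U' h G =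
      pullOnAb g U U' h F ≫ (CohTop.push (g.resLE U U' h).base).map ((tab U').map
        ((Scheme.Modules.restrictFunctor U'.ι).map ((Scheme.Modules.pullback g).map φ))) := by
  ext V s
  obtain ⟨V⟩ := V
  show (pullOnAb g U U' h G).hom.app (op V) (φ.app (U.ι ''ᵁ V) s) = _
  rw [pullOnAb_app g U U' h G]
  refine (ExistEasy.pullSec_natural g φ (le_image g U U' h V) s).symm.trans ?_
  exact congrArg (((Scheme.Modules.pullback g).map φ).app (U'.ι ''ᵁ ((g.resLE U U' h) ⁻¹ᵁ V)))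
    (pullOnAb_app g U U' h F V s).symm

theorem pullOn_natural {F G : Y.Modules} (φ : F ⟶ G) (p : ℕ) (x : Coh.HHon Y F U p) :
    CohPull.pullOn g U U' h G p (CohPull.mapH ((Scheme.Modules.restrictFunctor U.ι).map φ) p x) =
      CohPull.mapH ((Scheme.Modules.restrictFunctor U'.ι).map ((Scheme.Modules.pullback g).map φ)) p
        (CohPull.pullOn g U U' h F p x) := by
  rw [pullOn_eq, pullOn_eq]
  exact Hmap_square (g.resLE U U' h).base ((tab U).map ((Scheme.Modules.restrictFunctor U.ι).map φ))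
    (pullOnAb g U U' h F) (pullOnAb g U U' h G)
    ((tab U').map ((Scheme.Modules.restrictFunctor U'.ι).map ((Scheme.Modules.pullback g).map φ)))
    (pullOnAb_natural g U U' h φ) p x

theorem pullOn_extδ {S : ShortComplex Y.Modules} (hS : S.ShortExact)
    (hS' : (S.map (Scheme.Modules.pullback g)).ShortExact) (p : ℕ) (x : Coh.HHon Y S.X₃ U p) :
    CohPull.pullOn g U U' h S.X₁ (p + 1) (CohCmp.extδ (toAbOn_shortExact hS U) p x) =
      CohCmp.extδ (toAbOn_shortExact hS' U') p (CohPull.pullOn g U U' h S.X₃ p x) := by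
  rw [pullOn_eq, pullOn_eq]
  exact Hmap_extδ _ (toAbOn_shortExact hS U) (toAbOn_shortExact hS' U') _ _ _
    (pullOnAb_natural g U U' h S.f) (pullOnAb_natural g U U' h S.g) p x

theorem map_two (M : X.Modules) {A B C D : X.Opens} (i : B ⟶ A) (j : C ⟶ B) (i' : D ⟶ A) (j' : C ⟶ D)
    (t : Γ(M, A)) : M.presheaf.map j.op (M.presheaf.map i.op t) = M.presheaf.map j'.op (M.presheaf.map i'.op t) := by
  rw [map_map, map_map]
  rfl

theorem push_map_app {V' : X.Opens} {T : TopCat.{u}} (k : (V' : Scheme.{u}).toPresheafedSpace.carrier ⟶ T)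
    {M : CohTop.Ab T} {N N' : X.Modules} (η : M ⟶ (CohTop.push k).obj ((tab V').obj (N.restrict V'.ι)))
    (ψ : N ⟶ N') (O : Opens T) (t : M.obj.obj (op O)) :
    (η ≫ (CohTop.push k).map ((tab V').map ((Scheme.Modules.restrictFunctor V'.ι).map ψ))).hom.app (op O) t =
      (show Γ(N'.restrict V'.ι, (Opens.map k).obj O) from
        ψ.app (V'.ι ''ᵁ ((Opens.map k).obj O)) (η.hom.app (op O) t)) :=
  rfl

/-- The map of sheaves underlying `resLE`. -/
def resAb (F : X.Modules) {V V' : X.Opens} (hV : V' ≤ V) : (tab V).obj (F.restrict V.ι) ⟶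
    (CohTop.push ((𝟙 X : X ⟶ X).resLE V V' (by rwa [Scheme.Hom.id_preimage])).base).obj
      ((tab V').obj (F.restrict V'.ι)) :=
  pullOnAb (𝟙 X) V V' (by rwa [Scheme.Hom.id_preimage]) F ≫ (CohTop.push _).map
    ((tab V').map ((Scheme.Modules.restrictFunctor V'.ι).map ((Scheme.Modules.pullbackId X).hom.app F)))

theorem resLE_eq (F : X.Modules) {V V' : X.Opens} (hV : V' ≤ V) (p : ℕ) (x : Coh.HHon X F V p) :
    CohPull.resLE F hV p x =
      Hmap ((𝟙 X : X ⟶ X).resLE V V' (by rwa [Scheme.Hom.id_preimage])).base (resAb F hV) p x :=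
  (congrArg _ (pullOn_eq (𝟙 X) V V' (by rwa [Scheme.Hom.id_preimage]) F p x)).trans
    (Hmap_post _ _ _ p x)

theorem pullbackId_pullSec (F : X.Modules) {O O' : X.Opens} (hle : O' ≤ (𝟙 X : X ⟶ X) ⁻¹ᵁ O) (t : Γ(F, O)) :
    ((Scheme.Modules.pullbackId X).hom.app F).app O' (pullSec (𝟙 X) F hle t) =
      F.presheaf.map (homOfLE (show O' ≤ O from hle)).op t := by
  have h := unit_conjugateEquiv Adjunction.id (Scheme.Modules.pullbackPushforwardAdjunction (𝟙 X))
    (Scheme.Modules.pullbackId X).hom F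
  rw [Scheme.Modules.conjugateEquiv_pullbackId_hom] at h
  refine (map_app_comm ((Scheme.Modules.pullbackId X).hom.app F) (homOfLE hle) _).trans ?_
  exact congrArg (F.presheaf.map (homOfLE (show O' ≤ O from hle)).op) (congr(Scheme.Modules.Hom.app $h O t)).symm

theorem le_image_id {V V' : X.Opens} (hV : V' ≤ V) (O : V.toScheme.Opens) :
    V'.ι ''ᵁ (((𝟙 X : X ⟶ X).resLE V V' (by rwa [Scheme.Hom.id_preimage])) ⁻¹ᵁ O) ≤ V.ι ''ᵁ O :=
  le_image (𝟙 X) V V' (by rwa [Scheme.Hom.id_preimage]) O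

theorem resAb_app (F : X.Modules) {V V' : X.Opens} (hV : V' ≤ V) (O : V.toScheme.Opens) (t : Γ(F, V.ι ''ᵁ O)) :
    (resAb F hV).hom.app (op O) t =
      (show Γ(F.restrict V'.ι, ((𝟙 X : X ⟶ X).resLE V V' (by rwa [Scheme.Hom.id_preimage])) ⁻¹ᵁ O) from
        F.presheaf.map (homOfLE (le_image_id hV O)).op t) :=
  ((push_map_app _ (pullOnAb (𝟙 X) V V' (by rwa [Scheme.Hom.id_preimage]) F)
      ((Scheme.Modules.pullbackId X).hom.app F) O t).trans
    (congrArg (((Scheme.Modules.pullbackId X).hom.app F).app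
      (V'.ι ''ᵁ (((𝟙 X : X ⟶ X).resLE V V' (by rwa [Scheme.Hom.id_preimage])) ⁻¹ᵁ O)))
      (pullOnAb_app (𝟙 X) V V' (by rwa [Scheme.Hom.id_preimage]) F O t))).trans
      (pullbackId_pullSec F (le_image (𝟙 X) V V' (by rwa [Scheme.Hom.id_preimage]) O) t)

theorem resAb_natural {F G : X.Modules} (φ : F ⟶ G) {V V' : X.Opens} (hV : V' ≤ V) :
    (tab V).map ((Scheme.Modules.restrictFunctor V.ι).map φ) ≫ resAb G hV =
      resAb F hV ≫ (CohTop.push _).map ((tab V').map ((Scheme.Modules.restrictFunctor V'.ι).map φ)) := by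
  ext O s
  obtain ⟨O⟩ := O
  show (resAb G hV).hom.app (op O) (φ.app (V.ι ''ᵁ O) s) = _
  rw [resAb_app G hV]
  refine (map_app_comm φ (homOfLE (le_image_id hV O)) s).symm.trans ?_
  exact congrArg (φ.app _) (resAb_app F hV O s).symm

theorem resLE_natural {F G : X.Modules} (φ : F ⟶ G) {V V' : X.Opens} (hV : V' ≤ V) (p : ℕ)
    (x : Coh.HHon X F V p) :
    CohPull.resLE G hV p (CohPull.mapH ((Scheme.Modules.restrictFunctor V.ι).map φ) p x) =
      CohPull.mapH ((Scheme.Modules.restrictFunctor V'.ι).map φ) p (CohPull.resLE F hV p x) := by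
  rw [resLE_eq, resLE_eq]
  refine (Hmap_pre _ ((tab V).map ((Scheme.Modules.restrictFunctor V.ι).map φ)) _ p x).trans
    (Eq.trans ?_ (Hmap_post _ _ ((tab V').map ((Scheme.Modules.restrictFunctor V'.ι).map φ)) p x).symm)
  rw [resAb_natural φ hV]

theorem resLE_extδ {S : ShortComplex X.Modules} (hS : S.ShortExact) {V V' : X.Opens} (hV : V' ≤ V) (p : ℕ)
    (x : Coh.HHon X S.X₃ V p) :
    CohPull.resLE S.X₁ hV (p + 1) (CohCmp.extδ (toAbOn_shortExact hS V) p x) =
      CohCmp.extδ (toAbOn_shortExact hS V') p (CohPull.resLE S.X₃ hV p x) := by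
  rw [resLE_eq, resLE_eq]
  exact Hmap_extδ _ (toAbOn_shortExact hS V) (toAbOn_shortExact hS V') _ _ _ (resAb_natural S.f hV)
    (resAb_natural S.g hV) p x

theorem sectH0_eq (F : X.Modules) (V : X.Opens) (s : Γ(F, V)) :
    Sheaf.H.equiv₀ (Coh.toAb (F.restrict V.ι)) isTerminalTop (CohPull.sectH0 F V s) =
      (show Γ(F.restrict V.ι, ⊤) from F.presheaf.map (eqToHom V.ι_image_top).op s) :=
  AddEquiv.apply_symm_apply (Sheaf.H.equiv₀ (Coh.toAb (F.restrict V.ι)) isTerminalTop) _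

theorem resLE_sectH0 (F : X.Modules) {V V' : X.Opens} (hV : V' ≤ V) (s : Γ(F, V)) :
    CohPull.resLE F hV 0 (CohPull.sectH0 F V s) = CohPull.sectH0 F V' (F.presheaf.map (homOfLE hV).op s) := by
  rw [resLE_eq]
  refine (Sheaf.H.equiv₀ _ isTerminalTop).injective ?_
  rw [equiv₀_Hmap, sectH0_eq, sectH0_eq]
  refine (resAb_app F hV ⊤ _).trans ?_
  exact map_two F _ _ _ _ _

theorem resAb_pullOnAb (F : Y.Modules) (U'' : X.Opens) (h' : U'' ≤ U') (V : U.toScheme.Opens)
    (s : Γ(F, U.ι ''ᵁ V))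
    (e : ((𝟙 X : X ⟶ X).resLE U' U'' (by rwa [Scheme.Hom.id_preimage])) ⁻¹ᵁ ((g.resLE U U' h) ⁻¹ᵁ V) =
      (g.resLE U U'' (h'.trans h)) ⁻¹ᵁ V) :
    (resAb ((Scheme.Modules.pullback g).obj F) h').hom.app (op ((g.resLE U U' h) ⁻¹ᵁ V))
        ((pullOnAb g U U' h F).hom.app (op V) s) =
      (show Γ(((Scheme.Modules.pullback g).obj F).restrict U''.ι, _) from
        ((Scheme.Modules.pullback g).obj F).presheaf.map (U''.ι.opensFunctor.map (eqToHom e)).op
          (show Γ((Scheme.Modules.pullback g).obj F, U''.ι ''ᵁ ((g.resLE U U'' (h'.trans h)) ⁻¹ᵁ V)) from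
            (pullOnAb g U U'' (h'.trans h) F).hom.app (op V) s)) := by
  rw [pullOnAb_app g U U' h F V s, pullOnAb_app g U U'' (h'.trans h) F V s]
  refine (resAb_app ((Scheme.Modules.pullback g).obj F) h' ((g.resLE U U' h) ⁻¹ᵁ V) _).trans ?_
  exact map_two ((Scheme.Modules.pullback g).obj F) _ _ _ _ _

theorem push_comp_app {A B C : TopCat.{u}} (a : A ⟶ B) (b : B ⟶ C) {M : CohTop.Ab C} {N : CohTop.Ab B}
    {L : CohTop.Ab A} (η₁ : M ⟶ (CohTop.push b).obj N) (η₂ : N ⟶ (CohTop.push a).obj L) (V : Opens C)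
    (s : M.obj.obj (op V)) :
    (η₁ ≫ (CohTop.push b).map η₂).hom.app (op V) s =
      η₂.hom.app (op ((Opens.map b).obj V)) (η₁.hom.app (op V) s) :=
  rfl

theorem resLE_pullOn (F : Y.Modules) (U'' : X.Opens) (h' : U'' ≤ U') (p : ℕ) (x : Coh.HHon Y F U p) :
    CohPull.resLE ((Scheme.Modules.pullback g).obj F) h' p (CohPull.pullOn g U U' h F p x) =
      CohPull.pullOn g U U'' (h'.trans h) F p x := by
  rw [resLE_eq, pullOn_eq g U U' h F p x, pullOn_eq g U U'' (h'.trans h) F p x, Hmap_comp]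
  have hcomp : (𝟙 X : X ⟶ X).resLE U' U'' (by rwa [Scheme.Hom.id_preimage]) ≫ g.resLE U U' h =
      g.resLE U U'' (h'.trans h) := by
    rw [Scheme.Hom.resLE_comp_resLE]
    simp only [Category.id_comp]
  refine Hmap_congr (congr($(hcomp).base)) _ _ (fun V s => ?_) p x
  exact (push_comp_app _ (g.resLE U U' h).base (pullOnAb g U U' h F)
    (resAb ((Scheme.Modules.pullback g).obj F) h') V s).trans
    (resAb_pullOnAb g U U' h F U'' h' V s (congr((Opens.map $(hcomp).base).obj V)))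

end Groth.Agent.GenBC
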