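import Groth.Agent.GenBC.Free
import Groth.Agent.FlatCxLib.HomologyBC
import Groth.Agent.FlatCxLib.Reduced
import Groth.Agent.FittX.Free
import Groth.Agent.FittX.PdOne
import Mathlib.RingTheory.Localization.AtPrime.Basic

/-!
# The ideal of the stratum where the degree zero homology of a model has rank `r` and commutes with base change
-/

set_option autoImplicit false
set_option linter.style.haveILetI false
set_option linter.unusedSectionVars false
set_option backward.isDefEq.respectTransparency false
set_option backward.isDefEq.respectTransparency.types false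
set_option maxHeartbeats 2000000
set_option synthInstance.maxHeartbeats 400000

universe u

open CategoryTheory CategoryTheory.Limits TopologicalSpace
open scoped TensorProduct

noncomputable section

namespace Groth.Agent.GenBC.RankStratum

open Groth.Agent

variable {A : Type u} [CommRing A] {P : ChainComplex (ModuleCat.{u} A) ℤ}

/-- The two cokernels around degree zero. -/
abbrev CC (P : ChainComplex (ModuleCat.{u} A) ℤ) : Type u :=
  FlatCxLib.Coker P 1 0 × FlatCxLib.Coker P 0 (-1)

/-- The ideal of the stratum of rank `r`. -/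
def stratumIdeal (P : ChainComplex (ModuleCat.{u} A) ℤ) (r : ℕ) : Ideal A :=
  ⨆ k : Fin (r + Module.finrank A (P.X (-1))), Fitt.ideal A (CC P) k

theorem splitAt_of_locally {q : ℤ} (h : ∀ (𝔭 : Ideal A) [𝔭.IsPrime], ∃ r, r ∉ 𝔭 ∧ SplitAt P q r) :
    SplitAt P q 1 := by
  let d := (P.d q (q - 1)).hom
  let I : Ideal A :=
    { carrier := {r | SplitAt P q r}
      add_mem' := fun {a b} ⟨H, hH⟩ ⟨H', hH'⟩ => ⟨H + H', by
        rw [LinearMap.add_comp, LinearMap.comp_add, hH, hH', add_smul]⟩
      zero_mem' := ⟨0, by simp⟩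
      smul_mem' := fun c a ha => splitAt_mul ha c }
  have hI : I = ⊤ := by
    by_contra hne
    obtain ⟨m, hm, hle⟩ := Ideal.exists_le_maximal I hne
    obtain ⟨r, hr, hs⟩ := h m
    exact hr (hle (show r ∈ I from hs))
  exact (I.eq_top_iff_one.1 hI :)

theorem finitePresentation_coker (hfin : ∀ i, Module.Finite A (P.X i)) (hfree : ∀ i, Module.Free A (P.X i))
    (a b : ℤ) : Module.FinitePresentation A (FlatCxLib.Coker P a b) := by
  haveI := hfin a; haveI := hfin b; haveI := hfree b
  haveI : Module.FinitePresentation A (P.X b) := Module.finitePresentation_of_projective _ _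
  exact Module.finitePresentation_of_surjective _ (Submodule.mkQ_surjective _) (by
    rw [Submodule.ker_mkQ, ← Submodule.map_top]
    exact Submodule.FG.map _ Module.Finite.fg_top)

theorem flat_coker_of_splitAt (hfree : ∀ i, Module.Free A (P.X i)) {q b : ℤ} (hb : b = q - 1)
    (h : SplitAt P q 1) : Module.Flat A (FlatCxLib.Coker P q b) := by
  subst hb
  obtain ⟨H, hH⟩ := h
  let d := (P.d q (q - 1)).hom
  haveI := hfree (q - 1)
  let s : FlatCxLib.Coker P q (q - 1) →ₗ[A] P.X (q - 1) := (LinearMap.range d).liftQ (LinearMap.id - d ∘ₗ H) (by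
    rintro _ ⟨y, rfl⟩
    show d y - d (H (d y)) = 0
    rw [show d (H (d y)) = (1 : A) • d y from DFunLike.congr_fun hH y, one_smul, sub_self])
  haveI : Module.Projective A (FlatCxLib.Coker P q (q - 1)) :=
    Module.Projective.of_split s (LinearMap.range d).mkQ (by
      refine Submodule.linearMap_qext _ (LinearMap.ext fun w => ?_)
      show (LinearMap.range d).mkQ (w - d (H w)) = (LinearMap.range d).mkQ w
      rw [map_sub, Submodule.mkQ_apply (LinearMap.range d) (d (H w)),
        (Submodule.Quotient.mk_eq_zero (LinearMap.range d)).2 (LinearMap.mem_range_self d (H w)), sub_zero])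
  infer_instance

theorem splitAt_of_flat_coker (hfin : ∀ i, Module.Finite A (P.X i)) (hfree : ∀ i, Module.Free A (P.X i))
    {q b : ℤ} (hb : b = q - 1) [Module.Flat A (FlatCxLib.Coker P q b)] : SplitAt P q 1 := by
  subst hb
  haveI := finitePresentation_coker hfin hfree q (q - 1)
  haveI : Module.Projective A (FlatCxLib.Coker P q (q - 1)) := Module.Flat.projective_of_finitePresentation
  let d := (P.d q (q - 1)).hom
  let π := (LinearMap.range d).mkQ
  obtain ⟨σ, hσ⟩ := Module.projective_lifting_property π LinearMap.id (Submodule.mkQ_surjective _)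
  haveI := hfree (q - 1)
  let p : P.X (q - 1) →ₗ[A] P.X (q - 1) := LinearMap.id - σ ∘ₗ π
  have hp : ∀ x, p x ∈ LinearMap.range d := fun x => (Submodule.Quotient.mk_eq_zero (LinearMap.range d)).1 (by
    show π (x - σ (π x)) = 0
    rw [map_sub, show π (σ (π x)) = π x from DFunLike.congr_fun hσ _, sub_self])
  obtain ⟨H, hH⟩ := Module.projective_lifting_property d.rangeRestrict (LinearMap.codRestrict _ p hp)
    (LinearMap.surjective_rangeRestrict d)
  refine ⟨H, LinearMap.ext fun y => ?_⟩
  show d (H (d y)) = (1 : A) • d y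
  rw [one_smul, show d (H (d y)) = p (d y) from congrArg Subtype.val (DFunLike.congr_fun hH (d y))]
  show d y - σ (π (d y)) = d y
  rw [show π (d y) = 0 from (Submodule.Quotient.mk_eq_zero (LinearMap.range d)).2 ⟨y, rfl⟩, map_zero, sub_zero]

/-- When the homology in degree one vanishes for all coefficients the incoming cokernel is flat. -/
theorem flat_coker_in (hfree : ∀ i, Module.Free A (P.X i))
    (hT : ∀ q : ℤ, 0 < q → ∀ M : ModuleCat.{u} A, IsZero (CohIII.T P q M)) :
    Module.Flat A (FlatCxLib.Coker P 1 0) := by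
  haveI := hfree
  refine (FlatCxLib.preservesEpi_iff (fun i => inferInstance) (show (0 : ℤ) + 1 = 1 from rfl)).1 ⟨fun {M N} g _ => ?_⟩
  exact ⟨fun _ _ _ => (hT 1 one_pos N).eq_of_src _ _⟩

theorem finitePresentation_CC (hfin : ∀ i, Module.Finite A (P.X i)) (hfree : ∀ i, Module.Free A (P.X i)) :
    Module.FinitePresentation A (CC P) := by
  haveI := finitePresentation_coker hfin hfree 1 0
  haveI := finitePresentation_coker hfin hfree 0 (-1)
  infer_instance

theorem stratumIdeal_fg (hfin : ∀ i, Module.Finite A (P.X i)) (hfree : ∀ i, Module.Free A (P.X i)) (r : ℕ) :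
    (stratumIdeal P r).FG := by
  haveI := finitePresentation_CC hfin hfree
  exact Submodule.fg_iSup _ fun k => FittX.ideal_fg _

theorem fibreRank_CC (hfin : ∀ i, Module.Finite A (P.X i)) (hfree : ∀ i, Module.Free A (P.X i))
    (x : PrimeSpectrum A) :
    FlatCxLib.fibreRank (CC P) x = CohIII.dRank P 0 x + Module.finrank A (P.X (-1)) := by
  haveI := hfin; haveI := hfree
  haveI : Nontrivial A := ⟨⟨0, 1, fun h => x.isPrime.ne_top (x.asIdeal.eq_top_iff_one.2 (h ▸ zero_mem _))⟩⟩
  have h1 := FlatCxLib.dRank_add P hfin (show (0 : ℤ) + 1 = 1 from rfl) (show (-1 : ℤ) + 1 = 0 by norm_num) x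
  have h2 : FlatCxLib.fibreRank (P.X (-1)) x = Module.finrank A (P.X (-1)) :=
    Module.finrank_baseChange
  haveI : Module.Finite A (FlatCxLib.Coker P 1 0) := inferInstance
  haveI : Module.Finite A (FlatCxLib.Coker P 0 (-1)) := inferInstance
  let k := x.asIdeal.ResidueField
  have h3 : FlatCxLib.fibreRank (CC P) x =
      FlatCxLib.fibreRank (FlatCxLib.Coker P 1 0) x + FlatCxLib.fibreRank (FlatCxLib.Coker P 0 (-1)) x :=
    (TensorProduct.prodRight A k k (FlatCxLib.Coker P 1 0) (FlatCxLib.Coker P 0 (-1))).finrank_eq.trans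
      (Module.finrank_prod ..)
  omega

/-- Vanishing of the ideal and the bound on the fibres give a flat cokernel and the exact rank. -/
theorem flat_and_rank_of_map_eq_bot (hfin : ∀ i, Module.Finite A (P.X i)) (hfree : ∀ i, Module.Free A (P.X i))
    (r : ℕ) {B : Type u} [CommRing B] [Algebra A B] (hI : (stratumIdeal P r).map (algebraMap A B) = ⊥)
    (hle : ∀ y : PrimeSpectrum B, CohIII.dRank P 0 (PrimeSpectrum.comap (algebraMap A B) y) ≤ r) :
    Module.Flat B (B ⊗[A] FlatCxLib.Coker P 0 (-1)) ∧
      ∀ y : PrimeSpectrum B, CohIII.dRank P 0 (PrimeSpectrum.comap (algebraMap A B) y) = r := by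
  haveI := finitePresentation_CC hfin hfree
  let m := r + Module.finrank A (P.X (-1))
  have h0 : ∀ k, k < m → Fitt.ideal B (B ⊗[A] CC P) k = ⊥ := fun k hk => by
    rw [FittX.ideal_baseChange (TensorProduct.isBaseChange A (CC P) B) k, eq_bot_iff, ← hI]
    exact Ideal.map_mono (le_iSup (fun k : Fin m => Fitt.ideal A (CC P) k) ⟨k, hk⟩)
  have hrk : ∀ y : PrimeSpectrum B, FlatCxLib.fibreRank (B ⊗[A] CC P) y =
      CohIII.dRank P 0 (PrimeSpectrum.comap (algebraMap A B) y) + Module.finrank A (P.X (-1)) := fun y => by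
    rw [FlatCxLib.fibreRank_baseChange, fibreRank_CC hfin hfree]
  have h1 : ∀ k, m ≤ k → Fitt.ideal B (B ⊗[A] CC P) k = ⊤ := fun k hk => by
    by_contra hne
    obtain ⟨p, hp, hkp⟩ := Ideal.exists_le_maximal _ hne
    have := (FittX.not_le_iff_fiber (M := B ⊗[A] CC P) k p).2 (by
      have h := hrk ⟨p, hp.isPrime⟩
      have := hle ⟨p, hp.isPrime⟩
      change FlatCxLib.fibreRank (B ⊗[A] CC P) ⟨p, hp.isPrime⟩ ≤ k
      omega)
    exact this hkp
  have hproj : Module.Projective B (B ⊗[A] CC P) := by
    refine FittX.projective_of_free_away fun p _ => ?_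
    obtain ⟨f, hf, hfr, -⟩ := (FittX.locallyFree_iff m).2 ⟨h0, h1⟩ p
    exact ⟨f, hf, hfr⟩
  refine ⟨?_, fun y => le_antisymm (hle y) ?_⟩
  · haveI := hproj
    haveI : Module.Projective B (B ⊗[A] FlatCxLib.Coker P 0 (-1)) :=
      Module.Projective.of_split ((LinearMap.inr A (FlatCxLib.Coker P 1 0) _).baseChange B)
        ((LinearMap.snd A (FlatCxLib.Coker P 1 0) _).baseChange B)
        (by rw [← LinearMap.baseChange_comp, show (LinearMap.snd A (FlatCxLib.Coker P 1 0)
          (FlatCxLib.Coker P 0 (-1))) ∘ₗ LinearMap.inr A _ _ = LinearMap.id from LinearMap.ext fun _ => rfl,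
          LinearMap.baseChange_id])
    infer_instance
  · by_contra hlt
    have h := hrk y
    refine (FittX.not_le_iff_fiber (M := B ⊗[A] CC P) (FlatCxLib.fibreRank (B ⊗[A] CC P) y) y.asIdeal).2 le_rfl ?_
    rw [h0 _ (by omega)]
    exact bot_le

theorem free_aux (R : Type u) [CommRing R] [IsLocalRing R] (M : Type u) [AddCommGroup M] [Module R M] [Module.Finite R M]
    [Module.Flat R M] : Module.Free R M :=
  Module.free_of_flat_of_isLocalRing

/-- A flat cokernel with the exact rank kills the ideal. -/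
theorem map_eq_bot_of_flat (hfin : ∀ i, Module.Finite A (P.X i)) (hfree : ∀ i, Module.Free A (P.X i))
    (hT : ∀ q : ℤ, 0 < q → ∀ M : ModuleCat.{u} A, IsZero (CohIII.T P q M))
    (r : ℕ) {B : Type u} [CommRing B] [Algebra A B] (hflat : Module.Flat B (B ⊗[A] FlatCxLib.Coker P 0 (-1)))
    (hr : ∀ y : PrimeSpectrum B, CohIII.dRank P 0 (PrimeSpectrum.comap (algebraMap A B) y) = r) :
    (stratumIdeal P r).map (algebraMap A B) = ⊥ := by
  haveI := finitePresentation_CC hfin hfree
  haveI := flat_coker_in hfree hT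
  haveI := finitePresentation_coker hfin hfree 1 0
  haveI := finitePresentation_coker hfin hfree 0 (-1)
  haveI : Module.Projective B (B ⊗[A] FlatCxLib.Coker P 0 (-1)) := Module.Flat.projective_of_finitePresentation
  haveI : Module.Projective A (FlatCxLib.Coker P 1 0) := Module.Flat.projective_of_finitePresentation
  haveI : Module.Projective B (B ⊗[A] CC P) :=
    Module.Projective.of_equiv (TensorProduct.prodRight A B B (FlatCxLib.Coker P 1 0) (FlatCxLib.Coker P 0 (-1))).symm
  haveI : Module.Finite B (B ⊗[A] CC P) := inferInstance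
  rw [stratumIdeal, Ideal.map_iSup, iSup_eq_bot]
  intro k
  rw [← FittX.ideal_baseChange (TensorProduct.isBaseChange A (CC P) B) k, eq_bot_iff]
  intro a ha
  refine (Submodule.mem_bot B).2 (Module.eq_zero_of_localization_maximal
    (fun p _ => Localization.AtPrime p) (fun p _ => Algebra.linearMap B (Localization.AtPrime p)) a fun p hp => ?_)
  let Mp := LocalizedModule p.primeCompl (B ⊗[A] CC P)
  let Bp := Localization.AtPrime p
  haveI : Module.Finite Bp Mp := Module.Finite.of_isLocalizedModule p.primeCompl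
    (LocalizedModule.mkLinearMap p.primeCompl (B ⊗[A] CC P))
  haveI : Module.Flat Bp Mp := Module.Flat.localizedModule p.primeCompl
  haveI : Module.Free Bp Mp := free_aux Bp Mp
  have hn : Module.finrank Bp Mp = r + Module.finrank A (P.X (-1)) := by
    have h1 := FlatCxLib.fibreRank_eq_rankAtStalk (B ⊗[A] CC P) ⟨p, hp.isPrime⟩
    rw [FlatCxLib.fibreRank_baseChange, fibreRank_CC hfin hfree, hr] at h1
    exact h1.symm
  have hz : (Fitt.ideal B (B ⊗[A] CC P) k).map (algebraMap B Bp) = ⊥ := by
    rw [← FittX.ideal_baseChange (FittX.isBaseChange_mkLinearMap (B ⊗[A] CC P) p.primeCompl) k]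
    exact FittX.ideal_eq_bot_of_free _ k _ ((Module.finBasis Bp Mp).reindex (finCongr hn)) k.2
  exact (Submodule.mem_bot Bp).1 (hz ▸ Ideal.mem_map_of_mem _ ha)

/-- A free degree zero homology of rank `n` with flat outgoing cokernel gives fibres of dimension `n`. -/
theorem dRank_eq_of_free (hfree : ∀ i, Module.Free A (P.X i)) [Module.Flat A (FlatCxLib.Coker P 0 (-1))]
    {n : ℕ} (e : CohIII.T P 0 (ModuleCat.of A A) ≃ₗ[A] (ULift.{u} (Fin n) →₀ A)) (x : PrimeSpectrum A) :
    CohIII.dRank P 0 x = n := by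
  haveI := hfree
  haveI : Nontrivial A := ⟨⟨0, 1, fun h => x.isPrime.ne_top (x.asIdeal.eq_top_iff_one.2 (h ▸ zero_mem _))⟩⟩
  rw [FlatCxLib.dRank_eq_fibreRank P (fun i => inferInstance) (show (0 : ℤ) + 1 = 1 from rfl)
    (show (-1 : ℤ) + 1 = 0 by norm_num)]
  let l : FlatCxLib.Hom' P 1 0 (-1) ≃ₗ[A] (ULift.{u} (Fin n) →₀ A) :=
    (FlatCxLib.hom'EquivT (show (0 : ℤ) + 1 = 1 from rfl) (show (-1 : ℤ) + 1 = 0 by norm_num)).trans e
  haveI : Module.Free A (FlatCxLib.Hom' P 1 0 (-1)) := Module.Free.of_equiv l.symm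
  refine Module.finrank_baseChange.trans (l.finrank_eq.trans ?_)
  simp

end Groth.Agent.GenBC.RankStratum
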