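import Groth.Agent.GenBC.SectAff
import Groth.Agent.QCoh.RpushModel

/-!
# The comparison maps are linear over the functions of the base
-/

set_option autoImplicit false
set_option linter.style.haveILetI false
set_option linter.unusedSectionVars false
set_option backward.isDefEq.respectTransparency false
set_option backward.isDefEq.respectTransparency.types false
set_option maxHeartbeats 1000000

universe u

open CategoryTheory CategoryTheory.Limits AlgebraicGeometry TopologicalSpace Opposite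

noncomputable section

namespace Groth.Agent.GenBC

open Groth.Agent Groth.Agent.QCoh

variable {X Y : Scheme.{u}}

/-- A function on `U`, as an endomorphism of the underlying sheaf of a restriction. -/
abbrev smulOn (F : X.Modules) (U : X.Opens) (a : Γ(X, U)) :
    (tab U).obj (F.restrict U.ι) ⟶ (tab U).obj (F.restrict U.ι) :=
  Coh.smulAb (F.restrict U.ι) (U.topIso.inv a)

/-- Multiplication of cohomology classes over `U` by a function on `U`. -/
def actOn (F : X.Modules) (U : X.Opens) (a : Γ(X, U)) (p : ℕ) : Coh.HHon X F U p →+ Coh.HHon X F U p :=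
  Sheaf.H.map (smulOn F U a) p

theorem restrict_smul_eq (F : X.Modules) (U : X.Opens) (W : U.toScheme.Opens) (r : Γ(X, U.ι ''ᵁ W))
    (m : Γ(F, U.ι ''ᵁ W)) :
    @HSMul.hSMul Γ((U : Scheme.{u}), W) Γ(F.restrict U.ι, W) Γ(F.restrict U.ι, W) _ r m =
      (r • m : Γ(F, U.ι ''ᵁ W)) := by
  show (U.ι.appIso W).inv r • m = r • m
  rw [Scheme.Opens.ι_appIso]
  rfl

theorem smulOn_app (F : X.Modules) (U : X.Opens) (a : Γ(X, U)) (W : U.toScheme.Opens) (m : Γ(F, U.ι ''ᵁ W)) :
    (smulOn F U a).hom.app (op W) m =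
      (show Γ(F.restrict U.ι, W) from
        X.presheaf.map (homOfLE (U.ι_image_le W)).op a • m) := by
  refine (restrict_smul_eq F U W ((U : Scheme.{u}).presheaf.map (homOfLE (le_top : W ≤ ⊤)).op (U.topIso.inv a))
    m).trans ?_
  refine congrArg (· • m) ?_
  rw [Scheme.Opens.topIso_inv]
  show X.presheaf.map (U.ι.opensFunctor.map (homOfLE (le_top : W ≤ ⊤))).op (X.presheaf.map (eqToHom U.ι_image_top).op a) = _
  exact ringMap_map _ _ _

theorem smulOn_natural {F G : X.Modules} (φ : F ⟶ G) (U : X.Opens) (a : Γ(X, U)) :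
    (tab U).map ((Scheme.Modules.restrictFunctor U.ι).map φ) ≫ smulOn G U a =
      smulOn F U a ≫ (tab U).map ((Scheme.Modules.restrictFunctor U.ι).map φ) :=
  toSheaf_map_comp_smulAb' _ _

theorem actOn_natural {F G : X.Modules} (φ : F ⟶ G) (U : X.Opens) (a : Γ(X, U)) (p : ℕ)
    (x : Coh.HHon X F U p) :
    actOn G U a p (CohPull.mapH ((Scheme.Modules.restrictFunctor U.ι).map φ) p x) =
      CohPull.mapH ((Scheme.Modules.restrictFunctor U.ι).map φ) p (actOn F U a p x) :=
  (Sheaf.H.map_comp_apply _ _ _).symm.trans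
    ((congrArg (fun t => Sheaf.H.map t p x) (smulOn_natural φ U a)).trans (Sheaf.H.map_comp_apply _ _ _))

theorem actOn_extδ {S : ShortComplex X.Modules} (hS : S.ShortExact) (U : X.Opens) (a : Γ(X, U)) (p : ℕ)
    (x : Coh.HHon X S.X₃ U p) :
    actOn S.X₁ U a (p + 1) (CohCmp.extδ (toAbOn_shortExact hS U) p x) =
      CohCmp.extδ (toAbOn_shortExact hS U) p (actOn S.X₃ U a p x) :=
  extδ_natural (toAbOn_shortExact hS U) (toAbOn_shortExact hS U)
    ⟨smulOn S.X₁ U a, smulOn S.X₂ U a, smulOn S.X₃ U a,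
      (smulOn_natural S.f U a).symm, (smulOn_natural S.g U a).symm⟩ p x

theorem actOn_sectH0 (F : X.Modules) (U : X.Opens) (a : Γ(X, U)) (s : Γ(F, U)) :
    actOn F U a 0 (CohPull.sectH0 F U s) = CohPull.sectH0 F U (a • s) := by
  refine (Sheaf.H.equiv₀ _ isTerminalTop).injective ?_
  refine (Sheaf.H.equiv₀_naturality isTerminalTop _ _).symm.trans ?_
  refine (congrArg (fun t => (smulOn F U a).hom.app (op ⊤) t) (sectH0_eq F U s)).trans ?_
  refine (smulOn_app F U a ⊤ _).trans ?_
  refine Eq.trans ?_ (sectH0_eq F U (a • s)).symm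
  exact (map_smul' (M := F) (eqToHom U.ι_image_top) a s).symm

variable (f : X ⟶ Y) [HasInjectiveResolutions X.Modules]
  {Δ : RDer.DerivedLES (Scheme.Modules.pushforward f)} (E : CohCmp.SectCmp f Δ)

/-- The comparison maps are linear over the functions on the open. -/
theorem ε_actOn (V : Y.Opens) (a : Γ(Y, V)) : ∀ (p : ℕ) (F : X.Modules) (x : Coh.HHon X F (f ⁻¹ᵁ V) p),
    E.ε V F p (actOn F (f ⁻¹ᵁ V) (f.app V a) p x) =
      (a • E.ε V F p x : Γ((Coh.Rpush f p).obj F, V)) := by
  intro p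
  induction p with
  | zero =>
    intro F x
    obtain ⟨s, rfl⟩ := (CohPull.sectH0 F (f ⁻¹ᵁ V)).surjective x
    rw [actOn_sectH0, E.zero, E.zero]
    exact Scheme.Modules.Hom.app_smul ((Scheme.Modules.pushforward f).toRightDerivedZero.app F) a
      (show Γ((Scheme.Modules.pushforward f).obj F, V) from s)
  | succ p ih =>
    intro F x
    obtain ⟨S, hS, hI, rfl⟩ := exists_inj_ses F
    haveI := hI
    obtain ⟨y, rfl⟩ := extδ_surjective (toAbOn_shortExact hS (f ⁻¹ᵁ V)) p (subsingleton_HHon_inj S.X₂ _ p) x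
    rw [actOn_extδ hS, E.delta V S hS, E.delta V S hS, ih S.X₃ y]
    exact Scheme.Modules.Hom.app_smul (Δ.δ S hS p (p + 1) rfl) a (E.ε V S.X₃ p y)

end Groth.Agent.GenBC
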