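import Groth.Agent.GenBC.Pull
import Groth.Agent.GenBC.Edge
import Groth.Agent.CohBC.Sec
import Groth.Agent.QCoh.CechStd
import Groth.Agent.SiteBase.LerayDegen

/-!
# The comparison maps `H^p(f⁻¹V, F) → Γ(V, R^p f_* F)`
-/

set_option autoImplicit false
set_option linter.style.haveILetI false
set_option backward.isDefEq.respectTransparency false
set_option backward.isDefEq.respectTransparency.types false
set_option maxHeartbeats 1000000

universe u

open CategoryTheory CategoryTheory.Limits AlgebraicGeometry TopologicalSpace Opposite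

noncomputable section

namespace Groth.Agent.GenBC

open Groth.Agent Groth.Agent.QCoh

variable {X Y : Scheme.{u}} (f : X ⟶ Y) [HasInjectiveResolutions X.Modules]
  {Δ : RDer.DerivedLES (Scheme.Modules.pushforward f)} (E : CohCmp.SectCmp f Δ)

theorem subsingleton_HHon_inj (I : X.Modules) [Injective I] (U : X.Opens) (p : ℕ) :
    Subsingleton (Coh.HHon X I U (p + 1)) :=
  subsingleton_HHon_of_flasque (isFlasqueMod_of_injective I) U p

theorem isIso_toRZero (F : X.Modules) : IsIso ((Scheme.Modules.pushforward f).toRightDerivedZero.app F) := by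
  haveI := SpObjSS.enoughInjectives_of_hasInjectiveResolutions (C := X.Modules)
  haveI := QCoh.preservesFiniteLimits_push f
  infer_instance

theorem mono_RZero_map {F G : X.Modules} (φ : F ⟶ G) [Mono φ] : Mono ((Coh.Rpush f 0).map φ) := by
  haveI := QCoh.preservesFiniteLimits_push f
  haveI := isIso_toRZero f F
  haveI := isIso_toRZero f G
  haveI : Mono ((Scheme.Modules.pushforward f).toRightDerivedZero.app F ≫ (Coh.Rpush f 0).map φ) := by
    rw [← (Scheme.Modules.pushforward f).toRightDerivedZero.naturality φ]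
    infer_instance
  rw [← IsIso.inv_hom_id_assoc ((Scheme.Modules.pushforward f).toRightDerivedZero.app F) ((Coh.Rpush f 0).map φ)]
  exact mono_comp _ _

theorem resLE_resLE {V₁ V₂ V₃ : X.Opens} (h₁ : V₂ ≤ V₁) (h₂ : V₃ ≤ V₂) : ∀ (p : ℕ) (F : X.Modules)
    (x : Coh.HHon X F V₁ p),
    CohPull.resLE F h₂ p (CohPull.resLE F h₁ p x) = CohPull.resLE F (h₂.trans h₁) p x := by
  intro p
  induction p with
  | zero =>
    intro F x
    obtain ⟨s, rfl⟩ := (CohPull.sectH0 F V₁).surjective x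
    rw [resLE_sectH0, resLE_sectH0, resLE_sectH0, QCoh.map_map]
    rfl
  | succ p ih =>
    intro F x
    obtain ⟨S, hS, hI, rfl⟩ := exists_inj_ses F
    obtain ⟨y, rfl⟩ := extδ_surjective (toAbOn_shortExact hS V₁) p
      (haveI := hI; subsingleton_HHon_inj S.X₂ _ p) x
    rw [resLE_extδ hS, resLE_extδ hS, resLE_extδ hS, ih S.X₃ y]

include E in
theorem bijective_ε_zero (V : Y.Opens) (F : X.Modules) : Function.Bijective (E.ε V F 0) := by
  haveI := isIso_toRZero f F
  have h := E.zero V F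
  have hb := ConcreteCategory.bijective_of_isIso (((Scheme.Modules.pushforward f).toRightDerivedZero.app F).app V)
  refine ⟨fun a b hab => ?_, fun z => ?_⟩
  · obtain ⟨s, rfl⟩ := (CohPull.sectH0 F (f ⁻¹ᵁ V)).surjective a
    obtain ⟨t, rfl⟩ := (CohPull.sectH0 F (f ⁻¹ᵁ V)).surjective b
    exact congrArg _ (hb.1 ((h s).symm.trans (hab.trans (h t))))
  · obtain ⟨s, hs⟩ := hb.2 z
    exact ⟨CohPull.sectH0 F (f ⁻¹ᵁ V) s, (h s).trans hs⟩

/-- The comparison maps commute with restriction. -/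
theorem ε_resLE {V W : Y.Opens} (hW : W ≤ V) : ∀ (p : ℕ) (F : X.Modules) (x : Coh.HHon X F (f ⁻¹ᵁ V) p),
    E.ε W F p (CohPull.resLE F (f.preimage_mono hW) p x) =
      ((Coh.Rpush f p).obj F).presheaf.map (homOfLE hW).op (E.ε V F p x) := by
  intro p
  induction p with
  | zero =>
    intro F x
    obtain ⟨s, rfl⟩ := (CohPull.sectH0 F (f ⁻¹ᵁ V)).surjective x
    rw [resLE_sectH0, E.zero, E.zero]
    exact map_app_comm ((Scheme.Modules.pushforward f).toRightDerivedZero.app F) (homOfLE hW) s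
  | succ p ih =>
    intro F x
    obtain ⟨S, hS, hI, rfl⟩ := exists_inj_ses F
    obtain ⟨y, rfl⟩ := extδ_surjective (toAbOn_shortExact hS (f ⁻¹ᵁ V)) p
      (haveI := hI; subsingleton_HHon_inj S.X₂ _ p) x
    rw [resLE_extδ hS, E.delta W S hS, E.delta V S hS]
    rw [ih S.X₃ y]
    exact map_app_comm (Δ.δ S hS p (p + 1) rfl) (homOfLE hW) _

theorem epi_δ {S : ShortComplex X.Modules} (hS : S.ShortExact) [Injective S.X₂] (p : ℕ) :
    Epi (Δ.δ S hS p (p + 1) rfl) :=
  (Δ.exact₁ S hS p (p + 1) rfl).epi_f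
    (((Scheme.Modules.pushforward f).isZero_rightDerived_obj_injective_succ p _).eq_of_tgt _ _)

theorem exists_sec_of_exact {T : ShortComplex Y.Modules} (hT : T.Exact) {V : Y.Opens} (s : Γ(T.X₂, V))
    (hs : T.g.app V s = 0) {y : Y} (hy : y ∈ V) :
    ∃ (W : Y.Opens) (hW : W ≤ V), y ∈ W ∧ ∃ t, T.f.app W t = T.X₂.presheaf.map (homOfLE hW).op s := by
  let T' := ShortComplex.mk (kernel.ι T.g) T.g (kernel.condition _)
  haveI : Mono T'.f := inferInstanceAs (Mono (kernel.ι T.g))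
  obtain ⟨a, ha⟩ := CohBC.exists_of_exact (T := T') (ShortComplex.exact_kernel T.g) s hs
  haveI : Epi (kernel.lift T.g T.f T.zero) := hT.epi_kernelLift
  obtain ⟨O, i, hO, c, hc⟩ := exists_local_preimage (kernel.lift T.g T.f T.zero) (show Γ(kernel T.g, V) from a) hy
  refine ⟨O, i, hO, c, ?_⟩
  refine ((congr(Scheme.Modules.Hom.app $(kernel.lift_ι T.g T.f T.zero) O c)).symm.trans
    (congrArg ((kernel.ι T.g).app O) hc)).trans ?_
  refine (app_rs (kernel.ι T.g) i (show Γ(kernel T.g, V) from a)).trans ?_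
  exact congrArg _ ha

include E in
/-- Sections of higher direct images come locally from cohomology classes. -/
theorem exists_ε_eq : ∀ (p : ℕ) (F : X.Modules) (V : Y.Opens) (t : Γ((Coh.Rpush f p).obj F, V)) (y : Y), y ∈ V →
    ∃ (W : Y.Opens) (hW : W ≤ V), y ∈ W ∧ ∃ x : Coh.HHon X F (f ⁻¹ᵁ W) p,
      E.ε W F p x = ((Coh.Rpush f p).obj F).presheaf.map (homOfLE hW).op t := by
  intro p
  induction p with
  | zero =>
    intro F V t y hy
    exact ⟨V, le_rfl, hy, (bijective_ε_zero f E V F).2 _⟩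
  | succ p ih =>
    intro F V t y hy
    obtain ⟨S, hS, hI, rfl⟩ := exists_inj_ses F
    haveI := hI
    haveI := epi_δ (Δ := Δ) f hS p
    obtain ⟨O, i, hO, s, hs⟩ := exists_local_preimage (Δ.δ S hS p (p + 1) rfl) t hy
    obtain ⟨W, hW, hyW, z, hz⟩ := ih S.X₃ O s y hO
    refine ⟨W, hW.trans i, hyW, CohCmp.extδ (toAbOn_shortExact hS _) p z, ?_⟩
    refine (E.delta W S hS _ p z).trans ((congrArg _ hz).trans ?_)
    refine (map_app_comm (Δ.δ S hS p (p + 1) rfl) (homOfLE hW) s).trans ?_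
    refine (congrArg _ hs).trans ?_
    exact QCoh.map_map _ _ _

include E in
/-- Classes killed by the comparison map vanish locally. -/
theorem exists_resLE_eq_zero : ∀ (p : ℕ) (F : X.Modules) (V : Y.Opens) (x : Coh.HHon X F (f ⁻¹ᵁ V) p),
    E.ε V F p x = 0 → ∀ y ∈ V,
    ∃ (W : Y.Opens) (hW : W ≤ V), y ∈ W ∧ CohPull.resLE F (f.preimage_mono hW) p x = 0 := by
  intro p
  induction p with
  | zero =>
    intro F V x hx y hy
    refine ⟨V, le_rfl, hy, ?_⟩
    rw [(bijective_ε_zero f E V F).1 (hx.trans (map_zero _).symm), map_zero]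
  | succ p ih =>
    intro F V x hx y hy
    obtain ⟨S, hS, hI, rfl⟩ := exists_inj_ses F
    haveI := hI
    obtain ⟨z, rfl⟩ := extδ_surjective (toAbOn_shortExact hS (f ⁻¹ᵁ V)) p (subsingleton_HHon_inj S.X₂ _ p) x
    have hz : (Δ.δ S hS p (p + 1) rfl).app V (E.ε V S.X₃ p z) = 0 := (E.delta V S hS _ p z).symm.trans hx
    obtain ⟨W₁, hW₁, hy₁, w, hw⟩ := exists_sec_of_exact (Δ.exact₃ S hS p (p + 1) rfl) (E.ε V S.X₃ p z) hz hy
    obtain ⟨W₂, hW₂, hy₂, v, hv⟩ := exists_ε_eq f E p S.X₂ W₁ w y hy₁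
    let gv := CohPull.mapH ((Scheme.Modules.restrictFunctor (f ⁻¹ᵁ W₂).ι).map S.g) p v
    let z₂ := CohPull.resLE S.X₃ (f.preimage_mono (hW₂.trans hW₁)) p z
    have e : E.ε W₂ S.X₃ p (z₂ - gv) = 0 := by
      rw [map_sub, sub_eq_zero, ε_resLE f E (hW₂.trans hW₁), E.natural, hv]
      refine Eq.trans ?_ (map_app_comm ((Coh.Rpush f p).map S.g) (homOfLE hW₂) w).symm
      refine Eq.trans ?_ (congrArg _ hw).symm
      exact (QCoh.map_map _ _ _).symm
    obtain ⟨W, hW, hyW, hzero⟩ := ih S.X₃ W₂ (z₂ - gv) e y hy₂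
    refine ⟨W, hW.trans (hW₂.trans hW₁), hyW, ?_⟩
    rw [resLE_extδ hS]
    refine (extδ_eq_zero_iff (toAbOn_shortExact hS _) p _).2
      ⟨CohPull.resLE S.X₂ (f.preimage_mono hW) p v, ?_⟩
    rw [map_sub, sub_eq_zero, resLE_natural] at hzero
    refine hzero.symm.trans ?_
    exact resLE_resLE _ _ p S.X₃ z

end Groth.Agent.GenBC
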