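import Groth.Agent.GenBC.Sect

/-!
# The comparison maps over opens where the higher direct images are acyclic
-/

set_option autoImplicit false
set_option linter.style.haveILetI false
set_option linter.unusedSectionVars false
set_option backward.isDefEq.respectTransparency false
set_option backward.isDefEq.respectTransparency.types false
set_option maxHeartbeats 1000000

universe u

open CategoryTheory CategoryTheory.Limits AlgebraicGeometry TopologicalSpace Opposite

noncomputable section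

namespace Groth.Agent.GenBC

open Groth.Agent Groth.Agent.QCoh

variable {X Y : Scheme.{u}}

/-- No higher cohomology over an open. -/
def AcyOn (M : Y.Modules) (V : Y.Opens) : Prop := ∀ k : ℕ, Subsingleton (Coh.HHon Y M V (k + 1))

theorem surjective_app_of_acy {T : ShortComplex Y.Modules} (hT : T.ShortExact) {V : Y.Opens}
    (h : AcyOn T.X₁ V) : Function.Surjective (T.g.app V) := by
  have hs : Function.Surjective (T.g.app (V.ι ''ᵁ ⊤)) :=
    app_top_surjective_of_HH_one (restrict_shortExact hT V.ι) (h 0)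
  rwa [Scheme.Opens.ι_image_top] at hs

theorem acyOn_iso {M N : Y.Modules} (e : M ≅ N) {V : Y.Opens} (h : AcyOn M V) : AcyOn N V :=
  LerayDegen.acy_of_iso _ ((tab V).mapIso ((Scheme.Modules.restrictFunctor V.ι).mapIso e)) h

theorem acyOn_mid {T : ShortComplex Y.Modules} (hT : T.ShortExact) {V : Y.Opens}
    (h₁ : AcyOn T.X₁ V) (h₃ : AcyOn T.X₃ V) : AcyOn T.X₂ V :=
  LerayDegen.acy_mid _ (toAbOn_shortExact hT V) h₁ h₃

theorem acyOn_right {T : ShortComplex Y.Modules} (hT : T.ShortExact) {V : Y.Opens}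
    (h₁ : AcyOn T.X₁ V) (h₂ : AcyOn T.X₂ V) : AcyOn T.X₃ V :=
  LerayDegen.acy_right _ (toAbOn_shortExact hT V) h₁ h₂

variable (f : X ⟶ Y) [HasInjectiveResolutions X.Modules]
  {Δ : RDer.DerivedLES (Scheme.Modules.pushforward f)} (E : CohCmp.SectCmp f Δ)

theorem acyOn_RZero_inj (I : X.Modules) [Injective I] (V : Y.Opens) : AcyOn ((Coh.Rpush f 0).obj I) V := by
  haveI := isIso_toRZero f I
  have hfl : IsFlasqueMod ((Scheme.Modules.pushforward f).obj I) :=
    { epi := fun i => (isFlasqueMod_of_injective I).epi (homOfLE (f.preimage_mono i.unop.le)).op }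
  exact acyOn_iso (asIso ((Scheme.Modules.pushforward f).toRightDerivedZero.app I))
    fun k => subsingleton_HHon_of_flasque hfl V k

theorem isZero_Rpush_inj (I : X.Modules) [Injective I] (j : ℕ) : IsZero ((Coh.Rpush f (j + 1)).obj I) :=
  (Scheme.Modules.pushforward f).isZero_rightDerived_obj_injective_succ j I

theorem isIso_δ {S : ShortComplex X.Modules} (hS : S.ShortExact) [Injective S.X₂] (j : ℕ) :
    IsIso (Δ.δ S hS (j + 1) (j + 2) rfl) := by
  haveI : Mono (Δ.δ S hS (j + 1) (j + 2) rfl) :=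
    (Δ.exact₃ S hS (j + 1) (j + 2) rfl).mono_g ((isZero_Rpush_inj f S.X₂ j).eq_of_src _ _)
  haveI : Epi (Δ.δ S hS (j + 1) (j + 2) rfl) := epi_δ (Δ := Δ) f hS (j + 1)
  exact isIso_of_mono_of_epi _

/-- The kernel of the first connecting map and its two short exact sequences. -/
theorem exists_ker_ses {S : ShortComplex X.Modules} (hS : S.ShortExact) [Injective S.X₂] :
    ∃ (K : Y.Modules) (l : (Coh.Rpush f 0).obj S.X₂ ⟶ K) (i : K ⟶ (Coh.Rpush f 0).obj S.X₃)
      (w₁ : (Coh.Rpush f 0).map S.f ≫ l = 0) (w₂ : i ≫ Δ.δ S hS 0 1 rfl = 0),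
      (ShortComplex.mk _ _ w₁).ShortExact ∧ (ShortComplex.mk _ _ w₂).ShortExact ∧
        l ≫ i = (Coh.Rpush f 0).map S.g := by
  let δ := Δ.δ S hS 0 1 rfl
  let l : (Coh.Rpush f 0).obj S.X₂ ⟶ kernel δ :=
    kernel.lift δ ((Coh.Rpush f 0).map S.g) (Δ.comp_δ S hS 0 1 rfl)
  haveI : Epi l := (Δ.exact₃ S hS 0 1 rfl).epi_kernelLift
  haveI : Epi δ := epi_δ (Δ := Δ) f hS 0
  have hl : l ≫ kernel.ι δ = (Coh.Rpush f 0).map S.g := kernel.lift_ι _ _ _
  have w₁ : (Coh.Rpush f 0).map S.f ≫ l = 0 := by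
    rw [← cancel_mono (kernel.ι δ), Category.assoc, hl, zero_comp, ← Functor.map_comp, S.zero, Functor.map_zero]
  haveI := hS.mono_f
  haveI : Mono (ShortComplex.mk _ _ w₁).f := mono_RZero_map f S.f
  haveI : Epi (ShortComplex.mk _ _ w₁).g := ‹Epi l›
  haveI : Mono (ShortComplex.mk _ _ (kernel.condition δ)).f := inferInstanceAs (Mono (kernel.ι δ))
  haveI : Epi (ShortComplex.mk _ _ (kernel.condition δ)).g := ‹Epi δ›
  refine ⟨kernel δ, l, kernel.ι δ, w₁, kernel.condition δ, ?_,
    { exact := ShortComplex.exact_kernel δ }, hl⟩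
  refine { exact := ?_ }
  let φ : ShortComplex.mk _ _ w₁ ⟶ ShortComplex.mk ((Coh.Rpush f 0).map S.f) ((Coh.Rpush f 0).map S.g)
      (by rw [← Functor.map_comp, S.zero, Functor.map_zero]) :=
    { τ₁ := 𝟙 _, τ₂ := 𝟙 _, τ₃ := kernel.ι δ
      comm₁₂ := by simp
      comm₂₃ := by simp [hl] }
  haveI : Epi φ.τ₁ := inferInstanceAs (Epi (𝟙 _))
  haveI : IsIso φ.τ₂ := inferInstanceAs (IsIso (𝟙 _))
  haveI : Mono φ.τ₃ := inferInstanceAs (Mono (kernel.ι δ))
  exact (ShortComplex.exact_iff_of_epi_of_isIso_of_mono φ).2 (Δ.exact₂ S hS 0)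

theorem acyOn_cosyzygy {S : ShortComplex X.Modules} (hS : S.ShortExact) [Injective S.X₂] {V : Y.Opens}
    (h : ∀ j, AcyOn ((Coh.Rpush f j).obj S.X₁) V) (Δ : RDer.DerivedLES (Scheme.Modules.pushforward f)) :
    ∀ j, AcyOn ((Coh.Rpush f j).obj S.X₃) V
  | 0 => by
    obtain ⟨K, l, i, w₁, w₂, h₁, h₂, -⟩ := exists_ker_ses (Δ := Δ) f hS
    exact acyOn_mid h₂ (acyOn_right h₁ (h 0) (acyOn_RZero_inj f S.X₂ V)) (h 1)
  | j + 1 => by
    haveI := isIso_δ (Δ := Δ) f hS j
    exact acyOn_iso (asIso (Δ.δ S hS (j + 1) (j + 2) rfl)).symm (h (j + 2))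

include E in
/-- The comparison map is bijective where the higher direct images have no higher cohomology. -/
theorem bijective_ε : ∀ (q : ℕ) (F : X.Modules) (V : Y.Opens), (∀ j, AcyOn ((Coh.Rpush f j).obj F) V) →
    Function.Bijective (E.ε V F q) := by
  intro q
  induction q with
  | zero => exact fun F V _ => bijective_ε_zero f E V F
  | succ q ih =>
    intro F V hF
    obtain ⟨S, hS, hI, rfl⟩ := exists_inj_ses F
    haveI := hI
    have hA := toAbOn_shortExact hS (f ⁻¹ᵁ V)
    have hG := acyOn_cosyzygy f hS hF Δ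
    have hsurj : Function.Surjective ((Δ.δ S hS q (q + 1) rfl).app V) := by
      cases q with
      | zero =>
        obtain ⟨K, l, i, w₁, w₂, h₁, h₂, -⟩ := exists_ker_ses (Δ := Δ) f hS
        exact surjective_app_of_acy h₂ (acyOn_right h₁ (hF 0) (acyOn_RZero_inj f S.X₂ V))
      | succ m =>
        haveI := isIso_δ (Δ := Δ) f hS m
        exact (ConcreteCategory.bijective_of_isIso ((Δ.δ S hS (m + 1) (m + 2) rfl).app V)).2
    refine ⟨(injective_iff_map_eq_zero _).2 fun x hx => ?_, fun t => ?_⟩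
    · obtain ⟨y, rfl⟩ := extδ_surjective hA q (subsingleton_HHon_inj S.X₂ _ q) x
      have hy : (Δ.δ S hS q (q + 1) rfl).app V (E.ε V S.X₃ q y) = 0 := (E.delta V S hS hA q y).symm.trans hx
      refine (extδ_eq_zero_iff hA q y).2 ?_
      cases q with
      | zero =>
        obtain ⟨K, l, i, w₁, w₂, h₁, h₂, hli⟩ := exists_ker_ses (Δ := Δ) f hS
        haveI := h₂.mono_f
        obtain ⟨k, hk⟩ := CohBC.exists_of_exact h₂.exact (E.ε V S.X₃ 0 y) hy
        obtain ⟨z, hz⟩ := surjective_app_of_acy h₁ (hF 0) k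
        obtain ⟨w, rfl⟩ := (bijective_ε_zero f E V S.X₂).2 z
        refine ⟨w, (bijective_ε_zero f E V S.X₃).1 ?_⟩
        refine (E.natural V S.g 0 w).trans ?_
        rw [← hli]
        exact (congrArg (i.app V) hz).trans hk
      | succ m =>
        haveI := isIso_δ (Δ := Δ) f hS m
        have h0 : E.ε V S.X₃ (m + 1) y = 0 :=
          (ConcreteCategory.bijective_of_isIso ((Δ.δ S hS (m + 1) (m + 2) rfl).app V)).1
            (hy.trans (map_zero _).symm)
        exact ⟨0, (map_zero _).trans ((ih S.X₃ V hG).1 (h0.trans (map_zero _).symm)).symm⟩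
    · obtain ⟨s, rfl⟩ := hsurj t
      obtain ⟨y, rfl⟩ := (ih S.X₃ V hG).2 s
      exact ⟨CohCmp.extδ hA q y, E.delta V S hS hA q y⟩

/-- Higher direct images of quasi-coherent modules have no higher cohomology over affine opens. -/
theorem acyOn_Rpush [QuasiCompact f] [QuasiSeparated f] {F : X.Modules} (hF : Coh.IsQCoh F) {V : Y.Opens}
    (hV : IsAffineOpen V) (j : ℕ) : AcyOn ((Coh.Rpush f j).obj F) V := fun k =>
  haveI : IsAffine (V : Scheme.{u}) := hV
  subsingleton_HH_of_isAffine (isQCoh_restrict V.ι (isQCoh_Rpush f hF j)) k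

include E in
theorem bijective_ε_affine [QuasiCompact f] [QuasiSeparated f] {F : X.Modules} (hF : Coh.IsQCoh F) {V : Y.Opens}
    (hV : IsAffineOpen V) (q : ℕ) : Function.Bijective (E.ε V F q) :=
  bijective_ε f E q F V fun j => acyOn_Rpush f hF hV j

end Groth.Agent.GenBC
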